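import Mathlib

/-!
# Counting elements of a given order: the set of same-order element counts

General lemmas used for recognising a group by its order and its set of same-order element counts
(`nse`).
-/

set_option autoImplicit false

namespace Cfsg.Agent.H405.Nse

open Subgroup

variable {G : Type*} [Group G]

/-- Conjugation action of a subgroup on a set closed under conjugation. -/
@[reducible] def conjAct (P : Subgroup G) (S : Set G) (hS : ∀ p ∈ P, ∀ g ∈ S, p * g * p⁻¹ ∈ S) :
    MulAction P S where
  smul p g := ⟨p * g * (p : G)⁻¹, hS p p.2 g g.2⟩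
  one_smul g := by
    apply Subtype.ext
    show ((1 : P) : G) * g * ((1 : P) : G)⁻¹ = g
    simp
  mul_smul a b g := by
    apply Subtype.ext
    show ((a * b : P) : G) * g * ((a * b : P) : G)⁻¹ = a * (b * g * (b : G)⁻¹) * (a : G)⁻¹
    simp [mul_assoc]

/-- The number of elements of a `P`-invariant set is congruent to the number of those that commute
with `P`. -/
theorem card_modEq [Finite G] {p : ℕ} [Fact p.Prime] {P : Subgroup G} (hP : IsPGroup p P)
    (S : Set G) (hS : ∀ x ∈ P, ∀ g ∈ S, x * g * x⁻¹ ∈ S) :
    Nat.card S ≡ Nat.card {g : G // g ∈ S ∧ g ∈ centralizer (P : Set G)} [MOD p] := by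
  let _ := conjAct P S hS
  have h := hP.card_modEq_card_fixedPoints (α := S)
  refine h.trans ?_
  have e : (MulAction.fixedPoints P S) ≃ {g : G // g ∈ S ∧ g ∈ centralizer (P : Set G)} :=
    { toFun := fun g => ⟨g.1.1, g.1.2, by
        rw [mem_centralizer_iff]
        intro x hx
        have h1 : x * g.1.1 * x⁻¹ = g.1.1 := congrArg Subtype.val (g.2 ⟨x, hx⟩)
        have h2 := congrArg (· * x) h1
        simpa using h2⟩
      invFun := fun g => ⟨⟨g.1, g.2.1⟩, by
        rintro ⟨x, hx⟩
        apply Subtype.ext
        show x * g.1 * x⁻¹ = g.1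
        have h1 := (mem_centralizer_iff.mp g.2.2) x hx
        rw [h1]; simp⟩
      left_inv := fun g => rfl
      right_inv := fun g => rfl }
  rw [Nat.card_congr e]

/-- The number of elements of order `n`, modulo `p`. -/
theorem cnt_modEq [Finite G] {p : ℕ} [Fact p.Prime] {P : Subgroup G} (hP : IsPGroup p P) (n : ℕ) :
    Nat.card {g : G // orderOf g = n} ≡
      Nat.card {g : G // orderOf g = n ∧ g ∈ centralizer (P : Set G)} [MOD p] := by
  have h := card_modEq hP {g : G | orderOf g = n} (by
    intro x hx g hg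
    show orderOf (x * g * x⁻¹) = n
    have h1 : orderOf (x * g * x⁻¹) = orderOf g := by
      have := orderOf_injective (MulAut.conj x).toMonoidHom (MulAut.conj x).injective g
      simpa using this
    rw [h1]; exact hg)
  exact h

/-- The elements of order `p` in a subgroup of order `p`. -/
theorem card_orderOf_mem [Finite G] {p : ℕ} [hp : Fact p.Prime] {P : Subgroup G}
    (hP : Nat.card P = p) :
    Nat.card {g : G // orderOf g = p ∧ g ∈ P} = p - 1 := by
  have e : {g : G // orderOf g = p ∧ g ∈ P} ≃ {g : P // g ≠ 1} :=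
    { toFun := fun g => ⟨⟨g.1, g.2.2⟩, by
        intro h
        have h1 : g.1 = 1 := congrArg Subtype.val h
        have h2 := g.2.1
        rw [h1, orderOf_one] at h2
        exact hp.out.one_lt.ne h2⟩
      invFun := fun g => ⟨g.1.1, by
        refine ⟨?_, g.1.2⟩
        have h1 : orderOf g.1.1 ∣ p := by
          have := Subgroup.orderOf_dvd_natCard P g.1.2
          rwa [hP] at this
        rcases (Nat.dvd_prime hp.out).mp h1 with h | h
        · exact absurd (Subtype.ext (orderOf_eq_one_iff.mp h)) g.2
        · exact h⟩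
      left_inv := fun g => rfl
      right_inv := fun g => rfl }
  rw [Nat.card_congr e]
  have h1 : Nat.card {g : P // g ≠ 1} + 1 = Nat.card P := by
    classical
    have : Fintype P := Fintype.ofFinite _
    rw [Nat.card_eq_fintype_card, Nat.card_eq_fintype_card, Fintype.card_subtype_compl,
      Fintype.card_subtype_eq]
    have : 0 < Fintype.card P := Fintype.card_pos
    omega
  omega

/-- A subgroup of order `p` is contained in its centralizer. -/
theorem le_centralizer_of_card_prime {p : ℕ} [hp : Fact p.Prime] {P : Subgroup G}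
    (hP : Nat.card P = p) : P ≤ centralizer (P : Set G) := by
  have : IsCyclic P := isCyclic_of_prime_card hP
  intro x hx
  rw [mem_centralizer_iff]
  intro y hy
  exact congrArg Subtype.val ((IsCyclic.commGroup (α := P)).mul_comm ⟨y, hy⟩ ⟨x, hx⟩)

/-- If the Sylow `p`-subgroup `P` has order `p`, then the elements of order `p` that centralise `P`
lie in `P`. -/
theorem mem_of_centralizer [Finite G] {p : ℕ} [Fact p.Prime] (P : Sylow p G) {g : G}
    (ho : orderOf g = p) (hg : g ∈ centralizer (P : Set G)) : g ∈ (P : Subgroup G) := by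
  have hz : IsPGroup p (zpowers g) :=
    IsPGroup.of_card (n := 1) (by rw [Nat.card_zpowers, ho, pow_one])
  have hn : zpowers g ≤ normalizer (P : Set G) := by
    rw [zpowers_le]
    exact (centralizer_le_normalizer _) hg
  have h1 : IsPGroup p ((P : Subgroup G) ⊔ zpowers g : Subgroup G) :=
    P.isPGroup'.to_sup_of_normal_left' hz hn
  have h2 : ((P : Subgroup G) ⊔ zpowers g : Subgroup G) = P := P.is_maximal' h1 le_sup_left
  rw [← h2]
  exact (le_sup_right : zpowers g ≤ _) (mem_zpowers g)

/-- The number of elements of order `p`, modulo `p`, if a Sylow `p`-subgroup has order `p`. -/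
theorem cnt_prime_modEq [Finite G] {p : ℕ} [hp : Fact p.Prime] (P : Sylow p G)
    (hP : Nat.card (P : Subgroup G) = p) :
    Nat.card {g : G // orderOf g = p} ≡ p - 1 [MOD p] := by
  refine (cnt_modEq P.isPGroup' p).trans ?_
  rw [← card_orderOf_mem hP]
  have : ∀ g : G, (orderOf g = p ∧ g ∈ centralizer ((P : Subgroup G) : Set G)) ↔
      (orderOf g = p ∧ g ∈ (P : Subgroup G)) := by
    intro g
    constructor
    · rintro ⟨h1, h2⟩
      exact ⟨h1, mem_of_centralizer P h1 h2⟩
    · rintro ⟨h1, h2⟩
      exact ⟨h1, le_centralizer_of_card_prime hP h2⟩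
  rw [Nat.card_congr (Equiv.subtypeEquivRight this)]

/-- The counts modulo `p` in a group with a self-centralising subgroup of order `p`. -/
theorem cnt_mod [Finite G] {p : ℕ} [hp : Fact p.Prime] (P : Subgroup G)
    (hP : Nat.card P = p) (hC : centralizer (P : Set G) = P) (n : ℕ) :
    Nat.card {g : G // orderOf g = n} % p = if n = 1 then 1 else if n = p then p - 1 else 0 := by
  have hPp : IsPGroup p P := IsPGroup.of_card (n := 1) (by rw [hP, pow_one])
  have h := cnt_modEq hPp n
  rw [hC] at h
  have h1p := hp.out.one_lt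
  have hord : ∀ g ∈ P, orderOf g = 1 ∨ orderOf g = p := by
    intro g hg
    have h1 : orderOf g ∣ p := by
      have := Subgroup.orderOf_dvd_natCard P hg
      rwa [hP] at this
    exact (Nat.dvd_prime hp.out).mp h1
  split_ifs with h1 h2
  · have : Nat.card {g : G // orderOf g = n ∧ g ∈ P} = 1 := by
      rw [Nat.card_eq_one_iff_unique]
      constructor
      · constructor
        rintro ⟨a, ha, _⟩ ⟨b, hb, _⟩
        apply Subtype.ext
        rw [h1, orderOf_eq_one_iff] at ha hb
        exact ha.trans hb.symm
      · exact ⟨⟨1, by rw [h1, orderOf_one], P.one_mem⟩⟩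
    rw [this] at h
    rw [h, Nat.mod_eq_of_lt h1p]
  · subst h2
    rw [card_orderOf_mem hP] at h
    rw [h, Nat.mod_eq_of_lt (by omega)]
  · have : Nat.card {g : G // orderOf g = n ∧ g ∈ P} = 0 := by
      rw [Nat.card_eq_zero]
      left
      constructor
      rintro ⟨g, hg, hgP⟩
      rcases hord g hgP with h3 | h3
      · exact h1 (by rw [← hg, h3])
      · exact h2 (by rw [← hg, h3])
    rw [this] at h
    rw [h]; simp

/-- The number of elements of order `p` is `n_p (p - 1)`. -/
theorem card_orderOf_prime [Finite G] {p : ℕ} [hp : Fact p.Prime]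
    (hP : ∀ P : Sylow p G, Nat.card (P : Subgroup G) = p) :
    Nat.card {x : G // orderOf x = p} = Nat.card (Sylow p G) * (p - 1) := by
  classical
  have hord : ∀ (Q : Sylow p G) (x : G), x ∈ (Q : Subgroup G) → x ≠ 1 → orderOf x = p := by
    intro Q x hx hx1
    have h1 : orderOf x ∣ p := by
      have := Subgroup.orderOf_dvd_natCard (Q : Subgroup G) hx
      rwa [hP Q] at this
    rcases (Nat.dvd_prime hp.out).mp h1 with h | h
    · exact absurd (orderOf_eq_one_iff.mp h) hx1
    · exact h
  have hzp : ∀ (Q : Sylow p G) (x : G), x ∈ (Q : Subgroup G) → x ≠ 1 →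
      (Q : Subgroup G) = zpowers x := by
    intro Q x hx hx1
    symm
    apply Subgroup.eq_of_le_of_card_ge
    · rw [zpowers_le]; exact hx
    · rw [hP Q, Nat.card_zpowers, hord Q x hx hx1]
  let f : (Σ Q : Sylow p G, {x : G // orderOf x = p ∧ x ∈ (Q : Subgroup G)}) →
      {x : G // orderOf x = p} := fun a => ⟨a.2.1, a.2.2.1⟩
  have hne : ∀ x : G, orderOf x = p → x ≠ 1 := by
    rintro x hx rfl
    rw [orderOf_one] at hx
    exact hp.out.one_lt.ne hx
  have hf : Function.Bijective f := by
    constructor
    · rintro ⟨Q, x, hx1, hx2⟩ ⟨R, y, hy1, hy2⟩ h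
      have hxy : x = y := congrArg Subtype.val h
      subst hxy
      have hQR : Q = R := by
        apply Sylow.ext
        rw [hzp Q x hx2 (hne x hx1), hzp R x hy2 (hne x hx1)]
      subst hQR
      rfl
    · rintro ⟨x, hx⟩
      have hpg : IsPGroup p (zpowers x) :=
        IsPGroup.of_card (n := 1) (by rw [Nat.card_zpowers, hx, pow_one])
      obtain ⟨Q, hQ⟩ := hpg.exists_le_sylow
      exact ⟨⟨Q, ⟨x, hx, hQ (mem_zpowers x)⟩⟩, rfl⟩
  rw [← Nat.card_congr (Equiv.ofBijective f hf)]
  have : Fintype (Sylow p G) := Fintype.ofFinite _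
  rw [Nat.card_sigma]
  simp only [card_orderOf_mem (hP _)]
  simp

section compare

variable {M : Type*} [Group M] [Finite G] [Finite M] {p : ℕ} [hp : Fact p.Prime]

/-- The set of same-order element counts. -/
abbrev nse (G : Type*) [Group G] : Set ℕ :=
  {c : ℕ | 0 < c ∧ ∃ n : ℕ, c = Nat.card {g : G // orderOf g = n}}

/-- The residues modulo `p` of the members of `nse M`. -/
theorem nse_mod (hp2 : 2 < p) {P : Subgroup M} (hP : Nat.card P = p)
    (hC : centralizer (P : Set M) = P) {c : ℕ} (hc : c ∈ nse M) :
    (c % p = 0 ∨ c % p = 1) ∨ (c % p = p - 1 ∧ c = Nat.card {g : M // orderOf g = p}) := by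
  obtain ⟨_, n, rfl⟩ := hc
  have h := cnt_mod P hP hC n
  rw [h]
  split_ifs with h1 h2
  · left; right; rfl
  · subst h2
    right; exact ⟨rfl, rfl⟩
  · left; left; rfl

/-- The number of elements of order `p` is determined. -/
theorem cnt_eq (hp2 : 2 < p) (hnse : nse G = nse M) (Q : Sylow p G)
    (hQ : Nat.card (Q : Subgroup G) = p) {P : Subgroup M} (hP : Nat.card P = p)
    (hC : centralizer (P : Set M) = P) :
    Nat.card {g : G // orderOf g = p} = Nat.card {g : M // orderOf g = p} := by
  have h1 := cnt_prime_modEq Q hQ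
  have h1' : Nat.card {g : G // orderOf g = p} % p = p - 1 := by
    rw [h1, Nat.mod_eq_of_lt (by omega)]
  have h2 : Nat.card {g : G // orderOf g = p} ∈ nse G := by
    refine ⟨?_, p, rfl⟩
    rcases Nat.eq_zero_or_pos (Nat.card {g : G // orderOf g = p}) with h | h
    · rw [h] at h1'
      simp at h1'
      omega
    · exact h
  rw [hnse] at h2
  rcases nse_mod hp2 hP hC h2 with h | h
  · omega
  · exact h.2

/-- All Sylow `p`-subgroups have the same order. -/
theorem card_sylow_of (Q : Sylow p G) (hQ : Nat.card (Q : Subgroup G) = p) (R : Sylow p G) :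
    Nat.card (R : Subgroup G) = p :=
  (Nat.card_congr (Sylow.equiv R Q).toEquiv).trans hQ

/-- The orders of the normalizers of Sylow `p`-subgroups agree. -/
theorem card_normalizer_eq (hp2 : 2 < p) (hcard : Nat.card G = Nat.card M)
    (hnse : nse G = nse M) (Q : Sylow p G) (hQ : Nat.card (Q : Subgroup G) = p)
    (P : Sylow p M) (hP : Nat.card (P : Subgroup M) = p)
    (hC : centralizer (P : Set M) = (P : Subgroup M)) :
    Nat.card (normalizer (Q : Set G)) = Nat.card (normalizer (P : Set M)) := by
  have h1 := cnt_eq hp2 hnse Q hQ hP hC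
  rw [card_orderOf_prime (card_sylow_of Q hQ), card_orderOf_prime (card_sylow_of P hP)] at h1
  have h2 : Nat.card (Sylow p G) = Nat.card (Sylow p M) :=
    Nat.eq_of_mul_eq_mul_right (by omega) h1
  rw [Sylow.card_eq_index_normalizer Q, Sylow.card_eq_index_normalizer P] at h2
  have h3 := (normalizer (Q : Set G)).card_mul_index
  have h4 := (normalizer (P : Set M)).card_mul_index
  rw [hcard, ← h4, h2] at h3
  exact Nat.eq_of_mul_eq_mul_right (Nat.pos_of_ne_zero (index_ne_zero_of_finite)) h3

/-- The residue of the number of elements of order `p l`, if `C(P)` contains an element of order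
`p l` that generates a subgroup of index at most 2. -/
theorem cnt_mod_of_mem {m : ℕ} (hodd : Odd m) {P : Subgroup G}
    (hP : IsPGroup p P) {w : G} (hw : w ∈ centralizer (P : Set G)) (ho : orderOf w = m)
    (hi : Nat.card (centralizer (P : Set G)) ∣ 2 * m) :
    Nat.card {g : G // orderOf g = m} ≡ Nat.totient m [MOD p] := by
  refine (cnt_modEq hP m).trans ?_
  have hm : 0 < m := hodd.pos
  have hle : zpowers w ≤ centralizer (P : Set G) := by
    rw [zpowers_le]; exact hw
  -- all elements of order `m` in the centralizer lie in `zpowers w`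
  have hmem : ∀ g : G, orderOf g = m → g ∈ centralizer (P : Set G) → g ∈ zpowers w := by
    intro g hg hgC
    have h2 : (⊥ : Subgroup G).relIndex (zpowers w) * (zpowers w).relIndex
        (centralizer (P : Set G)) = (⊥ : Subgroup G).relIndex (centralizer (P : Set G)) :=
      relIndex_mul_relIndex ⊥ _ _ bot_le hle
    rw [relIndex_bot_left, relIndex_bot_left, Nat.card_zpowers, ho] at h2
    have h3 : (zpowers w).relIndex (centralizer (P : Set G)) ∣ 2 := by
      rw [← h2, mul_comm 2 m] at hi
      exact Nat.dvd_of_mul_dvd_mul_left hm hi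
    have h4 : g ^ 2 ∈ zpowers w := by
      rcases (Nat.dvd_prime Nat.prime_two).mp h3 with h | h
      · have := relIndex_eq_one.mp h
        exact pow_mem (this hgC) 2
      · have := sq_mem_of_index_two (H := (zpowers w).subgroupOf (centralizer (P : Set G))) h
          ⟨g, hgC⟩
        exact this
    obtain ⟨k, hk⟩ := hodd
    have h5 : g = (g ^ 2) ^ (k + 1) := by
      rw [← pow_mul]
      have : 2 * (k + 1) = m + 1 := by omega
      rw [this, pow_succ, ← hg, pow_orderOf_eq_one, one_mul]
    rw [h5]
    exact pow_mem h4 _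
  have e : {g : G // orderOf g = m ∧ g ∈ centralizer (P : Set G)} ≃
      {g : zpowers w // orderOf g = m} :=
    { toFun := fun g => ⟨⟨g.1, hmem g.1 g.2.1 g.2.2⟩, by
        rw [Subgroup.orderOf_mk]; exact g.2.1⟩
      invFun := fun g => ⟨g.1.1, by
        rw [Subgroup.orderOf_coe]; exact g.2, hle g.1.2⟩
      left_inv := fun g => rfl
      right_inv := fun g => rfl }
  rw [Nat.card_congr e]
  classical
  have : Fintype (zpowers w) := Fintype.ofFinite _
  have h6 : Fintype.card (zpowers w) = m := by
    rw [← Nat.card_eq_fintype_card, Nat.card_zpowers, ho]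
  have h7 := IsCyclic.card_orderOf_eq_totient (α := zpowers w) (d := m) (by rw [h6])
  rw [Nat.card_eq_fintype_card, Fintype.card_subtype, h7]

/-- If `C(P)` contains an element of prime order `l` and has order dividing `2 p l`, we get a
contradiction. -/
theorem not_dvd_centralizer (hp2 : 2 < p) {l : ℕ} (hl : l.Prime) (hlp : l ≠ p) (hl2 : l ≠ 2)
    (hnse : nse G = nse M) (Q : Sylow p G) (hQ : Nat.card (Q : Subgroup G) = p)
    {P : Subgroup M} (hP : Nat.card P = p) (hC : centralizer (P : Set M) = P)
    (hi : Nat.card (centralizer (Q : Set G)) ∣ 2 * (p * l))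
    (hr : ((p - 1) * (l - 1)) % p ≠ 0 ∧ ((p - 1) * (l - 1)) % p ≠ 1 ∧
      ((p - 1) * (l - 1)) % p ≠ p - 1) :
    ¬ l ∣ Nat.card (centralizer (Q : Set G)) := by
  intro hdvd
  have := Fact.mk hl
  obtain ⟨v, hv⟩ := exists_prime_orderOf_dvd_card' (G := centralizer (Q : Set G)) l hdvd
  obtain ⟨u, hu⟩ := exists_prime_orderOf_dvd_card' (G := (Q : Subgroup G)) p (by rw [hQ])
  have hv' : orderOf (v : G) = l := by rw [Subgroup.orderOf_coe]; exact hv
  have hu' : orderOf (u : G) = p := by rw [Subgroup.orderOf_coe]; exact hu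
  have hcomm : Commute (u : G) (v : G) := (mem_centralizer_iff.mp v.2) u u.2
  have hcop : Nat.Coprime p l := (Nat.coprime_primes hp.out hl).mpr (Ne.symm hlp)
  have ho : orderOf ((u : G) * v) = p * l := by
    rw [hcomm.orderOf_mul_eq_mul_orderOf_of_coprime (by rw [hu', hv']; exact hcop), hu', hv']
  have hw : (u : G) * v ∈ centralizer ((Q : Subgroup G) : Set G) :=
    mul_mem (le_centralizer_of_card_prime hQ u.2) v.2
  have hodd : Odd (p * l) := by
    refine Odd.mul (hp.out.odd_of_ne_two (by omega)) (hl.odd_of_ne_two hl2)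
  have h1 := cnt_mod_of_mem (p := p) hodd Q.isPGroup' hw ho hi
  rw [Nat.totient_mul hcop, Nat.totient_prime hp.out, Nat.totient_prime hl] at h1
  have h2 : Nat.card {g : G // orderOf g = p * l} ∈ nse G := by
    refine ⟨?_, p * l, rfl⟩
    rw [Nat.card_pos_iff]
    exact ⟨⟨⟨_, ho⟩⟩, inferInstance⟩
  rw [hnse] at h2
  have h3 := nse_mod hp2 hP hC h2
  rw [h1] at h3
  omega

end compare

section normal

variable [Finite G] {p : ℕ} [hp : Fact p.Prime]

/-- Frattini: a normal subgroup of order divisible by `p` has index dividing `|N(P)| / p`. -/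
theorem index_dvd (P : Sylow p G) (hP : Nat.card (P : Subgroup G) = p) {k : ℕ}
    (hN : Nat.card (normalizer (P : Set G)) = p * k) (N : Subgroup G) [N.Normal]
    (hpN : p ∣ Nat.card N) : N.index ∣ k := by
  -- `P ≤ N`
  have hPN : (P : Subgroup G) ≤ N := by
    obtain ⟨x, hx⟩ := exists_prime_orderOf_dvd_card' (G := N) p hpN
    have hx' : orderOf (x : G) = p := by rw [Subgroup.orderOf_coe]; exact hx
    have hpg : IsPGroup p (zpowers (x : G)) :=
      IsPGroup.of_card (n := 1) (by rw [Nat.card_zpowers, hx', pow_one])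
    obtain ⟨R, hR⟩ := hpg.exists_le_sylow
    have hRe : zpowers (x : G) = R := by
      apply Subgroup.eq_of_le_of_card_ge hR
      rw [Nat.card_zpowers, hx', card_sylow_of P hP R]
    have hRN : (R : Subgroup G) ≤ N := by
      rw [← hRe, zpowers_le]; exact x.2
    obtain ⟨g, hg⟩ := MulAction.exists_smul_eq G R P
    rw [← hg, Sylow.coe_subgroup_smul]
    intro y hy
    rw [Subgroup.mem_pointwise_smul_iff_inv_smul_mem] at hy
    have h1 := hRN hy
    have h2 := ‹N.Normal›.conj_mem _ h1 g
    simpa [MulAut.smul_def, mul_assoc] using h2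
  have hle : (P : Subgroup G) ≤ N ⊓ normalizer (P : Set G) :=
    le_inf hPN (le_normalizer)
  have htop : N ⊔ normalizer (P : Set G) = ⊤ := by
    have := Sylow.normalizer_sup_eq_top' P hPN
    rw [sup_comm]; exact this
  have h1 : N.relIndex (normalizer (P : Set G)) = N.index := by
    rw [← relIndex_sup_right, sup_comm, htop, relIndex_top_right]
  have h2 : (N ⊓ normalizer (P : Set G)).relIndex (normalizer (P : Set G)) = N.index := by
    rw [inf_relIndex_right, h1]
  have h3 : (⊥ : Subgroup G).relIndex (N ⊓ normalizer (P : Set G)) *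
      (N ⊓ normalizer (P : Set G)).relIndex (normalizer (P : Set G)) =
      (⊥ : Subgroup G).relIndex (normalizer (P : Set G)) :=
    relIndex_mul_relIndex ⊥ _ _ bot_le inf_le_right
  rw [relIndex_bot_left, relIndex_bot_left, h2, hN] at h3
  obtain ⟨c, hc⟩ : p ∣ Nat.card (N ⊓ normalizer (P : Set G) : Subgroup G) :=
    (dvd_of_eq hP.symm).trans (card_dvd_of_le hle)
  rw [hc, mul_assoc] at h3
  have h4 := Nat.eq_of_mul_eq_mul_left hp.out.pos h3
  exact Dvd.intro_left _ h4

/-- The order of a normal subgroup modulo `p`. -/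
theorem card_normal_modEq (P : Subgroup G) (hP : IsPGroup p P) (N : Subgroup G) [hN : N.Normal] :
    Nat.card N ≡ Nat.card (N ⊓ centralizer (P : Set G) : Subgroup G) [MOD p] :=
  card_modEq hP (N : Set G) (fun x _ g hg => hN.conj_mem g hg x)

/-- A normal subgroup of order prime to `p`. -/
theorem card_normal_mod (P : Subgroup G) (hP : Nat.card P = p)
    (hC : centralizer (P : Set G) = P) (N : Subgroup G) [N.Normal]
    (hpN : ¬ p ∣ Nat.card N) : Nat.card N % p = 1 := by
  have hPp : IsPGroup p P := IsPGroup.of_card (n := 1) (by rw [hP, pow_one])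
  have h := card_normal_modEq P hPp N
  rw [hC] at h
  have h1 : Nat.card (N ⊓ P : Subgroup G) = 1 := by
    have h2 : Nat.card (N ⊓ P : Subgroup G) ∣ p := by
      rw [← hP]; exact card_dvd_of_le inf_le_right
    rcases (Nat.dvd_prime hp.out).mp h2 with h | h
    · exact h
    · exact absurd (h ▸ card_dvd_of_le inf_le_left) hpN
  rw [h1] at h
  rw [h, Nat.mod_eq_of_lt hp.out.one_lt]

/-- The order of a Sylow `p`-subgroup of a group of order `p m`, `p ∤ m`. -/
theorem card_sylow_prime {m : ℕ} (h : Nat.card G = p * m) (hm : ¬ p ∣ m)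
    (P : Sylow p G) : Nat.card (P : Subgroup G) = p := by
  have hm0 : m ≠ 0 := by
    rintro rfl
    exact hm (dvd_zero p)
  rw [P.card_eq_multiplicity, h, Nat.factorization_mul hp.out.ne_zero hm0, Finsupp.add_apply,
    hp.out.factorization_self, Nat.factorization_eq_zero_of_not_dvd hm, pow_one]

omit [Finite G] hp in
/-- The order of the normalizer of a self-centralising subgroup. -/
theorem card_normalizer_of_relIndex {P : Subgroup G} {k : ℕ} (hP : Nat.card P = p)
    (hC : centralizer (P : Set G) = P)
    (he : (centralizer (P : Set G)).relIndex (normalizer (P : Set G)) = k) :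
    Nat.card (normalizer (P : Set G)) = p * k := by
  have h3 : (⊥ : Subgroup G).relIndex (centralizer (P : Set G)) *
      (centralizer (P : Set G)).relIndex (normalizer (P : Set G)) =
      (⊥ : Subgroup G).relIndex (normalizer (P : Set G)) :=
    relIndex_mul_relIndex ⊥ _ _ bot_le (centralizer_le_normalizer _)
  rw [relIndex_bot_left, relIndex_bot_left, he, hC, hP] at h3
  exact h3.symm

/-- A criterion for being self-centralising. -/
theorem centralizer_eq_of_prime {P : Subgroup G} {l : ℕ} (hl : l.Prime) (hP : Nat.card P = p)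
    (hN : Nat.card (normalizer (P : Set G)) = p * l)
    (hdvd : ¬ l ∣ Nat.card (centralizer (P : Set G))) :
    centralizer (P : Set G) = P := by
  have h1 := le_centralizer_of_card_prime hP
  symm
  apply Subgroup.eq_of_le_of_card_ge h1
  have h2 : Nat.card (centralizer (P : Set G)) ∣ p * l := by
    rw [← hN]; exact card_dvd_of_le (centralizer_le_normalizer _)
  have h3 : Nat.Coprime (Nat.card (centralizer (P : Set G))) l :=
    ((hl.coprime_iff_not_dvd).mpr hdvd).symm
  have h4 := h3.dvd_of_dvd_mul_right h2
  rw [hP]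
  exact Nat.le_of_dvd hp.out.pos h4

end normal

/-- A criterion for simplicity. -/
theorem simple_of_index [Finite G] (h1 : Nat.card G ≠ 1)
    (h : ∀ N : Subgroup G, N.Normal → Nat.card N = 1 ∨ N.index = 1) : IsSimpleGroup G := by
  have hnt : Nontrivial G := by
    rw [← Finite.one_lt_card_iff_nontrivial]
    have := Nat.card_pos (α := G)
    omega
  refine { exists_pair_ne := hnt.exists_pair_ne, eq_bot_or_eq_top_of_normal := ?_ }
  intro N hN
  rcases h N hN with h2 | h2
  · left; exact (Subgroup.card_eq_one).mp h2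
  · right; exact (Subgroup.index_eq_one).mp h2

end Cfsg.Agent.H405.Nse
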