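import Cfsg.Agent.H794.DefAb
import Cfsg.Agent.H123.CycTI
import Cfsg.Agent.H414.LieShape

/-!
# Simple groups of Lie type with a cyclic Sylow subgroup in the (odd) defining characteristic (helper405)
-/

set_option autoImplicit false

namespace Cfsg.Agent.H405.CycSyl

open Subgroup Cfsg

/-- A cyclic Sylow `p`-subgroup in odd defining characteristic `p` has order `p`. -/
theorem card_sylow {p : ℕ} [hp : Fact p.Prime] (hp2 : p ≠ 2) {S : Type*} [Group S] [Finite S] [IsSimpleGroup S]
    (hS : ¬ IsMulCommutative S) (h : IsLieTypeChar p S) (P : Sylow p S) (hP : IsCyclic ↥(P : Subgroup S)) :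
    Nat.card ↥(P : Subgroup S) = p := by
  have hab : IsMulCommutative (P : Subgroup S) := ⟨⟨fun a b => IsCyclic.commGroup.mul_comm a b⟩⟩
  have hdvd : p ∣ Nat.card S := (H414.LieShape.shape_of_lie hp.1 h).chr
  rcases H794.DefAb.def_row hp2 hS h with h1 | ⟨-, ⟨F, _, _, _, q, hF, -, ⟨e⟩⟩ | ⟨rfl, h1⟩⟩
  · have hd : p ∣ Nat.card ↥(P : Subgroup S) := P.dvd_card_of_dvd_card hdvd
    obtain ⟨s, hs⟩ := exists_prime_orderOf_dvd_card' p hd
    have hs' : orderOf (s : S) = p := by rw [Subgroup.orderOf_coe, hs]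
    have hsp : (s : S) ^ p = 1 := orderOf_dvd_iff_pow_eq_one.1 hs'.dvd
    have hs1 : (s : S) ≠ 1 := by
      intro h0
      rw [h0, orderOf_one] at hs'
      exact hp.1.one_lt.ne hs'
    have hsc : IsStronglyClosed (zpowers (s : S)) (P : Subgroup S) := by
      refine ⟨by rw [zpowers_le]; exact s.2, ?_⟩
      rintro _ ⟨i, rfl⟩ g hg
      refine H123.mem_of_cyclic P.2 hP (Q := zpowers (s : S)) ?_ ?_ hg ?_
      · rw [zpowers_le]; exact s.2
      · rwa [Ne, zpowers_eq_bot]
      · show (g * (s : S) ^ i * g⁻¹) ^ p = 1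
        rw [conj_pow]
        have h1 : ((s : S) ^ i) ^ p = 1 := by
          rw [← zpow_natCast, ← zpow_mul, mul_comm, zpow_mul, zpow_natCast, hsp, one_zpow]
        rw [h1, mul_one, mul_inv_cancel]
    rcases h1 P _ hsc with h1 | h1
    · rw [zpowers_eq_bot] at h1
      exact absurd h1 hs1
    · rw [← h1, Nat.card_zpowers, hs']
  · exfalso
    have : Finite (PSU 3 F q) := Quotient.finite _
    exact (H800.Sp.NotAb.of_mulEquiv e.symm (H794.PsuNotAb.notAb hF le_rfl)) P hab
  · exact absurd hab (H794.DefAb.notAb_ree h1 P)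

end Cfsg.Agent.H405.CycSyl
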