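import Cfsg.Agent.H414.Adj
import Cfsg.Agent.Solvable.FpfPGroup
import Cfsg.Agent.S0016
import Mathlib

/-!
# Primes dividing the order of a normal subgroup which are not adjacent to `p` in the prime graph (helper405)

* `isCyclic_of_rad` : `K ⊲ G`, `r ∣ |K|`, `G` has no elements of order `r p`, `p ≠ 2, r`: the `p`-subgroups of `G / K` are
  cyclic;
* `two_rad` : `{2, a, b}` a coclique of odd primes `a ≠ b`: not both `a ∣ |K|` and `2, b ∣ |G : K|`.
-/

set_option autoImplicit false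
set_option linter.unusedSectionVars false

namespace Cfsg.Agent.H405.RadGrp

open Subgroup Cfsg.Agent.H414.Adj

variable {G : Type*} [Group G] [Finite G]

/-- a lift of a `p`-subgroup of `G / K` to the normalizer of a Sylow subgroup of `K` -/
theorem exists_lift (K : Subgroup G) [K.Normal] {r : ℕ} [Fact r.Prime] (P : Sylow r ↥K) {p : ℕ} [hp : Fact p.Prime]
    (Q : Subgroup (G ⧸ K)) (hQ : IsPGroup p ↥Q) :
    ∃ T : Subgroup G, IsPGroup p ↥T ∧ T.map (QuotientGroup.mk' K) = Q ∧
      T ≤ normalizer (((P : Subgroup ↥K).map K.subtype : Subgroup G) : Set G) := by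
  classical
  set P' : Subgroup G := (P : Subgroup ↥K).map K.subtype with hP'
  set N : Subgroup G := normalizer (P' : Set G) with hN
  have hNK : N ⊔ K = ⊤ := Sylow.normalizer_sup_eq_top P
  -- the preimage of `Q`
  set Y : Subgroup G := N ⊓ Q.comap (QuotientGroup.mk' K) with hY
  have hYmap : Y.map (QuotientGroup.mk' K) = Q := by
    apply le_antisymm
    · rw [Subgroup.map_le_iff_le_comap]
      exact inf_le_right
    · intro q hq
      obtain ⟨g, rfl⟩ := QuotientGroup.mk'_surjective K q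
      have hg : g ∈ N ⊔ K := by rw [hNK]; trivial
      rw [Subgroup.mem_sup_of_normal_right] at hg
      obtain ⟨n, hn, k, hk, rfl⟩ := hg
      have h1 : QuotientGroup.mk' K (n * k) = QuotientGroup.mk' K n := by
        rw [map_mul]
        have h2 : QuotientGroup.mk' K k = 1 := (QuotientGroup.eq_one_iff k).2 hk
        rw [h2, mul_one]
      rw [h1] at hq ⊢
      exact ⟨n, Subgroup.mem_inf.2 ⟨hn, hq⟩, rfl⟩
  obtain ⟨T₀⟩ : Nonempty (Sylow p ↥Y) := inferInstance
  set T : Subgroup G := (T₀ : Subgroup ↥Y).map Y.subtype with hT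
  have hTY : T ≤ Y := by
    rw [hT]
    exact Subgroup.map_subtype_le _
  have hTp : IsPGroup p ↥T := T₀.isPGroup'.map _
  have hTmap : T.map (QuotientGroup.mk' K) = Q := by
    have hle : T.map (QuotientGroup.mk' K) ≤ Q := by rw [← hYmap]; exact Subgroup.map_mono hTY
    -- the index is prime to `p` and a power of `p`
    let f : ↥Y →* ↥Q := ((QuotientGroup.mk' K).domRestrict Y).codRestrict Q fun y => by
      rw [← hYmap]; exact ⟨y, y.2, rfl⟩
    have hf : Function.Surjective f := by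
      rintro ⟨q, hq⟩
      rw [← hYmap] at hq
      obtain ⟨y, hy, rfl⟩ := hq
      exact ⟨⟨y, hy⟩, rfl⟩
    have h1 : ((T₀ : Subgroup ↥Y).map f).index ∣ (T₀ : Subgroup ↥Y).index := Subgroup.index_map_dvd _ hf
    have h2 : ¬ p ∣ ((T₀ : Subgroup ↥Y).map f).index := fun h => T₀.not_dvd_index (h.trans h1)
    have h3 : ((T₀ : Subgroup ↥Y).map f).index = 1 := by
      obtain ⟨j, hj⟩ := hQ.index ((T₀ : Subgroup ↥Y).map f)
      rcases j with _ | j
      · rw [hj, pow_zero]
      · exfalso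
        apply h2
        rw [hj]
        exact dvd_pow_self p (by omega)
    rw [Subgroup.index_eq_one] at h3
    apply le_antisymm hle
    intro q hq
    have h4 : (⟨q, hq⟩ : ↥Q) ∈ (T₀ : Subgroup ↥Y).map f := by rw [h3]; trivial
    obtain ⟨t, ht, h5⟩ := h4
    exact ⟨t, ⟨t, ht, rfl⟩, congrArg Subtype.val h5⟩
  exact ⟨T, hTp, hTmap, hTY.trans inf_le_left⟩

/-- an `r`-element and a `p`-element commuting -/
theorem exists_order_of_commute {r p : ℕ} (hr : r.Prime) (hp : p.Prime) (hrp : r ≠ p) {x y : G}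
    (hx : r ∣ orderOf x) (hy : p ∣ orderOf y) (h : Commute x y) : ∃ z : G, orderOf z = r * p := by
  obtain ⟨x', hx', hxo⟩ := exists_order_of_dvd hx hr.ne_zero
  obtain ⟨y', hy', hyo⟩ := exists_order_of_dvd hy hp.ne_zero
  obtain ⟨k, rfl⟩ := mem_zpowers_iff.1 hx'
  obtain ⟨l, rfl⟩ := mem_zpowers_iff.1 hy'
  exact exists_order_mul_of_commute hr hp hrp hxo hyo ((h.zpow_left k).zpow_right l)

theorem dvd_orderOf_of_isPGroup {p : ℕ} [hp : Fact p.Prime] {T : Subgroup G} (hT : IsPGroup p ↥T) {x : G} (hx : x ∈ T)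
    (hx1 : x ≠ 1) : p ∣ orderOf x := by
  obtain ⟨k, hk⟩ := IsPGroup.iff_orderOf.1 hT ⟨x, hx⟩
  rw [← Subgroup.orderOf_coe] at hk
  change orderOf x = p ^ k at hk
  rw [hk]
  apply dvd_pow_self
  rintro rfl
  rw [pow_zero, orderOf_eq_one_iff] at hk
  exact hx1 hk

/-- **`p`-subgroups of `G / K` are cyclic.** -/
theorem isCyclic_of_rad (K : Subgroup G) [K.Normal] {r p : ℕ} (hr : r.Prime) (hp : p.Prime) (hp2 : p ≠ 2)
    (hrp : r ≠ p) (hrK : r ∣ Nat.card ↥K) (h : ¬ ∃ x : G, orderOf x = r * p) (Q : Subgroup (G ⧸ K))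
    (hQ : IsPGroup p ↥Q) : IsCyclic ↥Q := by
  classical
  have hr' := Fact.mk hr
  have hp' := Fact.mk hp
  obtain ⟨P⟩ : Nonempty (Sylow r ↥K) := inferInstance
  obtain ⟨T, hTp, hTmap, hTN⟩ := exists_lift K P Q hQ
  set P' : Subgroup G := (P : Subgroup ↥K).map K.subtype with hP'
  have hPp : IsPGroup r ↥P' := P.isPGroup'.map _
  have hrP : r ∣ Nat.card ↥P' := by
    rw [hP', Nat.card_congr ((P : Subgroup ↥K).equivMapOfInjective _ K.subtype_injective).symm.toEquiv]
    exact P.dvd_card_of_dvd_card hrK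
  have hP1 : P' ≠ ⊥ := by
    intro h1
    rw [h1, Subgroup.card_bot] at hrP
    exact hr.one_lt.ne' (Nat.dvd_one.1 hrP)
  have hfpf : ∀ a ∈ T, a ≠ 1 → P' ⊓ centralizer {a} = ⊥ := by
    intro a ha ha1
    rw [eq_bot_iff]
    intro x hx
    by_contra hx1
    apply h
    rw [mem_inf] at hx
    have hx1' : x ≠ 1 := fun h => hx1 (by rw [h]; exact one_mem _)
    refine exists_order_of_commute hr hp hrp (dvd_orderOf_of_isPGroup hPp hx.1 hx1')
      (dvd_orderOf_of_isPGroup hTp ha ha1) ?_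
    exact ((mem_centralizer_iff.1 hx.2) a rfl).symm
  have huniq := Cfsg.Agent.Solvable.FpfPGroup.unique_subgroup_of_fpf T P' hP1 hTN hfpf hp hTp T.subtype
    T.subtype_injective (fun x => x.2)
  have hc : IsCyclic ↥T := by
    rcases Cfsg.Agent.S0016.result p hTp huniq with h1 | ⟨h1, -⟩
    · exact h1
    · exact absurd h1 hp2
  let f : ↥T →* ↥Q := ((QuotientGroup.mk' K).domRestrict T).codRestrict Q fun y => by
    rw [← hTmap]; exact ⟨y, y.2, rfl⟩
  have hf : Function.Surjective f := by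
    rintro ⟨q, hq⟩
    rw [← hTmap] at hq
    obtain ⟨y, hy, rfl⟩ := hq
    exact ⟨⟨y, hy⟩, rfl⟩
  exact isCyclic_of_surjective f hf

/-- an involution acting without fixed points inverts -/
theorem inv_of_fpf {R : Subgroup G} {t : G} (ht : t ∈ normalizer (R : Set G)) (htt : t * t = 1)
    (hf : ∀ x ∈ R, t * x * t⁻¹ = x → x = 1) : ∀ x ∈ R, t * x * t⁻¹ = x⁻¹ := by
  intro x hx
  let φ : ↥R →* ↥R :=
    { toFun := fun y => ⟨t * y * t⁻¹, (mem_normalizer_iff.1 ht _).1 y.2⟩
      map_one' := Subtype.ext (by simp)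
      map_mul' := fun a b => Subtype.ext (by simp [mul_assoc]) }
  have hφ : ∀ y : ↥R, ((φ y : ↥R) : G) = t * y * t⁻¹ := fun y => rfl
  have hff : MonoidHom.FixedPointFree φ := by
    intro y hy
    have h1 : t * (y : G) * t⁻¹ = y := by rw [← hφ, hy]
    exact Subtype.ext (hf _ y.2 h1)
  have hinvol : Function.Involutive φ := by
    intro y
    apply Subtype.ext
    rw [hφ, hφ]
    have h1 : t * (t * (y : G) * t⁻¹) * t⁻¹ = (t * t) * y * (t * t)⁻¹ := by group
    rw [h1, htt]; group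
  have h1 := hff.coe_eq_inv_of_involutive hinvol
  have h2 := congrFun h1 ⟨x, hx⟩
  have h3 := congrArg Subtype.val h2
  rw [hφ] at h3
  exact h3

theorem card_sup_dvd (A B : Subgroup G) [A.Normal] : Nat.card ↥(A ⊔ B) ∣ Nat.card ↥A * Nat.card ↥B := by
  have h1 : A.relIndex (A ⊔ B) = A.relIndex B := by
    rw [sup_comm, Subgroup.relIndex_sup_right]
  have h2 := Subgroup.relIndex_mul_relIndex ⊥ A (A ⊔ B) bot_le le_sup_left
  rw [Subgroup.relIndex_bot_left, Subgroup.relIndex_bot_left, h1] at h2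
  rw [← h2]
  refine Nat.mul_dvd_mul_left _ ?_
  have h3 := Subgroup.relIndex_mul_relIndex ⊥ (A ⊓ B) B bot_le inf_le_right
  rw [Subgroup.inf_relIndex_right, Subgroup.relIndex_bot_left, Subgroup.relIndex_bot_left] at h3
  exact Dvd.intro_left _ h3

/-- **Inversion**: the prime 2. -/
theorem two_rad (K : Subgroup G) [K.Normal] {a b : ℕ} (ha : a.Prime) (hb : b.Prime) (ha2 : a ≠ 2) (hb2 : b ≠ 2)
    (hab : a ≠ b) (haK : a ∣ Nat.card ↥K) (h2 : 2 ∣ K.index) (hbi : b ∣ K.index) (h1 : ¬ ∃ x : G, orderOf x = a * 2)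
    (h3 : ¬ ∃ x : G, orderOf x = a * b) (h4 : ¬ ∃ x : G, orderOf x = b * 2) : False := by
  classical
  have ha' := Fact.mk ha
  have hb' := Fact.mk hb
  have h2' : Fact (Nat.Prime 2) := ⟨Nat.prime_two⟩
  obtain ⟨P⟩ : Nonempty (Sylow a ↥K) := inferInstance
  set R : Subgroup G := (P : Subgroup ↥K).map K.subtype with hR
  set N : Subgroup G := normalizer (R : Set G) with hN
  have hNK : N ⊔ K = ⊤ := Sylow.normalizer_sup_eq_top P
  have hRp : IsPGroup a ↥R := P.isPGroup'.map _
  have haR : a ∣ Nat.card ↥R := by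
    rw [hR, Nat.card_congr ((P : Subgroup ↥K).equivMapOfInjective _ K.subtype_injective).symm.toEquiv]
    exact P.dvd_card_of_dvd_card haK
  obtain ⟨c, hc⟩ := exists_prime_orderOf_dvd_card' a haR
  have hc' : orderOf (c : G) = a := by rw [Subgroup.orderOf_coe, hc]
  -- the index divides the order of `N`
  have hidx : K.index ∣ Nat.card ↥N := by
    have e1 : K.relIndex N = K.index := by
      rw [← Subgroup.relIndex_sup_right, hNK, Subgroup.relIndex_top_right]
    rw [← e1]
    have e2 := Subgroup.relIndex_mul_relIndex ⊥ (K ⊓ N) N bot_le inf_le_right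
    rw [Subgroup.inf_relIndex_right, Subgroup.relIndex_bot_left, Subgroup.relIndex_bot_left] at e2
    exact Dvd.intro_left _ e2
  -- fixed points
  have hfix : ∀ {s : ℕ}, s.Prime → a ≠ s → (¬ ∃ x : G, orderOf x = a * s) → ∀ y : G, s ∣ orderOf y →
      ∀ x ∈ R, Commute x y → x = 1 := by
    intro s hs has hns y hy x hx hxy
    by_contra hx1
    exact hns (exists_order_of_commute ha hs has (dvd_orderOf_of_isPGroup hRp hx hx1) hy hxy)
  have hc1 : (c : G) ≠ 1 := by
    intro h
    rw [h, orderOf_one] at hc'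
    exact ha.one_lt.ne hc'
  set C : Subgroup ↥N := (centralizer (R : Set G)).subgroupOf N with hC
  have hCn : C.Normal := by
    constructor
    intro x hx g
    rw [hC, mem_subgroupOf, mem_centralizer_iff] at hx ⊢
    intro z hz
    have hg := mem_normalizer_iff.1 (inv_mem g.2 : ((g : G))⁻¹ ∈ N) z
    have hz' := hg.1 hz
    rw [inv_inv] at hz'
    have h5 := hx _ hz'
    have h6 : z * ((g : G) * x * (g : G)⁻¹) = g * (((g : G)⁻¹ * z * g) * x) * (g : G)⁻¹ := by group
    have h7 : ((g : G) * x * (g : G)⁻¹) * z = g * (x * ((g : G)⁻¹ * z * g)) * (g : G)⁻¹ := by group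
    show z * ((g : G) * x * (g : G)⁻¹) = ((g : G) * x * (g : G)⁻¹) * z
    rw [h6, h7, h5]
  have hCnot : ∀ {s : ℕ}, s.Prime → a ≠ s → (¬ ∃ x : G, orderOf x = a * s) → ¬ s ∣ Nat.card ↥C := by
    intro s hs has hns hd
    have hs' := Fact.mk hs
    obtain ⟨y, hy⟩ := exists_prime_orderOf_dvd_card' s hd
    have hy' : orderOf ((y : ↥N) : G) = s := by rw [Subgroup.orderOf_coe, Subgroup.orderOf_coe, hy]
    have hyC := mem_centralizer_iff.1 (mem_subgroupOf.1 y.2) (c : G) c.2
    exact hc1 (hfix hs has hns ((y : ↥N) : G) (by rw [hy']) c c.2 hyC)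
  -- an involution of `N`
  obtain ⟨t, ht⟩ := exists_prime_orderOf_dvd_card' 2 (h2.trans hidx)
  have htG : orderOf (t : G) = 2 := by rw [Subgroup.orderOf_coe, ht]
  have hinv : ∀ s : ↥N, orderOf s = 2 → ∀ x ∈ R, (s : G) * x * (s : G)⁻¹ = x⁻¹ := by
    intro s hs
    have hsG : orderOf (s : G) = 2 := by rw [Subgroup.orderOf_coe, hs]
    refine inv_of_fpf s.2 ?_ ?_
    · have := pow_orderOf_eq_one (s : G)
      rwa [hsG, pow_two] at this
    · intro x hx hsx
      exact hfix Nat.prime_two ha2 h1 s (by rw [hsG]) x hx (mul_inv_eq_iff_eq_mul.1 hsx).symm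
  set M : Subgroup ↥N := C ⊔ zpowers t with hM
  have htM : t ∈ M := (le_sup_right : zpowers t ≤ M) (mem_zpowers t)
  have hMn : M.Normal := by
    have hconj : ∀ g : ↥N, g * t * g⁻¹ ∈ M := by
      intro g
      have hs : orderOf (g * t * g⁻¹) = 2 := by
        have := MulEquiv.orderOf_eq (MulAut.conj g) t
        rw [MulAut.conj_apply] at this
        rw [this, ht]
      have h5 : g * t * g⁻¹ * t⁻¹ ∈ C := by
        rw [hC, mem_subgroupOf, mem_centralizer_iff]
        intro x hx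
        have e1 := hinv _ hs
        have e2 := hinv _ ht
        set u : ↥N := g * t * g⁻¹ with hu
        show x * ((u : G) * (t : G)⁻¹) = ((u : G) * (t : G)⁻¹) * x
        have e3 : (u : G) * x⁻¹ = x * u := by
          have := e1 x⁻¹ (inv_mem hx)
          rw [inv_inv] at this
          exact mul_inv_eq_iff_eq_mul.1 this
        have e4 : x⁻¹ * (t : G) = t * x := (mul_inv_eq_iff_eq_mul.1 (e2 x hx)).symm
        have e5 : (t : G)⁻¹ * x = x⁻¹ * (t : G)⁻¹ := by
          have h8 : (t : G)⁻¹ * (x⁻¹ * t) * (t : G)⁻¹ = (t : G)⁻¹ * x⁻¹ := by group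
          have h9 : (t : G)⁻¹ * (t * x) * (t : G)⁻¹ = x * (t : G)⁻¹ := by group
          have h10 : (t : G)⁻¹ * x⁻¹ = x * (t : G)⁻¹ := by rw [← h8, e4, h9]
          have h11 : x⁻¹ * ((t : G)⁻¹ * x⁻¹) * x = x⁻¹ * (t : G)⁻¹ := by group
          have h12 : x⁻¹ * (x * (t : G)⁻¹) * x = (t : G)⁻¹ * x := by group
          rw [← h12, ← h10, h11]
        rw [mul_assoc, e5, ← mul_assoc, ← mul_assoc, e3]
      have h6 : g * t * g⁻¹ = (g * t * g⁻¹ * t⁻¹) * t := by group
      rw [h6]
      exact mul_mem ((le_sup_left : C ≤ M) h5) htM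
    constructor
    intro x hx g
    have h7 : M ≤ M.comap (MulAut.conj g).toMonoidHom := by
      rw [hM, sup_le_iff, zpowers_le]
      constructor
      · intro y hy
        exact (le_sup_left : C ≤ M) (hCn.conj_mem y hy g)
      · exact hconj g
    exact h7 hx
  have hMdvd : Nat.card ↥M ∣ Nat.card ↥C * 2 := by
    have := card_sup_dvd C (zpowers t)
    rwa [Nat.card_zpowers, ht] at this
  have hCodd : ¬ 2 ∣ Nat.card ↥C := hCnot Nat.prime_two ha2 h1
  have hCb : ¬ b ∣ Nat.card ↥C := hCnot hb hab h3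
  have hMb : ¬ b ∣ Nat.card ↥M := by
    intro h
    rcases hb.dvd_mul.1 (h.trans hMdvd) with h | h
    · exact hCb h
    · exact hb2 ((Nat.prime_dvd_prime_iff_eq hb Nat.prime_two).1 h)
  -- the Sylow 2-subgroup of `M`
  let t' : ↥M := ⟨t, htM⟩
  have ht' : orderOf t' = 2 := by rw [← ht, ← Subgroup.orderOf_coe]
  have hz : IsPGroup 2 ↥(zpowers t') := IsPGroup.of_card (n := 1) (by rw [Nat.card_zpowers, ht', pow_one])
  obtain ⟨T, hT⟩ := hz.exists_le_sylow
  have hTcard : Nat.card ↥(T : Subgroup ↥M) ∣ 2 := by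
    obtain ⟨k, hk⟩ := T.isPGroup'.exists_card_eq
    have h5 : Nat.card ↥(T : Subgroup ↥M) ∣ Nat.card ↥C * 2 := (Subgroup.card_subgroup_dvd_card _).trans hMdvd
    have h6 : (Nat.card ↥(T : Subgroup ↥M)).Coprime (Nat.card ↥C) := by
      rw [hk]
      exact Nat.Coprime.pow_left _ ((Nat.prime_two.coprime_iff_not_dvd).2 hCodd)
    exact h6.dvd_of_dvd_mul_left h5
  have hTz : zpowers t' = (T : Subgroup ↥M) := by
    apply Subgroup.eq_of_le_of_card_ge hT
    rw [Nat.card_zpowers, ht']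
    exact Nat.le_of_dvd (by norm_num) hTcard
  have hFr : normalizer ((((T : Subgroup ↥M).map M.subtype : Subgroup ↥N)) : Set ↥N) ⊔ M = ⊤ :=
    Sylow.normalizer_sup_eq_top T
  have hTt : ((T : Subgroup ↥M).map M.subtype : Subgroup ↥N) = zpowers t := by
    rw [← hTz, MonoidHom.map_zpowers]
    rfl
  rw [hTt] at hFr
  set Z : Subgroup ↥N := normalizer ((zpowers t : Subgroup ↥N) : Set ↥N) with hZ
  have hbZ : b ∣ Nat.card ↥Z := by
    have h5 : Nat.card ↥N ∣ Nat.card ↥M * Nat.card ↥Z := by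
      have := card_sup_dvd M Z
      rw [sup_comm, hFr, Subgroup.card_top] at this
      exact this
    exact (hb.dvd_mul.1 ((hbi.trans hidx).trans h5)).resolve_left hMb
  obtain ⟨y, hy⟩ := exists_prime_orderOf_dvd_card' b hbZ
  have hy' : orderOf (((y : ↥N)) : G) = b := by rw [Subgroup.orderOf_coe, Subgroup.orderOf_coe, hy]
  have h5 : (y : ↥N) * t * (y : ↥N)⁻¹ ∈ zpowers t := (mem_normalizer_iff.1 y.2 t).1 (mem_zpowers t)
  have h6 : (y : ↥N) * t * (y : ↥N)⁻¹ = t := by
    have h7 : (y : ↥N) * t * (y : ↥N)⁻¹ ∈ Submonoid.powers t := mem_powers_iff_mem_zpowers.2 h5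
    rw [mem_powers_iff_mem_range_orderOf, ht] at h7
    rw [Finset.mem_image] at h7
    obtain ⟨k, hk, hkt⟩ := h7
    rw [Finset.mem_range] at hk
    interval_cases k
    · exfalso
      rw [pow_zero, eq_comm, mul_inv_eq_one] at hkt
      have : t = 1 := by
        have := hkt
        exact mul_eq_left.1 this
      rw [this, orderOf_one] at ht
      norm_num at ht
    · rw [pow_one] at hkt
      exact hkt.symm
  have h7 : Commute ((y : ↥N) : G) (t : G) := by
    have := congrArg (Subtype.val : ↥N → G) h6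
    exact mul_inv_eq_iff_eq_mul.1 this
  exact h4 (exists_order_mul_of_commute hb Nat.prime_two hb2 hy' htG h7)

end Cfsg.Agent.H405.RadGrp
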