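import Cfsg.Agent.OrdDiv.Main

/-!
# The shapes of the orders of the known simple groups (helper405)

`exists_shape` : a known nonabelian simple group `S` has a name `g : OrdDiv.Grp`, with
`OrdDiv.Real g S` and the order equation `Ord g (Nat.card S)`.  For the groups of Lie type over the
field with `q` elements the equation is `den * |S| = q ^ N * f` with `den` prime to `q`
(`LieOrd den N f q |S|`).
-/

set_option autoImplicit false

namespace Cfsg.Agent.H405.Shape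

open Cfsg Cfsg.Agent.OrdDiv

universe u

/-- `den * c = q ^ N * f` with `q` a prime power and `den` prime to `q`. -/
structure LieOrd (den N f q c : ℕ) : Prop where
  pp : IsPrimePow q
  cop : Nat.Coprime den q
  eq : den * c = q ^ N * f

/-- The order equation and the range of the parameters for a name. -/
def Ord : Grp → ℕ → Prop
  | .alt n, c => 5 ≤ n ∧ n.factorial = 2 * c
  | .psl n q, c => 2 ≤ n ∧ (n = 2 → 4 ≤ q) ∧
      LieOrd (Nat.gcd n (q - 1) * (q - 1)) (n * (n - 1) / 2) (∏ i ∈ Finset.range n, (q ^ (i + 1) - 1)) q c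
  | .psp m q, c => 2 ≤ m ∧ (m = 2 → 3 ≤ q) ∧
      LieOrd (Nat.gcd 2 (q - 1)) (m ^ 2) (∏ i ∈ Finset.range m, (q ^ (2 * (i + 1)) - 1)) q c
  | .psu n q, c => 3 ≤ n ∧ ¬ (n = 3 ∧ q = 2) ∧
      LieOrd (Nat.gcd n (q + 1) * (q + 1)) (n * (n - 1) / 2)
        (∏ i ∈ Finset.range n, (if Even i then q ^ (i + 1) + 1 else q ^ (i + 1) - 1)) q c
  | .oodd m q, c => 3 ≤ m ∧ Odd q ∧
      LieOrd 2 (m ^ 2) (∏ i ∈ Finset.range m, (q ^ (2 * (i + 1)) - 1)) q c
  | .oplus m q, c => 4 ≤ m ∧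
      LieOrd (Nat.gcd 4 (q ^ m - 1)) (m * (m - 1))
        ((q ^ m - 1) * ∏ i ∈ Finset.range (m - 1), (q ^ (2 * (i + 1)) - 1)) q c
  | .ominus m q, c => 4 ≤ m ∧
      LieOrd (Nat.gcd 4 (q ^ m + 1)) (m * (m - 1))
        ((q ^ m + 1) * ∏ i ∈ Finset.range (m - 1), (q ^ (2 * (i + 1)) - 1)) q c
  | .g2 q, c => 3 ≤ q ∧ LieOrd 1 6 ((q ^ 2 - 1) * (q ^ 6 - 1)) q c
  | .f4 q, c => LieOrd 1 24 ((q ^ 2 - 1) * (q ^ 6 - 1) * (q ^ 8 - 1) * (q ^ 12 - 1)) q c
  | .e6 q, c => LieOrd (Nat.gcd 3 (q - 1)) 36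
      ((q ^ 2 - 1) * (q ^ 5 - 1) * (q ^ 6 - 1) * (q ^ 8 - 1) * (q ^ 9 - 1) * (q ^ 12 - 1)) q c
  | .e7 q, c => LieOrd (Nat.gcd 2 (q - 1)) 63
      ((q ^ 2 - 1) * (q ^ 6 - 1) * (q ^ 8 - 1) * (q ^ 10 - 1) * (q ^ 12 - 1) * (q ^ 14 - 1) *
        (q ^ 18 - 1)) q c
  | .e8 q, c => LieOrd 1 120
      ((q ^ 2 - 1) * (q ^ 8 - 1) * (q ^ 12 - 1) * (q ^ 14 - 1) * (q ^ 18 - 1) * (q ^ 20 - 1) *
        (q ^ 24 - 1) * (q ^ 30 - 1)) q c
  | .te6 q, c => LieOrd (Nat.gcd 3 (q + 1)) 36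
      ((q ^ 2 - 1) * (q ^ 5 + 1) * (q ^ 6 - 1) * (q ^ 8 - 1) * (q ^ 9 + 1) * (q ^ 12 - 1)) q c
  | .td4 q, c => LieOrd 1 12 ((q ^ 2 - 1) * (q ^ 6 - 1) * (q ^ 8 + q ^ 4 + 1)) q c
  | .sz q, c => (∃ m, 1 ≤ m ∧ q = 2 ^ (2 * m + 1)) ∧ LieOrd 1 2 ((q - 1) * (q ^ 2 + 1)) q c
  | .ree q, c => (∃ m, 1 ≤ m ∧ q = 3 ^ (2 * m + 1)) ∧ LieOrd 1 3 ((q - 1) * (q ^ 3 + 1)) q c
  | .tf4 q, c => (∃ m, 1 ≤ m ∧ q = 2 ^ (2 * m + 1)) ∧
      LieOrd 1 12 ((q - 1) * (q ^ 3 + 1) * (q ^ 4 - 1) * (q ^ 6 + 1)) q c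
  | g, c => (g, c) ∈ spor

theorem glN_eq (n q : ℕ) (hn : 1 ≤ n) :
    glN n q = q ^ (n * (n - 1) / 2) * ∏ i ∈ Finset.range n, (q ^ (i + 1) - 1) := by
  unfold glN
  rw [prod_list, ← Finset.sum_range_id, ← Finset.prod_pow_eq_pow_sum,
    ← Finset.prod_range_reflect (fun i => q ^ (i + 1) - 1) n, ← Finset.prod_mul_distrib]
  apply Finset.prod_congr rfl
  intro i hi
  rw [Finset.mem_range] at hi
  rw [Nat.mul_sub, mul_one, ← pow_add]
  congr 2
  omega

theorem psl_ord {F : Type} [Field F] [Fintype F] {n : ℕ} (hn : 2 ≤ n)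
    (hn2 : n = 2 → 4 ≤ Fintype.card F) :
    Ord (.psl n (Fintype.card F)) (Nat.card (Matrix.ProjectiveSpecialLinearGroup (Fin n) F)) := by
  have hq : 1 < Fintype.card F := Fintype.one_lt_card
  refine ⟨hn, hn2, Fintype.isPrimePow_card_of_field, ?_, ?_⟩
  · have h1 := cop_sub (q := Fintype.card F) (k := 1) (by omega) le_rfl
    rw [pow_one] at h1
    exact Nat.Coprime.mul_left (Nat.Coprime.coprime_dvd_left (Nat.gcd_dvd_right _ _) h1) h1
  · have h := S0243.result (F := F) rfl n hn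
    rw [Fin.prod_univ_eq_prod_range (fun i => Fintype.card F ^ n - Fintype.card F ^ i) n,
      ← prod_list] at h
    rw [← glN_eq n _ (by omega), mul_assoc]
    exact h

theorem psp_ord {F : Type} [Field F] [Fintype F] {m : ℕ} (hm : 2 ≤ m)
    (hm2 : m = 2 → 3 ≤ Fintype.card F) :
    Ord (.psp m (Fintype.card F)) (Nat.card (PSp m F)) := by
  have hq : 1 < Fintype.card F := Fintype.one_lt_card
  refine ⟨hm, hm2, Fintype.isPrimePow_card_of_field, ?_, ?_⟩
  · have h1 := cop_sub (q := Fintype.card F) (k := 1) (by omega) le_rfl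
    rw [pow_one] at h1
    exact Nat.Coprime.coprime_dvd_left (Nat.gcd_dvd_right _ _) h1
  · have h1 := S0245.result (F := F) rfl m
    have h2 := S0246.result (F := F) rfl m (by omega)
    have h3 := Subgroup.card_eq_card_quotient_mul_card_subgroup
      (Subgroup.center (Matrix.symplecticGroup (Fin m) F))
    rw [h1, h2] at h3
    rw [mul_comm]
    exact h3.symm

theorem psu_ord {F : Type} [Field F] [Fintype F] {n q : ℕ} (hF : Fintype.card F = q ^ 2)
    (hn : 3 ≤ n) (hn2 : ¬ (n = 3 ∧ q = 2)) :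
    Ord (.psu n q) (Nat.card (PSU n F q)) := by
  have hq2 : IsPrimePow (q ^ 2) := hF ▸ Fintype.isPrimePow_card_of_field
  have hqp : IsPrimePow q := (isPrimePow_pow_iff (by norm_num)).1 hq2
  refine ⟨hn, hn2, hqp, ?_, ?_⟩
  · have h1 := cop_add (q := q) (k := 1) le_rfl
    rw [pow_one] at h1
    exact Nat.Coprime.mul_left (Nat.Coprime.coprime_dvd_left (Nat.gcd_dvd_right _ _) h1) h1
  · have h := S0280.result hF n (by omega)
    rw [mul_assoc]
    exact h

theorem oodd_ord {F : Type} [Field F] [Fintype F] {m : ℕ} (hm : 3 ≤ m)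
    (ho : Odd (Fintype.card F)) :
    Ord (.oodd m (Fintype.card F)) (Nat.card (POmega F (quadFormOdd m F))) := by
  refine ⟨hm, ho, Fintype.isPrimePow_card_of_field, (Nat.coprime_two_left).2 ho, ?_⟩
  exact S0292.result (F := F) rfl ho m hm

theorem oplus_ord {F : Type} [Field F] [Fintype F] {m : ℕ} (hm : 4 ≤ m) :
    Ord (.oplus m (Fintype.card F)) (Nat.card (POmega F (quadFormPlus m F))) := by
  have hq : 1 < Fintype.card F := Fintype.one_lt_card
  refine ⟨hm, Fintype.isPrimePow_card_of_field, ?_, ?_⟩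
  · exact Nat.Coprime.coprime_dvd_left (Nat.gcd_dvd_right _ _) (cop_sub (by omega) (by omega))
  · have h := S0293.result (F := F) rfl m hm
    rw [← mul_assoc (Fintype.card F ^ (m * (m - 1)))]
    exact h

theorem ominus_ord {F : Type} [Field F] [Fintype F] {m : ℕ} (hm : 4 ≤ m) {a b : F}
    (hab : ∀ z₁ z₂ : F, z₁ ^ 2 + a * z₁ * z₂ + b * z₂ ^ 2 = 0 → z₁ = 0 ∧ z₂ = 0) :
    Ord (.ominus m (Fintype.card F)) (Nat.card (POmega F (quadFormMinus (m - 1) F a b))) := by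
  refine ⟨hm, Fintype.isPrimePow_card_of_field, ?_, ?_⟩
  · exact Nat.Coprime.coprime_dvd_left (Nat.gcd_dvd_right _ _) (cop_add (by omega))
  · have h := S0294.result (F := F) rfl m hm a b hab
    rw [← mul_assoc (Fintype.card F ^ (m * (m - 1)))]
    exact h

/-- the name, realization and order equation -/
def HasShape (S : Type u) [Group S] : Prop := ∃ g : Grp, Real g S ∧ Ord g (Nat.card S)

/-- **The shapes**: name, realization and order equation of a nonabelian known simple group. -/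
theorem exists_shape (T : OrderTable.{u}) {S : Type u} [Group S] (h : IsKnownSimple' S)
    (hna : ¬ ∀ a b : S, a * b = b * a) : ∃ g : Grp, Real g S ∧ Ord g (Nat.card S) := by
  have key : ∀ (g : Grp) (o : ℕ), (g, o) ∈ spor → (∀ c : ℕ, Ord g c ↔ (g, c) ∈ spor) → Real g S →
      ∃ g : Grp, Real g S ∧ Ord g (Nat.card S) := fun g o hg hO hr =>
    ⟨g, hr, (hO _).2 (by rw [T.spor S (g, o) hg hr]; exact hg)⟩
  have hpp : ∀ (F : Type) [Field F] [Fintype F], IsPrimePow (Fintype.card F) :=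
    fun F _ _ => Fintype.isPrimePow_card_of_field
  have h2pp : ∀ m : ℕ, IsPrimePow (2 ^ (2 * m + 1)) := fun m => Nat.prime_two.isPrimePow.pow (by omega)
  have h3pp : ∀ m : ℕ, IsPrimePow (3 ^ (2 * m + 1)) := fun m => Nat.prime_three.isPrimePow.pow (by omega)
  rcases h with h | h | h | h | h | h | h | h | h | h
  · exfalso
    have : Fact (Nat.card S).Prime := ⟨h⟩
    have : IsCyclic S := isCyclic_of_prime_card (p := Nat.card S) rfl
    exact hna fun a b => (IsCyclic.isMulCommutative (α := S)).is_comm.comm a b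
  · obtain ⟨n, hn, ⟨e⟩⟩ := h
    exact ⟨.alt n, ⟨e⟩, hn, alt_card hn e⟩
  · obtain ⟨F, _, _, n, hn, hn2, ⟨e⟩⟩ := h
    exact ⟨.psl n (Fintype.card F), ⟨F, inferInstance, inferInstance, rfl, ⟨e⟩⟩,
      by rw [Nat.card_congr e.toEquiv]; exact psl_ord hn hn2⟩
  · obtain ⟨F, _, _, n, hn, hn2, ⟨e⟩⟩ := h
    exact ⟨.psp n (Fintype.card F), ⟨F, inferInstance, inferInstance, rfl, ⟨e⟩⟩,
      by rw [Nat.card_congr e.toEquiv]; exact psp_ord hn hn2⟩
  · obtain ⟨F, _, _, n, q, hF, hn, hn2, ⟨e⟩⟩ := h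
    exact ⟨.psu n q, ⟨F, inferInstance, inferInstance, hF, ⟨e⟩⟩,
      by rw [Nat.card_congr e.toEquiv]; exact psu_ord hF hn hn2⟩
  · obtain ⟨F, _, _, n, hn, ho, ⟨e⟩⟩ := h
    exact ⟨.oodd n (Fintype.card F), ⟨F, inferInstance, inferInstance, rfl, ⟨e⟩⟩,
      by rw [Nat.card_congr e.toEquiv]; exact oodd_ord hn ho⟩
  · obtain ⟨F, _, _, n, hn, ⟨e⟩⟩ := h
    exact ⟨.oplus n (Fintype.card F), ⟨F, inferInstance, inferInstance, rfl, ⟨e⟩⟩,
      by rw [Nat.card_congr e.toEquiv]; exact oplus_ord hn⟩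
  · obtain ⟨F, _, _, n, a, b, hn, hab, ⟨e⟩⟩ := h
    exact ⟨.ominus n (Fintype.card F), ⟨F, inferInstance, inferInstance, a, b, rfl, hab, ⟨e⟩⟩,
      by rw [Nat.card_congr e.toEquiv]; exact ominus_ord hn hab⟩
  · rcases h with h | h | h | h | h | h | h | h | h | h | h
    · obtain ⟨F, _, _, hq, ⟨e⟩⟩ := h
      exact ⟨.g2 (Fintype.card F), ⟨F, inferInstance, inferInstance, rfl, ⟨e⟩⟩, hq, hpp F,
        Nat.coprime_one_left _, by rw [Nat.card_congr e.toEquiv, T.g2 F]; ring⟩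
    · obtain ⟨F, _, _, ⟨e⟩⟩ := h
      exact ⟨.f4 (Fintype.card F), ⟨F, inferInstance, inferInstance, rfl, ⟨e⟩⟩, hpp F,
        Nat.coprime_one_left _, by rw [Nat.card_congr e.toEquiv, T.f4 F _ rfl]; ring⟩
    · obtain ⟨F, _, _, ⟨e⟩⟩ := h
      have h0 := cop_sub (q := Fintype.card F) (k := 1) Fintype.card_pos le_rfl
      rw [pow_one] at h0
      exact ⟨.e6 (Fintype.card F), ⟨F, inferInstance, inferInstance, rfl, ⟨e⟩⟩, hpp F,
        Nat.Coprime.coprime_dvd_left (Nat.gcd_dvd_right _ _) h0,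
        by rw [Nat.card_congr e.toEquiv, T.e6 F _ rfl]; ring⟩
    · obtain ⟨F, _, _, ⟨e⟩⟩ := h
      have h0 := cop_sub (q := Fintype.card F) (k := 1) Fintype.card_pos le_rfl
      rw [pow_one] at h0
      exact ⟨.e7 (Fintype.card F), ⟨F, inferInstance, inferInstance, rfl, ⟨e⟩⟩, hpp F,
        Nat.Coprime.coprime_dvd_left (Nat.gcd_dvd_right _ _) h0,
        by rw [Nat.card_congr e.toEquiv, T.e7 F _ rfl]; ring⟩
    · obtain ⟨F, _, _, ⟨e⟩⟩ := h
      exact ⟨.e8 (Fintype.card F), ⟨F, inferInstance, inferInstance, rfl, ⟨e⟩⟩, hpp F,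
        Nat.coprime_one_left _, by rw [Nat.card_congr e.toEquiv, T.e8 F _ rfl]; ring⟩
    · obtain ⟨F, _, _, q, hq, hF, ⟨e⟩⟩ := h
      have h0 := cop_add (q := q) (k := 1) le_rfl
      rw [pow_one] at h0
      exact ⟨.te6 q, ⟨F, inferInstance, inferInstance, hF, ⟨e⟩⟩, hq,
        Nat.Coprime.coprime_dvd_left (Nat.gcd_dvd_right _ _) h0,
        by rw [Nat.card_congr e.toEquiv, T.te6 F q hq hF]; ring⟩
    · obtain ⟨F, _, _, q, hq, hF, ⟨e⟩⟩ := h
      exact ⟨.td4 q, ⟨F, inferInstance, inferInstance, hF, ⟨e⟩⟩, hq,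
        Nat.coprime_one_left _, by rw [Nat.card_congr e.toEquiv, T.td4 F q hq hF]; ring⟩
    · obtain ⟨F, _, _, m, hm, hF, ⟨e⟩⟩ := h
      exact ⟨.sz (2 ^ (2 * m + 1)), ⟨F, inferInstance, inferInstance, m, hm, hF, rfl, ⟨e⟩⟩,
        ⟨m, hm, rfl⟩, h2pp m, Nat.coprime_one_left _,
        by rw [Nat.card_congr e.toEquiv, T.sz F m hm hF]; ring⟩
    · obtain ⟨F, _, _, m, hm, hF, ⟨e⟩⟩ := h
      exact ⟨.ree (3 ^ (2 * m + 1)), ⟨F, inferInstance, inferInstance, m, hm, hF, rfl, ⟨e⟩⟩,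
        ⟨m, hm, rfl⟩, h3pp m, Nat.coprime_one_left _,
        by rw [Nat.card_congr e.toEquiv, T.ree F m hm hF]; ring⟩
    · obtain ⟨F, _, _, m, hm, hF, ⟨e⟩⟩ := h
      exact ⟨.tf4 (2 ^ (2 * m + 1)), ⟨F, inferInstance, inferInstance, m, hm, hF, rfl, ⟨e⟩⟩,
        ⟨m, hm, rfl⟩, h2pp m, Nat.coprime_one_left _,
        by rw [Nat.card_congr e.toEquiv, T.tf4 F m hm hF]; ring⟩
    · exact key .tits 17971200 (by decide) (fun c => Iff.rfl) h
  · rcases h with h | h | h | h | h | h | h | h | h | h | h | h | h | h | h | h | h | h | h | h | h |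
      h | h | h | h | h
    · exact key .m11 7920 (by decide) (fun c => Iff.rfl) h
    · exact key .m12 95040 (by decide) (fun c => Iff.rfl) h
    · exact key .m22 443520 (by decide) (fun c => Iff.rfl) h
    · exact key .m23 10200960 (by decide) (fun c => Iff.rfl) h
    · exact key .m24 244823040 (by decide) (fun c => Iff.rfl) h
    · exact key .j1 175560 (by decide) (fun c => Iff.rfl) h
    · exact key .j2 604800 (by decide) (fun c => Iff.rfl) h
    · exact key .j3 50232960 (by decide) (fun c => Iff.rfl) h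
    · exact key .j4 86775571046077562880 (by decide) (fun c => Iff.rfl) h
    · exact key .co1 4157776806543360000 (by decide) (fun c => Iff.rfl) h
    · exact key .co2 42305421312000 (by decide) (fun c => Iff.rfl) h
    · exact key .co3 495766656000 (by decide) (fun c => Iff.rfl) h
    · exact key .mcl 898128000 (by decide) (fun c => Iff.rfl) h
    · exact key .hs 44352000 (by decide) (fun c => Iff.rfl) h
    · exact key .suz 448345497600 (by decide) (fun c => Iff.rfl) h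
    · exact key .he 4030387200 (by decide) (fun c => Iff.rfl) h
    · exact key .ru 145926144000 (by decide) (fun c => Iff.rfl) h
    · exact key .on 460815505920 (by decide) (fun c => Iff.rfl) h
    · exact key .ly 51765179004000000 (by decide) (fun c => Iff.rfl) h
    · exact key .fi22 64561751654400 (by decide) (fun c => Iff.rfl) h
    · exact key .fi23 4089470473293004800 (by decide) (fun c => Iff.rfl) h
    · exact key .fi24 1255205709190661721292800 (by decide) (fun c => Iff.rfl) h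
    · exact key .hn 273030912000000 (by decide) (fun c => Iff.rfl) h
    · exact key .th 90745943887872000 (by decide) (fun c => Iff.rfl) h
    · exact key .b 4154781481226426191177580544000000 (by decide) (fun c => Iff.rfl) h
    · exact key .m 808017424794512875886459904961710757005754368000000000 (by decide) (fun c => Iff.rfl) h

end Cfsg.Agent.H405.Shape
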