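import Cfsg.Agent.H403.LinTwo

/-!
# `r_n`, `r_{n-1}` are not joined to the characteristic in `PSL_n(q)`, `PSU_n(q)` (helper405)
-/

set_option autoImplicit false
set_option linter.unusedSectionVars false

namespace Cfsg.Agent.H405.RpAdj

open Polynomial Function Cfsg.Agent.H403 Cfsg.Agent.H403.NumTop

variable {F : Type*} [Field F] [Fintype F] {E : Type*} [Field E] [IsAlgClosed E] [Algebra F E]
variable {e : Bool} {n q : ℕ} {L : Type*} [Group L]

/-- **`r_n`, `r_{n-1}` are not joined to the characteristic `p`.** -/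
theorem not_char (hL : Lin E L e n q F) (hF : Fintype.card F = q ^ (cond e 0 1 + 1)) {p : ℕ} [hp : Fact p.Prime]
    [hc : CharP F p] (hn : 3 ≤ n) {r i : ℕ} (hr : r.Prime) (hi : orderOf ((xv e q : ℤ) : ZMod r) = i)
    (hin : i = n ∨ i = n - 1) : ¬ ∃ g : L, orderOf g = r * p := by
  classical
  rintro ⟨g, hg⟩
  have hq : 2 ≤ q := two_le_of_card hF
  obtain ⟨M, hdet, hM, hMk⟩ := hL g
  obtain ⟨ζ, hζ, hζ0, hζ1, hA, y, hy, hyA⟩ := nontriv hF (by omega) hM hMk hr hp.1.pos
    (not_dvd_AA_one (by omega) hi (by omega)) (not_dvd_q hr hi (by omega)) hg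
  have hcard : Multiset.card (evs E M) = n := by rw [card_evs, Fintype.card_fin]
  have hper : per (xv e q) y = i := per_eq hM hy hr hi (hA y hy) hyA (by omega)
  have hy0 := hM.ne_zero hy
  have hcE : CharP E p := charP_of_injective_algebraMap (algebraMap F E).injective p
  have hinj : ∀ a b : E, a ^ p = b ^ p → a = b := fun a b hab => frobenius_inj E p hab
  have hsq : ∀ z ∈ evs E M, (z ^ r) ^ p = algebraMap F E ζ := fun z hz => by
    rw [← pow_mul]; exact pow_of_mem_evs E hζ hz
  have hall : ∀ z ∈ evs E M, z ^ r = y ^ r := fun z hz => hinj _ _ ((hsq z hz).trans (hsq y hy).symm)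
  have hfix : (y ^ r) ^ xv e q = y ^ r := by
    have h1 := hall _ (hM.mem hy)
    rwa [zpow_pow_comm] at h1
  refine contra_two hF hMk hr hp.1 ?_ hg (pow_ne_zero _ hy0) hfix hall
  rcases hin with hin | hin
  · rw [eq_orb hM hy (by rw [hcard, hper, hin])]
    exact orb_nodup _ _
  · obtain ⟨μ, hR, hμ⟩ := eq_cons_orb hM hy (by rw [hcard, hper]; omega)
    rw [hR, Multiset.nodup_cons]
    exact ⟨notMem_orb hM (by omega) hμ, orb_nodup _ _⟩

end Cfsg.Agent.H405.RpAdj
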