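import Cfsg.Agent.H403.LinTor
import Cfsg.Agent.H403.NumSporMain
import Cfsg.Agent.H405.RpAdj
import Cfsg.Agent.H405.FamSyl
import Cfsg.Agent.H426.LieEx
import Cfsg.Agent.H414.Adj

/-!
# Groups isospectral to `PSL_n(q)`, `PSU_n(q)`: the data (helper405)
-/

set_option autoImplicit false

namespace Cfsg.Agent.H405.Setup

open Cfsg Cfsg.Agent.H403 Cfsg.Agent.H403.NumTop Cfsg.Agent.H414.LieShape Cfsg.Agent.H426.LieFam Cfsg.Agent.H436

/-- `L = PSL_n(q)` or `PSU_n(q)`, `q = p ^ k`, and `G` has the same element orders -/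
structure Dat (p : ℕ) (e : Bool) (n k : ℕ) (F : Type) [Field F] [Fintype F] (L : Type*) [Group L] (G : Type*)
    [Group G] : Prop where
  hp : p.Prime
  hch : CharP F p
  hn : 4 ≤ n
  hk : 1 ≤ k
  hsm : ¬ (e = false ∧ n = 4 ∧ p ^ k = 2)
  hF : Fintype.card F = (p ^ k) ^ (cond e 0 1 + 1)
  hL : IsL L e n (p ^ k) F
  hsp : ∀ m : ℕ, (∃ g : G, orderOf g = m) ↔ ∃ g : L, orderOf g = m

variable {p : ℕ} {e : Bool} {n k : ℕ} {F : Type} [Field F] [Fintype F] {L : Type*} [Group L] [Finite L] {G : Type*}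
  [Group G] [Finite G]

/-- the order of `±q` modulo `r` is `i` -/
def Ro (p : ℕ) (e : Bool) (k i r : ℕ) : Prop := r.Prime ∧ orderOf ((xv e (p ^ k) : ℤ) : ZMod r) = i

section Ro

variable {i r : ℕ}

theorem Ro.lt (h : Ro p e k i r) (hi : 1 ≤ i) : i < r := by
  have h1 := order_dvd_pred h.1 hi h.2
  have h2 := h.1.two_le
  have := Nat.le_of_dvd (by omega) h1
  omega

theorem Ro.ne_two (h : Ro p e k i r) (hi : 2 ≤ i) : r ≠ 2 := by
  have := h.lt (by omega)
  omega

theorem Ro.ne_char (h : Ro p e k i r) (hk : 1 ≤ k) (hi : 1 ≤ i) : r ≠ p := by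
  rintro rfl
  exact not_dvd_q h.1 h.2 hi (dvd_pow_self r (by omega))

theorem Ro.dvd_iff (h : Ro p e k i r) (hp : 1 ≤ p) {j : ℕ} : r ∣ AA e j (p ^ k) ↔ i ∣ j := by
  rw [dvd_AA_iff (Nat.one_le_pow _ _ hp), ← orderOf_dvd_iff_pow_eq_one, h.2]

theorem Ro.ne (h : Ro p e k i r) {j s : ℕ} (h' : Ro p e k j s) (hij : i ≠ j) : r ≠ s := by
  rintro rfl
  exact hij (h.2.symm.trans h'.2)

/-- linear case -/
theorem ro_true_iff (hp : p.Prime) (hk : 1 ≤ k) (hi : 1 ≤ i) : Ro p true k i r ↔ Prim (p ^ k) i r := by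
  constructor
  · intro h
    refine ⟨h.1, fun m => ?_, fun hd => not_dvd_q h.1 h.2 hi hd⟩
    exact h.dvd_iff (j := m) hp.pos
  · intro h
    refine ⟨h.prime, ?_⟩
    apply Nat.dvd_antisymm
    · rw [orderOf_dvd_iff_pow_eq_one, ← dvd_AA_iff (Nat.one_le_pow _ _ hp.pos)]
      exact (h.dvd_iff i).2 dvd_rfl
    · rw [← h.dvd_iff]
      change r ∣ AA true _ (p ^ k)
      rw [dvd_AA_iff (Nat.one_le_pow _ _ hp.pos)]
      exact pow_orderOf_eq_one _

theorem ro_of_prim (hp : p.Prime) (hk : 1 ≤ k) (hi : 1 ≤ i) (h : Prim p (i * k) r) : Ro p true k i r := by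
  rw [ro_true_iff hp hk hi]
  refine ⟨h.prime, fun m => ?_, fun hd => h.not_dvd (h.prime.dvd_of_dvd_pow hd)⟩
  rw [← pow_mul, h.dvd_iff, mul_comm k m]
  exact ⟨fun h => Nat.dvd_of_mul_dvd_mul_right hk h, fun h => Nat.mul_dvd_mul_right h k⟩

/-- unitary case, odd exponent -/
theorem ro_of_prim_uni (hp : p.Prime) (hk : 1 ≤ k) (hi : 3 ≤ i) (hio : i % 2 = 1) (h : Prim p (2 * (i * k)) r) :
    Ro p false k i r := by
  refine ⟨h.prime, order_of_nu h.prime hi ?_⟩
  have h1 : nu false i = 2 * i := by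
    unfold nu
    simp [hio]
  rw [h1]
  have h2 : Ro p true k (2 * i) r := ro_of_prim hp hk (by omega) (by rwa [mul_assoc])
  have h3 := h2.2
  simpa [xv] using h3

end Ro

namespace Dat

variable (D : Dat p e n k F L G)

include D

theorem two_le : 2 ≤ p ^ k :=
  calc 2 ≤ p := D.hp.two_le
    _ ≤ p ^ k := Nat.le_self_pow (by have := D.hk; omega) p

theorem lin : Lin (AlgebraicClosure F) L e n (p ^ k) F :=
  D.hL.lin D.hF (by have := D.hn; omega)

theorem exists_order {i m : ℕ} (hi1 : 1 ≤ i) (hi : i ≤ n) (hm : 0 < m) (hc : Nat.Coprime m (AA e 1 (p ^ k)))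
    (hd : m ∣ AA e i (p ^ k)) : ∃ g : G, orderOf g = m :=
  (D.hsp m).2 (D.hL.exists_tor_le D.hF (by have := D.hn; omega) hi1 hi hm hc hd)

theorem dvd_iff {v : ℕ} (hv : v.Prime) : v ∣ Nat.card G ↔ v ∣ Nat.card L := by
  have := Fact.mk hv
  constructor
  · intro h
    obtain ⟨g, hg⟩ := exists_prime_orderOf_dvd_card' v h
    obtain ⟨x, hx⟩ := (D.hsp v).1 ⟨g, hg⟩
    rw [← hx]
    exact orderOf_dvd_natCard x
  · intro h
    obtain ⟨g, hg⟩ := exists_prime_orderOf_dvd_card' v h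
    obtain ⟨x, hx⟩ := (D.hsp v).2 ⟨g, hg⟩
    rw [← hx]
    exact orderOf_dvd_natCard x

theorem dvd_card {i r : ℕ} (h : Ro p e k i r) (hi : 2 ≤ i) (hin : i ≤ n) : r ∣ Nat.card G := by
  have hc : Nat.Coprime r (AA e 1 (p ^ k)) := by
    rw [Nat.Prime.coprime_iff_not_dvd h.1]
    exact not_dvd_AA_one (by have := D.two_le; omega) h.2 hi
  obtain ⟨g, hg⟩ := D.exists_order (i := i) (m := r) (by omega) hin h.1.pos hc ((h.dvd_iff D.hp.pos).2 dvd_rfl)
  rw [← hg]
  exact orderOf_dvd_natCard g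

/-- `r_n`, `r_{n-1}` are not joined to `p` -/
theorem not_rp {i r : ℕ} (h : Ro p e k i r) (hi : i = n ∨ i = n - 1) : ¬ ∃ g : G, orderOf g = r * p := by
  rw [D.hsp]
  have := D.hch
  have := Fact.mk D.hp
  exact RpAdj.not_char D.lin D.hF (by have := D.hn; omega) h.1 h.2 hi

/-- `r_n`, `r_{n-1}` are not joined -/
theorem not_rr {r s : ℕ} (h : Ro p e k n r) (h' : Ro p e k (n - 1) s) : ¬ ∃ g : G, orderOf g = r * s := by
  have hn := D.hn
  rw [D.hsp]
  refine D.lin.not_adj D.hF (by omega) h.1 h'.1 h.2 h'.2 (by omega) (by omega) (by omega) ?_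
  have hcop : Nat.Coprime n (n - 1) := by
    obtain ⟨m, rfl⟩ : ∃ m, n = m + 1 := ⟨n - 1, by omega⟩
    rw [Nat.add_sub_cancel, Nat.coprime_comm]
    exact (Nat.coprime_self_add_right).2 (Nat.coprime_one_right _)
  rw [hcop.lcm_eq_mul]
  have h3 := Nat.mul_le_mul_left n (show 3 ≤ n - 1 by omega)
  omega

/-- the same with arbitrary indices, `n < k + l`, `k ≠ l` -/
theorem not_adj {i j r s : ℕ} (h : Ro p e k i r) (h' : Ro p e k j s) (hi : 2 ≤ i) (hj : 2 ≤ j) (hij : n < i + j)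
    (hl : n < Nat.lcm i j) : ¬ ∃ g : G, orderOf g = r * s := by
  have hn := D.hn
  rw [D.hsp]
  exact D.lin.not_adj D.hF (by omega) h.1 h'.1 h.2 h'.2 hi hj hij hl

/-- the shape of the order of `L` -/
theorem sh : ∃ d, Sh p (Nat.card L) k d (FamN.NS (cond e (.psl n) (.psu n))) (Fam.facs (cond e (.psl n) (.psu n))) ∧
    d.Coprime (p ^ k) := by
  have hn := D.hn
  have hF := D.hF
  have hL := D.hL
  cases e with
  | true =>
    obtain ⟨f⟩ := hL
    obtain ⟨d, h⟩ := FamN.sh_psl (F := F) (r := p) D.hk (by simpa using hF) (n := n) (by omega) D.hp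
    refine ⟨d, ?_⟩
    rw [Nat.card_congr f.toEquiv]
    exact h
  | false =>
    obtain ⟨f⟩ := hL
    obtain ⟨d, h⟩ := FamN.sh_psu (F := F) (r := p) D.hk (by simpa using hF) (n := n) (by omega) D.hp
    refine ⟨d, ?_⟩
    rw [Nat.card_congr f.toEquiv]
    exact h

theorem p_dvd : p ∣ Nat.card G := by
  obtain ⟨d, h, -⟩ := D.sh
  rw [D.dvd_iff D.hp]
  exact h.chr

/-- the primes dividing the order -/
theorem exists_AA {v : ℕ} (hv : v.Prime) (hvG : v ∣ Nat.card G) (hvp : v ≠ p) :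
    ∃ j, 1 ≤ j ∧ j ≤ n ∧ v ∣ AA e j (p ^ k) := by
  obtain ⟨d, h, -⟩ := D.sh
  rw [D.dvd_iff hv] at hvG
  obtain ⟨x, hx, hvx⟩ := h.exists_fac D.hp hv hvp hvG
  cases e with
  | true =>
    obtain ⟨i, hi, rfl⟩ := List.mem_map.1 (show x ∈ (List.range (n - 1)).map fun i => Fac.sub (i + 2) from hx)
    rw [List.mem_range] at hi
    exact ⟨i + 2, by omega, by omega, hvx⟩
  | false =>
    obtain ⟨i, hi, rfl⟩ := List.mem_map.1 (show x ∈ (List.range (n - 1)).map fun i =>
      if Even (i + 1) then Fac.add (i + 2) else Fac.sub (i + 2) from hx)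
    rw [List.mem_range] at hi
    refine ⟨i + 2, by omega, by omega, ?_⟩
    by_cases h2 : Even (i + 1)
    · rw [if_pos h2] at hvx
      have h3 : (i + 2) % 2 = 1 := by
        obtain ⟨t, ht⟩ := h2
        omega
      unfold AA
      simpa [h3, Fac.val] using hvx
    · rw [if_neg h2] at hvx
      have h3 : (i + 2) % 2 = 0 := by
        rw [Nat.not_even_iff] at h2
        omega
      unfold AA
      simpa [h3, Fac.val] using hvx

/-- Zsigmondy primes -/
theorem exists_ro {i : ℕ} (hi : 3 ≤ i) (h : ¬ Exc e i (p ^ k)) : ∃ r, Ro p e k i r := by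
  obtain ⟨r, h1, -, h2⟩ := exists_prime (e := e) (i := i) D.two_le hi h
  exact ⟨r, h1, h2⟩

/-- an odd prime not joined to 2 -/
theorem exists_not_two : ∃ r : ℕ, r.Prime ∧ r ≠ 2 ∧ r ∣ Nat.card G ∧ ¬ ∃ g : G, orderOf g = 2 * r := by
  have hn := D.hn
  obtain ⟨i, hi, hex⟩ := NumSpor.exists_na (e := e) (q := p ^ k) hn
  have hin : i = n ∨ i = n - 1 := by
    have h1 : i ∈ [n, n - 1] := by
      unfold NumSpor.na at hi
      cases h2 : Nat.beq (p ^ k % 2) 0 with
      | true => rw [h2] at hi; exact hi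
      | false =>
        rw [h2] at hi
        cases h3 : Nat.beq (n % 2) 1 with
        | true =>
          rw [h3] at hi
          have h4 : i ∈ [n] := hi
          rw [List.mem_singleton] at h4
          simp [h4]
        | false =>
          rw [h3] at hi
          simp only [cond_false, List.mem_append] at hi
          rcases hi with hi | hi
          · revert hi
            cases (Nat.beq ((cond e (p ^ k - 1) (p ^ k + 1)) % 4) 0 &&
              Nat.beq ((cond e (p ^ k - 1) (p ^ k + 1)) % Nat.gcd n (2 ^ n)) 0)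
            · simp
            · intro hi
              simp only [cond_true, List.mem_singleton] at hi
              simp [hi]
          · revert hi
            cases (Nat.beq ((cond e (p ^ k - 1) (p ^ k + 1)) % (2 * Nat.gcd n (2 ^ n))) 0)
            · intro hi
              simp only [cond_false, List.mem_singleton] at hi
              simp [hi]
            · simp
    simpa using h1
  obtain ⟨r, hr⟩ := D.exists_ro (i := i) (by omega) hex
  refine ⟨r, hr.1, hr.ne_two (by omega), D.dvd_card hr (by omega) (by omega), ?_⟩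
  rw [D.hsp]
  exact D.lin.not_two D.hF hn hi hr.1 hr.2

end Dat

end Cfsg.Agent.H405.Setup
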