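import Cfsg.Agent.H426.LieFam

/-!
# The families of groups of Lie type with the order of a Sylow subgroup in the defining characteristic (helper405)

`exists_fam` : as in `H426.LieFam` (the proofs are adapted from there), with the exponent `NS fam` and `d` prime to the
characteristic.
-/

set_option autoImplicit false

namespace Cfsg.Agent.H405.FamN

open Cfsg Cfsg.Agent.H414.LieShape Cfsg.Agent.H426.LieFam

/-- the number of positive roots (the exponent of `q` in the order) -/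
def NS : Fam → ℕ
  | .psl n => n * (n - 1) / 2
  | .psp m => m ^ 2
  | .psu n => n * (n - 1) / 2
  | .oodd m => m ^ 2
  | .oplus m => m * (m - 1)
  | .ominus m => m * (m - 1)
  | .g2 => 6
  | .f4 => 24
  | .e6 => 36
  | .e7 => 63
  | .e8 => 120
  | .te6 => 36
  | .td4 => 12
  | .sz => 2
  | .tf4 => 12
  | .ree => 3

universe u

section

variable {F : Type} [Field F] [Fintype F] {r : ℕ}

theorem sh_psl {f : ℕ} (hf : 1 ≤ f) (hcard : Fintype.card F = r ^ f) {n : ℕ} (hn : 2 ≤ n) (hr : r.Prime) :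
    ∃ d, Sh r (Nat.card (Matrix.ProjectiveSpecialLinearGroup (Fin n) F)) f d (NS (.psl n)) (Fam.psl n).facs ∧
      d.Coprime (r ^ f) := by
  set q := Fintype.card F with hq
  have hq1 : 1 < q := Fintype.one_lt_card
  have h := Cfsg.Agent.S0243.result (F := F) rfl n hn
  rw [← hq, Fin.prod_univ_eq_prod_range (fun i => q ^ n - q ^ i) n, prod_gl] at h
  obtain ⟨m, rfl⟩ : ∃ m, n = m + 1 := ⟨n - 1, by omega⟩
  rw [Finset.prod_range_succ', zero_add, pow_one] at h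
  have hq0 : 0 < q - 1 := by omega
  have h1 : Nat.gcd (m + 1) (q - 1) * Nat.card (Matrix.ProjectiveSpecialLinearGroup (Fin (m + 1)) F) =
      q ^ ((m + 1) * (m + 1 - 1) / 2) * ∏ i ∈ Finset.range m, (q ^ (i + 1 + 1) - 1) := by
    apply Nat.eq_of_mul_eq_mul_left hq0
    calc (q - 1) * (Nat.gcd (m + 1) (q - 1) * Nat.card (Matrix.ProjectiveSpecialLinearGroup (Fin (m + 1)) F)) =
        Nat.gcd (m + 1) (q - 1) * ((q - 1) * Nat.card (Matrix.ProjectiveSpecialLinearGroup (Fin (m + 1)) F)) := by ring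
      _ = _ := by rw [h]; ring
  have hN : 1 ≤ (m + 1) * (m + 1 - 1) / 2 := by
    have h2 : 2 * 1 ≤ (m + 1) * (m + 1 - 1) := Nat.mul_le_mul (by omega) (by omega)
    omega
  have hcop : (Nat.gcd (m + 1) (q - 1)).Coprime q := by
    have h3 := cop_gcd_sub (m := m + 1) (k := 1) (f := f) hr le_rfl
    rwa [pow_one, ← hcard] at h3
  refine ⟨Nat.gcd (m + 1) (q - 1), ⟨hf, ?_, ?_, chr_of' hr hf hcard h1 hN hcop⟩, by rwa [← hcard]⟩
  · rw [← hcard]
    change _ = _ * ((((List.range m).map fun i => Fac.sub (i + 2))).map (Fac.val q)).prod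
    rw [prod_map_range]
    exact h1
  · intro v hv hv5 hvd
    have hvn : v ≤ m + 1 := Nat.le_of_dvd (by omega) (hvd.trans (Nat.gcd_dvd_left _ _))
    have hvq : v ∣ q - 1 := hvd.trans (Nat.gcd_dvd_right _ _)
    obtain ⟨k, rfl⟩ : ∃ k, m = k + 1 + 1 := ⟨m - 2, by omega⟩
    rw [Finset.prod_range_succ', Finset.prod_range_succ'] at h1
    have hsub : ∀ i, q - 1 ∣ q ^ i - 1 := fun i => by
      have := Nat.sub_dvd_pow_sub_pow q 1 i
      rwa [one_pow] at this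
    refine dvd_of_split (X := q ^ (0 + 1 + 1) - 1) (Y := q ^ ((k + 1 + 1 + 1) * (k + 1 + 1 + 1 - 1) / 2) *
      (∏ i ∈ Finset.range k, (q ^ (i + 1 + 1 + 1 + 1) - 1)) * (q ^ (0 + 1 + 1 + 1) - 1)) (Nat.gcd_pos_of_pos_right _ hq0)
      (h1.trans ?_) ?_ ?_
    · ring
    · exact (Nat.gcd_dvd_right _ _).trans (hsub _)
    · exact (hvq.trans (hsub _)).mul_left _

theorem sh_psp {f : ℕ} (hf : 1 ≤ f) (hcard : Fintype.card F = r ^ f) {m : ℕ} (hm : 2 ≤ m) (hr : r.Prime) :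
    ∃ d, Sh r (Nat.card (PSp m F)) f d (NS (.psp m)) (Fam.psp m).facs ∧ d.Coprime (r ^ f) := by
  have h1 := Cfsg.Agent.S0245.result (F := F) rfl m
  have h2 := Cfsg.Agent.S0246.result (F := F) rfl m (by omega)
  have h3 := Subgroup.card_eq_card_quotient_mul_card_subgroup
    (Subgroup.center (Matrix.symplecticGroup (Fin m) F))
  rw [h1, h2] at h3
  have hcop : (Nat.gcd 2 (Fintype.card F - 1)).Coprime (Fintype.card F) := by
    have h4 := cop_gcd_sub (m := 2) (k := 1) (f := f) hr le_rfl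
    rwa [pow_one, ← hcard] at h4
  refine ⟨Nat.gcd 2 (Fintype.card F - 1), ⟨hf, ?_,
    den_small (Nat.gcd_dvd_left _ _) (by norm_num) (by norm_num),
    chr_of' hr hf hcard ((mul_comm _ _).trans h3.symm) (Nat.one_le_pow _ _ (by omega)) hcop⟩, by rwa [← hcard]⟩
  rw [← hcard]
  change _ = _ * ((((List.range m).map fun i => Fac.sub (2 * (i + 1)))).map (Fac.val _)).prod
  rw [prod_map_range, mul_comm (Nat.gcd _ _)]
  exact h3.symm

theorem sh_psu {f : ℕ} (hf : 1 ≤ f) (hF : Fintype.card F = (r ^ f) ^ 2) {n : ℕ} (hn : 3 ≤ n) (hr : r.Prime) :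
    ∃ d, Sh r (Nat.card (PSU n F (r ^ f))) f d (NS (.psu n)) (Fam.psu n).facs ∧ d.Coprime (r ^ f) := by
  obtain ⟨q, hqf⟩ : ∃ q, q = r ^ f := ⟨_, rfl⟩
  rw [← hqf] at hF ⊢
  have h := Cfsg.Agent.S0280.result hF n (by omega)
  obtain ⟨m, rfl⟩ : ∃ m, n = m + 1 := ⟨n - 1, by omega⟩
  rw [Finset.prod_range_succ', if_pos Even.zero, zero_add, pow_one] at h
  have h1 : Nat.gcd (m + 1) (q + 1) * Nat.card (PSU (m + 1) F q) =
      q ^ ((m + 1) * (m + 1 - 1) / 2) * ∏ i ∈ Finset.range m,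
        (if Even (i + 1) then q ^ (i + 1 + 1) + 1 else q ^ (i + 1 + 1) - 1) := by
    have hq0 : 0 < q + 1 := Nat.succ_pos q
    apply Nat.eq_of_mul_eq_mul_left hq0
    calc (q + 1) * (Nat.gcd (m + 1) (q + 1) * Nat.card (PSU (m + 1) F q)) =
        Nat.gcd (m + 1) (q + 1) * ((q + 1) * Nat.card (PSU (m + 1) F q)) := by ring
      _ = _ := by rw [h]; ring
  have hN : 1 ≤ (m + 1) * (m + 1 - 1) / 2 := by
    have h2 : 2 * 1 ≤ (m + 1) * (m + 1 - 1) := Nat.mul_le_mul (by omega) (by omega)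
    omega
  have hcop : (Nat.gcd (m + 1) (q + 1)).Coprime q := by
    have h3 := cop_gcd_add (m := m + 1) (k := 1) (f := f) (r := r) le_rfl
    rwa [pow_one, ← hqf] at h3
  refine ⟨Nat.gcd (m + 1) (q + 1), ⟨hf, ?_, ?_, chr_of' hr hf hqf h1 hN hcop⟩, hcop⟩
  · rw [← hqf]
    change _ = _ * ((((List.range m).map fun i => if Even (i + 1) then Fac.add (i + 2) else Fac.sub (i + 2))).map
      (Fac.val q)).prod
    rw [prod_map_range, h1]
    congr 1
    apply Finset.prod_congr rfl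
    intro i _
    by_cases hi : Even (i + 1)
    · rw [if_pos hi, if_pos hi]; rfl
    · rw [if_neg hi, if_neg hi]; rfl
  · intro v hv hv5 hvd
    have hvn : v ≤ m + 1 := Nat.le_of_dvd (by omega) (hvd.trans (Nat.gcd_dvd_left _ _))
    have hvq : v ∣ q + 1 := hvd.trans (Nat.gcd_dvd_right _ _)
    obtain ⟨k, rfl⟩ : ∃ k, m = k + 1 + 1 := ⟨m - 2, by omega⟩
    rw [Finset.prod_range_succ', Finset.prod_range_succ', if_neg (show ¬ Even (0 + 1) by decide),
      if_pos (show Even (0 + 1 + 1) by decide)] at h1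
    have h3 : q + 1 ∣ q ^ (0 + 1 + 1 + 1) + 1 := by
      refine ⟨q ^ 2 - q + 1, ?_⟩
      have h4 : q ≤ q ^ 2 := Nat.le_self_pow (by norm_num) q
      obtain ⟨t, ht⟩ := Nat.exists_eq_add_of_le h4
      rw [ht, Nat.add_sub_cancel_left]
      have h5 : q ^ (0 + 1 + 1 + 1) = q * q ^ 2 := by ring
      rw [h5, ht]
      nlinarith
    have h4 : q + 1 ∣ q ^ (0 + 1 + 1) - 1 := by
      rw [show q ^ (0 + 1 + 1) - 1 = (q + 1) * (q - 1) by
        rw [← Nat.sq_sub_sq, one_pow]]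
      exact Dvd.intro _ rfl
    refine dvd_of_split (X := q ^ (0 + 1 + 1) - 1) (Y := q ^ ((k + 1 + 1 + 1) * (k + 1 + 1 + 1 - 1) / 2) *
      (∏ i ∈ Finset.range k, (if Even (i + 1 + 1 + 1) then q ^ (i + 1 + 1 + 1 + 1) + 1 else
        q ^ (i + 1 + 1 + 1 + 1) - 1)) * (q ^ (0 + 1 + 1 + 1) + 1)) (Nat.gcd_pos_of_pos_right _ (Nat.succ_pos q))
      (h1.trans ?_) ?_ ?_
    · ring
    · exact (Nat.gcd_dvd_right _ _).trans h4
    · exact (hvq.trans h3).mul_left _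

theorem sh_oodd {f : ℕ} (hf : 1 ≤ f) (hcard : Fintype.card F = r ^ f) {m : ℕ} (hm : 3 ≤ m) (ho : Odd (Fintype.card F))
    (hr : r.Prime) : ∃ d, Sh r (Nat.card (POmega F (quadFormOdd m F))) f d (NS (.oodd m)) (Fam.oodd m).facs ∧
      d.Coprime (r ^ f) := by
  have h1 := Cfsg.Agent.S0292.result (F := F) rfl ho m hm
  refine ⟨2, ⟨hf, ?_, den_small (dvd_refl 2) (by norm_num) (by norm_num),
    chr_of' hr hf hcard h1 (Nat.one_le_pow _ _ (by omega)) ((Nat.coprime_two_left).2 ho)⟩,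
    by rw [← hcard]; exact (Nat.coprime_two_left).2 ho⟩
  rw [← hcard]
  change _ = _ * ((((List.range m).map fun i => Fac.sub (2 * (i + 1)))).map (Fac.val _)).prod
  rw [prod_map_range]
  exact h1

theorem sh_oplus {f : ℕ} (hf : 1 ≤ f) (hcard : Fintype.card F = r ^ f) {m : ℕ} (hm : 4 ≤ m) (hr : r.Prime) :
    ∃ d, Sh r (Nat.card (POmega F (quadFormPlus m F))) f d (NS (.oplus m)) (Fam.oplus m).facs ∧
      d.Coprime (r ^ f) := by
  have h1 := Cfsg.Agent.S0293.result (F := F) rfl m hm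
  have hcop : (Nat.gcd 4 (Fintype.card F ^ m - 1)).Coprime (r ^ f) := by
    rw [hcard]
    exact cop_gcd_sub hr (by omega)
  refine ⟨Nat.gcd 4 (Fintype.card F ^ m - 1), ⟨hf, ?_,
    den_small (Nat.gcd_dvd_left _ _) (by norm_num) (by norm_num),
    chr_of' hr hf hcard (h1.trans (mul_assoc _ _ _)) (Nat.mul_pos (by omega) (by omega)) (by rwa [hcard] at hcop ⊢)⟩,
    hcop⟩
  rw [← hcard]
  change _ = _ * ((Fac.sub m :: (List.range (m - 1)).map fun i => Fac.sub (2 * (i + 1))).map (Fac.val _)).prod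
  rw [List.map_cons, List.prod_cons, prod_map_range, ← mul_assoc]
  exact h1

theorem sh_ominus {f : ℕ} (hf : 1 ≤ f) (hcard : Fintype.card F = r ^ f) {m : ℕ} (hm : 4 ≤ m) {a b : F}
    (hab : ∀ z₁ z₂ : F, z₁ ^ 2 + a * z₁ * z₂ + b * z₂ ^ 2 = 0 → z₁ = 0 ∧ z₂ = 0) (hr : r.Prime) :
    ∃ d, Sh r (Nat.card (POmega F (quadFormMinus (m - 1) F a b))) f d (NS (.ominus m)) (Fam.ominus m).facs ∧
      d.Coprime (r ^ f) := by
  have h1 := Cfsg.Agent.S0294.result (F := F) rfl m hm a b hab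
  have hcop : (Nat.gcd 4 (Fintype.card F ^ m + 1)).Coprime (r ^ f) := by
    rw [hcard]
    exact cop_gcd_add (by omega)
  refine ⟨Nat.gcd 4 (Fintype.card F ^ m + 1), ⟨hf, ?_,
    den_small (Nat.gcd_dvd_left _ _) (by norm_num) (by norm_num),
    chr_of' hr hf hcard (h1.trans (mul_assoc _ _ _)) (Nat.mul_pos (by omega) (by omega)) (by rwa [hcard] at hcop ⊢)⟩,
    hcop⟩
  rw [← hcard]
  change _ = _ * ((Fac.add m :: (List.range (m - 1)).map fun i => Fac.sub (2 * (i + 1))).map (Fac.val _)).prod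
  rw [List.map_cons, List.prod_cons, prod_map_range, ← mul_assoc]
  exact h1

omit [Fintype F] [Field F] in
/-- a family given by a list of factors -/
theorem sh_list {c f d N : ℕ} {l : List Fac} (hr : r.Prime) (hN : 1 ≤ N) (hcop : d.Coprime (r ^ f)) (hf : 1 ≤ f)
    (hd : d ∣ 12) (hd5 : d < 5)
    (heq : d * c = (r ^ f) ^ N * (l.map (Fac.val (r ^ f))).prod) : Sh r c f d N l ∧ d.Coprime (r ^ f) := by
  refine ⟨⟨hf, heq, ?_, chr_of hr hf hN hcop heq⟩, hcop⟩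
  intro v _ hv5 hvd
  exfalso
  have hd0 : 0 < d := Nat.pos_of_dvd_of_pos hd (by norm_num)
  have := Nat.le_of_dvd hd0 hvd
  omega

end

/-- **Every group of Lie type belongs to a family.** -/
theorem exists_fam {r : ℕ} (hr : r.Prime) {S : Type u} [Group S] (h : IsLieTypeChar r S) :
    ∃ (fam : Fam) (f d : ℕ), fam.Is r f S ∧ Sh r (Nat.card S) f d (NS fam) fam.facs ∧ d.Coprime (r ^ f) := by
  rcases h with ⟨F, _, _, _, n, hn, hn2, ⟨e⟩⟩ | ⟨F, _, _, _, m, hm, hm2, ⟨e⟩⟩ | ⟨F, _, _, _, n, q, hF, hn, hn3, ⟨e⟩⟩ |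
    ⟨F, _, _, _, m, hm, ho, ⟨e⟩⟩ | ⟨F, _, _, _, m, hm, ⟨e⟩⟩ | ⟨F, _, _, _, m, a, b, hm, hab, ⟨e⟩⟩ | h | h |
    ⟨hr2, F, _, _, m, hm, hF, ⟨e⟩⟩ | ⟨hr2, F, _, _, m, hm, hF, ⟨e⟩⟩ | ⟨hr3, F, _, _, m, hm, hF, ⟨e⟩⟩
  · obtain ⟨f, hf, hcard⟩ := exists_card F r
    obtain ⟨d, h⟩ := sh_psl hf hcard hn hr
    exact ⟨.psl n, f, d, ⟨hn, by rwa [← hcard], F, _, _, ‹_›, hcard, ⟨e⟩⟩, by rwa [Nat.card_congr e.toEquiv]⟩
  · obtain ⟨f, hf, hcard⟩ := exists_card F r
    obtain ⟨d, h⟩ := sh_psp hf hcard hm hr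
    exact ⟨.psp m, f, d, ⟨hm, by rwa [← hcard], F, _, _, ‹_›, hcard, ⟨e⟩⟩, by rwa [Nat.card_congr e.toEquiv]⟩
  · obtain ⟨k, hk, hcard⟩ := exists_card F r
    obtain ⟨f, hf, rfl⟩ := exists_pow_eq hr two_pos (hcard.symm.trans hF) hk
    obtain ⟨d, h⟩ := sh_psu hf hF hn hr
    exact ⟨.psu n, f, d, ⟨hn, hn3, F, _, _, ‹_›, hF, ⟨e⟩⟩, by rwa [Nat.card_congr e.toEquiv]⟩
  · obtain ⟨f, hf, hcard⟩ := exists_card F r
    obtain ⟨d, h⟩ := sh_oodd hf hcard hm ho hr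
    exact ⟨.oodd m, f, d, ⟨hm, by rwa [← hcard], F, _, _, ‹_›, hcard, ⟨e⟩⟩, by rwa [Nat.card_congr e.toEquiv]⟩
  · obtain ⟨f, hf, hcard⟩ := exists_card F r
    obtain ⟨d, h⟩ := sh_oplus hf hcard hm hr
    exact ⟨.oplus m, f, d, ⟨hm, F, _, _, ‹_›, hcard, ⟨e⟩⟩, by rwa [Nat.card_congr e.toEquiv]⟩
  · obtain ⟨f, hf, hcard⟩ := exists_card F r
    obtain ⟨d, h⟩ := sh_ominus hf hcard hm hab hr
    exact ⟨.ominus m, f, d, ⟨hm, F, _, _, ‹_›, a, b, hcard, hab, ⟨e⟩⟩, by rwa [Nat.card_congr e.toEquiv]⟩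
  · obtain ⟨F, _, _, _, h⟩ := h
    obtain ⟨f, hf, hcard⟩ := exists_card F r
    have hg3 : Nat.gcd 3 (r ^ f - 1) ∣ 12 := (Nat.gcd_dvd_left _ _).trans (by norm_num)
    have hg3' : Nat.gcd 3 (r ^ f - 1) < 5 := lt_of_le_of_lt (Nat.le_of_dvd (by norm_num) (Nat.gcd_dvd_left _ _)) (by norm_num)
    have hg2 : Nat.gcd 2 (r ^ f - 1) ∣ 12 := (Nat.gcd_dvd_left _ _).trans (by norm_num)
    have hg2' : Nat.gcd 2 (r ^ f - 1) < 5 := lt_of_le_of_lt (Nat.le_of_dvd (by norm_num) (Nat.gcd_dvd_left _ _)) (by norm_num)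
    rcases h with ⟨hF3, ⟨e⟩⟩ | ⟨⟨e⟩⟩ | ⟨⟨e⟩⟩ | ⟨⟨e⟩⟩ | ⟨⟨e⟩⟩
    · refine ⟨.g2, f, 1, ⟨by rwa [← hcard], F, _, _, ‹_›, hcard, ⟨e⟩⟩, ?_⟩
      rw [Nat.card_congr e.toEquiv]
      refine sh_list hr (by simp [NS]) (Nat.coprime_one_left _) hf (by norm_num) (by norm_num) ?_
      rw [one_mul, Cfsg.Agent.S1059.result hcard]
      simp only [NS, Fam.facs, List.map_cons, List.map_nil, List.prod_cons, List.prod_nil, Fac.val]
      ring
    · refine ⟨.f4, f, 1, ⟨F, _, _, ‹_›, hcard, ⟨e⟩⟩, ?_⟩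
      rw [Nat.card_congr e.toEquiv]
      refine sh_list hr (by simp [NS]) (Nat.coprime_one_left _) hf (by norm_num) (by norm_num) ?_
      rw [one_mul, Cfsg.Agent.S1062.result hcard]
      simp only [NS, Fam.facs, List.map_cons, List.map_nil, List.prod_cons, List.prod_nil, Fac.val]
      ring
    · refine ⟨.e6, f, Nat.gcd 3 (r ^ f - 1), ⟨F, _, _, ‹_›, hcard, ⟨e⟩⟩, ?_⟩
      rw [Nat.card_congr e.toEquiv]
      refine sh_list hr (by simp [NS]) (by
        have := cop_gcd_sub (m := 3) (k := 1) (f := f) hr le_rfl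
        rwa [pow_one] at this) hf hg3 hg3' ?_
      rw [Cfsg.Agent.S1063.result hcard]
      simp only [NS, Fam.facs, List.map_cons, List.map_nil, List.prod_cons, List.prod_nil, Fac.val]
      ring
    · refine ⟨.e7, f, Nat.gcd 2 (r ^ f - 1), ⟨F, _, _, ‹_›, hcard, ⟨e⟩⟩, ?_⟩
      rw [Nat.card_congr e.toEquiv]
      refine sh_list hr (by simp [NS]) (by
        have := cop_gcd_sub (m := 2) (k := 1) (f := f) hr le_rfl
        rwa [pow_one] at this) hf hg2 hg2' ?_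
      rw [Cfsg.Agent.S1064.result hcard]
      simp only [NS, Fam.facs, List.map_cons, List.map_nil, List.prod_cons, List.prod_nil, Fac.val]
      ring
    · refine ⟨.e8, f, 1, ⟨F, _, _, ‹_›, hcard, ⟨e⟩⟩, ?_⟩
      rw [Nat.card_congr e.toEquiv]
      refine sh_list hr (by simp [NS]) (Nat.coprime_one_left _) hf (by norm_num) (by norm_num) ?_
      rw [one_mul, Cfsg.Agent.S1065.result hcard]
      simp only [NS, Fam.facs, List.map_cons, List.map_nil, List.prod_cons, List.prod_nil, Fac.val]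
      ring
  · obtain ⟨F, _, _, _, q, hq, h⟩ := h
    obtain ⟨k, hk, hcard⟩ := exists_card F r
    rcases h with ⟨hF, ⟨e⟩⟩ | ⟨hF, ⟨e⟩⟩
    · obtain ⟨f, hf, rfl⟩ := exists_pow_eq hr two_pos (hcard.symm.trans hF) hk
      refine ⟨.te6, f, Nat.gcd 3 (r ^ f + 1), ⟨F, _, _, ‹_›, hF, ⟨e⟩⟩, ?_⟩
      rw [Nat.card_congr e.toEquiv]
      refine sh_list hr (by simp [NS]) (by
          have := cop_gcd_add (m := 3) (k := 1) (f := f) (r := r) le_rfl
          rwa [pow_one] at this) hf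
        ((Nat.gcd_dvd_left 3 (r ^ f + 1)).trans (by norm_num))
        (lt_of_le_of_lt (Nat.le_of_dvd (by norm_num) (Nat.gcd_dvd_left _ _)) (by norm_num)) ?_
      rw [Cfsg.Agent.S1066.result hq hF]
      simp only [NS, Fam.facs, List.map_cons, List.map_nil, List.prod_cons, List.prod_nil, Fac.val]
      ring
    · obtain ⟨f, hf, rfl⟩ := exists_pow_eq hr three_pos (hcard.symm.trans hF) hk
      refine ⟨.td4, f, 1, ⟨F, _, _, ‹_›, hF, ⟨e⟩⟩, ?_⟩
      rw [Nat.card_congr e.toEquiv]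
      refine sh_list hr (by simp [NS]) (Nat.coprime_one_left _) hf (by norm_num) (by norm_num) ?_
      rw [one_mul, Cfsg.Agent.S1067.result hq hF]
      simp only [NS, Fam.facs, List.map_cons, List.map_nil, List.prod_cons, List.prod_nil, Fac.val]
      ring
  · subst hr2
    refine ⟨.sz, 2 * m + 1, 1, ⟨rfl, m, hm, rfl, F, _, _, hF, ⟨e⟩⟩, ?_⟩
    rw [Nat.card_congr e.toEquiv, (Cfsg.Agent.S1163.result hm hF).1]
    refine sh_list (f := 2 * m + 1) hr (by simp [NS]) (Nat.coprime_one_left _) (by omega) (by norm_num)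
      (by norm_num) ?_
    simp only [NS, Fam.facs, List.map_cons, List.map_nil, List.prod_cons, List.prod_nil, Fac.val, pow_one]
    ring
  · subst hr2
    refine ⟨.tf4, 2 * m + 1, 1, ⟨rfl, m, hm, rfl, F, _, _, hF, ⟨e⟩⟩, ?_⟩
    rw [Nat.card_congr e.toEquiv, Cfsg.Agent.S1068.result hF]
    refine sh_list (f := 2 * m + 1) hr (by simp [NS]) (Nat.coprime_one_left _) (by omega) (by norm_num)
      (by norm_num) ?_
    simp only [NS, Fam.facs, List.map_cons, List.map_nil, List.prod_cons, List.prod_nil, Fac.val, pow_one]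
    ring
  · subst hr3
    refine ⟨.ree, 2 * m + 1, 1, ⟨rfl, m, hm, rfl, F, _, _, hF, ⟨e⟩⟩, ?_⟩
    rw [Nat.card_congr e.toEquiv, Cfsg.Agent.S1069.result hF]
    refine sh_list (f := 2 * m + 1) hr (by simp [NS]) (Nat.coprime_one_left _) (by omega) (by norm_num)
      (by norm_num) ?_
    simp only [NS, Fam.facs, List.map_cons, List.map_nil, List.prod_cons, List.prod_nil, Fac.val, pow_one]
    ring


end Cfsg.Agent.H405.FamN
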