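import Cfsg.Agent.H405.SmallMain
import Cfsg.Agent.H405.UniMain
import Cfsg.Agent.H403.Reduce
import Cfsg.Agent.H340.OddLie
import Cfsg.Agent.H284.SepOrd

/-!
# Groups isospectral to `PSL_n(q)`, `PSU_n(q)`: composition factors in the same characteristic (helper405)

* `main` : `n ≥ 4`, `G` a finite group with the element orders of `L = PSL_n(q)` or `PSU_n(q)` (not `PSU_4(2)`), `q` a
  power of `p`; a nonabelian composition factor of `G` of Lie type in characteristic `p` is isomorphic to `L`.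
* `exists_dat` : the data from the assumptions of S3587.
-/

set_option autoImplicit false

namespace Cfsg.Agent.H405.IsoSame

open Cfsg Cfsg.Agent.H403 Cfsg.Agent.H405.Setup Cfsg.Agent.H405.StrL

theorem main {p : ℕ} {e : Bool} {n k : ℕ} {F : Type} [Field F] [Fintype F] {L : Type*} [Group L] [Finite L] {G : Type*}
    [Group G] [Finite G] (D : Dat p e n k F L G) (H : Subgroup G) (hH : H.IsSubnormal) (N : Subgroup ↥H) [N.Normal]
    (hs : IsSimpleGroup (↥H ⧸ N)) (hna : ¬ IsMulCommutative (↥H ⧸ N)) (hl : IsLieTypeChar p (↥H ⧸ N)) :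
    Nonempty ((↥H ⧸ N) ≃* L) := by
  have hns : ¬ Group.IsSolvable G := fun h => not_solvable_of_simple hs hna inferInstance
  obtain ⟨K, hKn, hKs, hKm⟩ := exists_radical G
  obtain ⟨S, hS, hSn, hSc, hcoc, hlst⟩ := H414.Vasiliev.main hns D.exists_not_two K hKs hKm
  have hsimp := hS.simple
  have hna' : ¬ IsMulCommutative ↥S := by
    obtain ⟨a, b, h⟩ := hS.noncomm
    intro hc
    exact h (hc.is_comm.comm a b)
  have hsch : Schreier.Basic.Sch ↥S := Schreier.Assembly.known ↥S hna' (S0000.result)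
  obtain ⟨f⟩ := comp_iso K hKs S hsimp hsch hSc H hH N hs hna
  have T : Str p K S := ⟨hKs, hS, hSn, hSc, hcoc, hlst, H340.isLieTypeChar_congr f.symm hl⟩
  have h : Nonempty (↥S ≃* L) := by
    cases e with
    | true =>
      by_cases hsm : NumLin.SmallL p n k
      · exact SmallMain.small D T hsm
      · exact LinMain.lin D T hsm
    | false => exact UniMain.uni D T
  obtain ⟨g⟩ := h
  exact ⟨f.trans g⟩

theorem exists_dat {F : Type*} [Field F] [Fintype F] (p : ℕ) [Fact p.Prime] [CharP F p]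
    {n : ℕ} (hn : 4 ≤ n) {L : Type*} [Group L] [Finite L]
    (hL : Nonempty (L ≃* Matrix.ProjectiveSpecialLinearGroup (Fin n) F) ∨
      (∃ q : ℕ, ¬ (n = 4 ∧ q = 2) ∧ Fintype.card F = q ^ 2 ∧ Nonempty (L ≃* Cfsg.PSU n F q)))
    {G : Type*} [Group G] [Finite G] (h : Set.range (orderOf : G → ℕ) = Set.range (orderOf : L → ℕ)) :
    ∃ (e : Bool) (k : ℕ) (F' : Type) (_ : Field F') (_ : Fintype F'), Dat p e n k F' L G := by
  have hp : p.Prime := Fact.out
  have hsp : ∀ m : ℕ, (∃ g : G, orderOf g = m) ↔ ∃ g : L, orderOf g = m := fun m => by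
    have h1 : m ∈ Set.range (orderOf : G → ℕ) ↔ m ∈ Set.range (orderOf : L → ℕ) := by rw [h]
    exact h1
  obtain ⟨m, -, hm⟩ := FiniteField.card F p
  have hfin : Fintype (GaloisField p m) := Fintype.ofFinite _
  have hcG : Fintype.card (GaloisField p m) = p ^ (m : ℕ) := by
    rw [← Nat.card_eq_fintype_card, GaloisField.card p _ m.ne_zero]
  have hcard : Fintype.card F = Fintype.card (GaloisField p m) := by rw [hm, hcG]
  rcases hL with ⟨⟨f⟩⟩ | ⟨q, hq, hF, ⟨f⟩⟩
  · refine ⟨true, m, GaloisField p m, inferInstance, inferInstance, ⟨hp, inferInstance, hn, m.pos, ?_, ?_, ?_, hsp⟩⟩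
    · rintro ⟨h, -⟩
      exact absurd h (by decide)
    · rw [hcG]
      simp
    · exact ⟨f.trans (LieClassical.FieldTransfer.pslCongr (FiniteField.ringEquivOfCardEq hcard))⟩
  · obtain ⟨k, hk, rfl⟩ := H284.SepOrd.root_pow hp (by norm_num) ⟨m, m.pos, hm⟩ hF
    refine ⟨false, k, GaloisField p m, inferInstance, inferInstance, ⟨hp, inferInstance, hn, hk, ?_, ?_, ?_, hsp⟩⟩
    · rintro ⟨-, h1, h2⟩
      exact hq ⟨h1, h2⟩
    · rw [← hcard, hF]
      simp
    · exact ⟨f.trans (LieClassical.FieldTransfer.psuCongr n _ (FiniteField.ringEquivOfCardEq hcard))⟩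

end Cfsg.Agent.H405.IsoSame
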