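import Cfsg.Agent.H405.StrL
import Cfsg.Agent.H405.OutClass
import Cfsg.Agent.H405.NumLin
import Cfsg.Agent.H161.NonAdj
import Cfsg.Agent.LieClassical.FieldTransfer
import Mathlib.FieldTheory.Finite.GaloisField

/-!
# Groups isospectral to `PSL_n(q)`: the component in the same characteristic (helper405)
-/

set_option autoImplicit false

namespace Cfsg.Agent.H405.LinMain

open Cfsg Cfsg.Agent.H403 Cfsg.Agent.H403.NumTop Cfsg.Agent.H414.LieShape Cfsg.Agent.H426.LieFam Cfsg.Agent.H436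
open Cfsg.Agent.H405.Setup Cfsg.Agent.H405.StrL Cfsg.Agent.H405.NumLin Cfsg.Agent.H405.OutNode Subgroup

variable {p : ℕ} {n k : ℕ} {F : Type} [Field F] [Fintype F] {L : Type*} [Group L] [Finite L] {G : Type*}
  [Group G] [Finite G] {K : Subgroup G} [K.Normal] {S : Subgroup (G ⧸ K)}

theorem order_of_prim {f i r : ℕ} (hp : p.Prime) (hf : 1 ≤ f) (hi : 1 ≤ i) (h : Prim (p ^ f) i r) :
    orderOf ((p ^ f : ℕ) : ZMod r) = i := by
  have h1 := ((ro_true_iff hp hf hi).2 h).2
  simpa [xv] using h1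

theorem surv (D : Dat p true n k F L G) (T : Str p K S) (hsm : ¬ SmallL p n k) {f : ℕ} (hf : 1 ≤ f)
    (hkf : k = 2 * f) (hFpf : p ≠ 2 → Fpf p (p ^ f) ↥S) {i : ℕ} (hio : i % 2 = 1) (hin : i = n ∨ i = n - 1) :
    ∃ r s, r.Prime ∧ s.Prime ∧ orderOf ((p ^ f : ℕ) : ZMod r) = i ∧ orderOf ((p ^ f : ℕ) : ZMod s) = 2 * i ∧
      ∃ g : ↥S, orderOf g = r * s := by
  have hn := D.hn
  have hk := D.hk
  have hpf := Fact.mk D.hp
  have hi3 : 3 ≤ i := by omega
  have hq2 : p ^ k ≠ 2 := by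
    intro h
    have h1 : 2 ^ 2 ≤ p ^ k := (Nat.pow_le_pow_left D.hp.two_le 2).trans (Nat.pow_le_pow_right D.hp.pos (by omega))
    omega
  obtain ⟨j, hj3, hij⟩ : ∃ j, 3 ≤ j ∧ ((i = n ∧ j = n - 1) ∨ (i = n - 1 ∧ j = n)) := by
    rcases hin with h | h
    · exact ⟨n - 1, by omega, Or.inl ⟨h, rfl⟩⟩
    · exact ⟨n, by omega, Or.inr ⟨h, rfl⟩⟩
  obtain ⟨t, ht⟩ := D.exists_ro (i := j) hj3 (by
    rintro (⟨-, -, h⟩ | ⟨h, -⟩)
    · exact hq2 h
    · exact absurd h (by decide))
  -- the prime `s`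
  obtain ⟨s, hs⟩ := exists_prim (q := p) (e := i * k) D.hp.two_le (by nlinarith) (by
    rintro ⟨h1, h2⟩
    have h3 : i = 3 ∧ k = 2 := by
      have h4 : i * k = i * f * 2 := by rw [hkf]; ring
      have h5 : i * f = 3 := by omega
      have h6 : i ∣ 3 := Dvd.intro _ h5
      have h7 := Nat.le_of_dvd (by norm_num) h6
      have h8 : i = 3 := by omega
      subst h8
      exact ⟨rfl, by omega⟩
    exact hsm ⟨h1, by omega⟩)
  have hsR : Ro p true k i s := ro_of_prim D.hp hk (by omega) hs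
  have hsK := not_dvd_rad D T hsR ht hij
  have hsI : ¬ s ∣ S.index := by
    by_cases hp2 : p = 2
    · exact two_index D T hp2 hsR hin hsK
    · exact lin_index D T rfl hp2 hs hin
  -- the prime `r`
  obtain ⟨r, hr, hr2⟩ : ∃ r, Prim (p ^ f) i r ∧ (p ≠ 2 → Prim p (i * f) r) := by
    by_cases hp2 : p = 2
    · obtain ⟨r, hr⟩ := exists_prim (q := p ^ f) (e := i) (by
        calc 2 ≤ p := D.hp.two_le
          _ ≤ p ^ f := Nat.le_self_pow (by omega) p) hi3 (by omega)
      exact ⟨r, hr, fun h => absurd hp2 h⟩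
    · obtain ⟨r, hr⟩ := exists_prim (q := p) (e := i * f) D.hp.two_le (by nlinarith) (fun h => hp2 h.1)
      exact ⟨r, (ro_true_iff D.hp hf (by omega)).1 (ro_of_prim D.hp hf (by omega) hr), fun _ => hr⟩
  have hrk : Prim (p ^ k) i r := by
    refine ⟨hr.prime, fun m => ?_, fun hd => hr.not_dvd ?_⟩
    · have h1 : p ^ k = (p ^ f) ^ 2 := by rw [hkf, mul_comm 2 f, pow_mul]
      rw [h1, ← pow_mul, hr.dvd_iff]
      have hcop : Nat.Coprime i 2 := (Nat.coprime_two_right).2 (Nat.odd_iff.2 hio)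
      exact ⟨fun h => hcop.dvd_of_dvd_mul_left h, fun h => h.mul_left 2⟩
    · exact (hr.prime.dvd_of_dvd_pow hd).trans (dvd_pow_self p (by omega))
  have hrR : Ro p true k i r := (ro_true_iff D.hp hk (by omega)).2 hrk
  have hrK := not_dvd_rad D T hrR ht hij
  have hrI : ¬ r ∣ S.index := by
    by_cases hp2 : p = 2
    · exact two_index D T hp2 hrR hin hrK
    · intro h
      obtain ⟨m, hm1, hm2, hm3, -⟩ := out_fpf D T (hFpf hp2) hrR hin h
      have h1 := Nat.le_of_dvd hm1 (((hr2 hp2).dvd_iff m).1 hm2)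
      have h2 : m ≤ f := (Nat.pow_le_pow_iff_right D.hp.one_lt).1 hm3
      nlinarith
  have hs' : Prim (p ^ f) (2 * i) s := by
    refine (ro_true_iff D.hp hf (by omega)).1 (ro_of_prim D.hp hf (by omega) ?_)
    have h1 : 2 * i * f = i * k := by rw [hkf]; ring
    rwa [h1]
  have hrs : r ≠ s := by
    rintro rfl
    have := hr.unique hs'
    omega
  refine ⟨r, s, hr.prime, hs.prime, order_of_prim D.hp hf (by omega) hr, order_of_prim D.hp hf (by omega) hs', ?_⟩
  have hSn := T.norm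
  apply exists_order_S
  · refine D.exists_order (i := i) (by omega) (by omega) (Nat.mul_pos hr.prime.pos hs.prime.pos) ?_ ?_
    · apply Nat.Coprime.mul_left
      · rw [Nat.Prime.coprime_iff_not_dvd hr.prime]
        exact not_dvd_AA_one (by have := D.two_le; omega) hrR.2 (by omega)
      · rw [Nat.Prime.coprime_iff_not_dvd hs.prime]
        exact not_dvd_AA_one (by have := D.two_le; omega) hsR.2 (by omega)
    · exact Nat.Coprime.mul_dvd_of_dvd_of_dvd ((Nat.coprime_primes hr.prime hs.prime).2 hrs)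
        ((hrR.dvd_iff D.hp.pos).2 dvd_rfl) ((hsR.dvd_iff D.hp.pos).2 dvd_rfl)
  · intro v hv hvd
    rcases hv.dvd_mul.1 hvd with h | h
    · rw [(Nat.prime_dvd_prime_iff_eq hv hr.prime).1 h]
      exact ⟨hrK, hrI⟩
    · rw [(Nat.prime_dvd_prime_iff_eq hv hs.prime).1 h]
      exact ⟨hsK, hsI⟩

theorem simple_of_equiv {A B : Type*} [Group A] [Group B] (e : A ≃* B) (h : IsSimpleGroup A) : IsSimpleGroup B := by
  have := e.symm.toEquiv.nontrivial
  exact IsSimpleGroup.isSimpleGroup_of_surjective e.toMonoidHom e.surjective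

theorem lin (D : Dat p true n k F L G) (T : Str p K S) (hsm : ¬ SmallL p n k) : Nonempty (↥S ≃* L) := by
  have hn := D.hn
  have hk := D.hk
  have hpf := Fact.mk D.hp
  have hS := T.comp.simple
  obtain ⟨fam, f, d, hfam, hsh, hd⟩ := FamN.exists_fam D.hp T.lie
  have hfp := hsh.f_pos
  have hP : ∀ e u, 3 ≤ e → Prim p e u → u ∣ Nat.card ↥S → OkL n k e := by
    intro e u he hu huS
    obtain ⟨j, hj1, hj2, hj3⟩ := D.exists_AA hu.prime (dvd_of_dvd_S huS) (by
      rintro rfl
      exact hu.not_dvd dvd_rfl)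
    refine ⟨j, hj1, hj2, ?_⟩
    have h1 : u ∣ p ^ (k * j) - 1 := by
      rw [pow_mul]
      exact hj3
    rw [mul_comm]
    exact (hu.dvd_iff _).1 h1
  have hall : ∀ i j, ((i = n ∧ j = n - 1) ∨ (i = n - 1 ∧ j = n)) → ∀ u, Prim p (i * k) u → u ∣ Nat.card ↥S := by
    intro i j hij u hu
    have hu1 : Ro p true k i u := ro_of_prim D.hp hk (by omega) hu
    obtain ⟨t, ht⟩ : ∃ t, Ro p true k j t := by
      by_cases hex : Exc true j (p ^ k)
      · exfalso
        rcases hex with ⟨-, h1, h2⟩ | ⟨h1, -⟩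
        · have hk1 : p = 2 ∧ k = 1 := by
            have h3 : p ∣ 2 := by rw [← h2]; exact dvd_pow_self p (by omega)
            have h4 := (Nat.prime_dvd_prime_iff_eq D.hp Nat.prime_two).1 h3
            subst h4
            refine ⟨rfl, ?_⟩
            by_contra hk1
            have h5 : 2 ^ 2 ≤ 2 ^ k := Nat.pow_le_pow_right (by norm_num) (by omega)
            omega
          rcases hij with ⟨h3, h4⟩ | ⟨h3, h4⟩
          · exact hsm ⟨hk1.1, by omega⟩
          · exact hsm ⟨hk1.1, by omega⟩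
        · exact absurd h1 (by decide)
      · exact D.exists_ro (by omega) hex
    have hu2 := not_dvd_rad D T hu1 ht hij
    refine dvd_S hu.prime (D.dvd_card hu1 (by omega) (by omega)) hu2 ?_
    by_cases hp2 : p = 2
    · exact two_index D T hp2 hu1 (by omega) hu2
    · exact lin_index D T rfl hp2 hu (by omega)
  have hC := classify D.hp hn hk hsm hfam hsh hP (hall n (n - 1) (Or.inl ⟨rfl, rfl⟩))
    (hall (n - 1) n (Or.inr ⟨rfl, rfl⟩))
  obtain ⟨i, hio, hin⟩ : ∃ i, i % 2 = 1 ∧ (i = n ∨ i = n - 1) := by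
    rcases Nat.mod_two_eq_zero_or_one n with h | h
    · exact ⟨n - 1, by omega, Or.inr rfl⟩
    · exact ⟨n, h, Or.inl rfl⟩
  have hi := Nat.odd_iff.2 hio
  have tr : ∀ {H : Type} [Group H] (g : ↥S ≃* H) {m : ℕ}, (∃ x : ↥S, orderOf x = m) → ∃ y : H, orderOf y = m := by
    rintro H _ g m ⟨x, hx⟩
    exact ⟨g x, by rw [MulEquiv.orderOf_eq, hx]⟩
  cases hC with
  | psl hfk =>
    subst hfk
    obtain ⟨-, -, F', _, _, _, hF', ⟨f1⟩⟩ := hfam
    obtain ⟨f2⟩ := D.hL
    have hcard : Fintype.card F' = Fintype.card F := by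
      rw [hF', D.hF]
      simp
    exact ⟨(f1.trans (LieClassical.FieldTransfer.pslCongr (FiniteField.ringEquivOfCardEq hcard))).trans f2.symm⟩
  | psp hkf =>
    exfalso
    obtain ⟨-, -, F', _, _, _, hF', ⟨f1⟩⟩ := hfam
    have hs := simple_of_equiv f1 hS
    have hfin : Finite (PSp n F') := Finite.of_equiv _ f1.toEquiv
    have hnc : Nat.card F' = p ^ f := by rw [Nat.card_eq_fintype_card, hF']
    obtain ⟨r, s, hr, hs, h1, h2, h3⟩ := surv D T hsm hfp hkf (fun _ => by
      have h := (hasNode_PSp (p := p) (F := F') (m := n) (by omega) hs).fpf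
      rw [hnc] at h
      exact h.congr f1) hio hin
    rw [← hF'] at h1 h2
    exact H161.NonAdj.psp_nonadj hr hs hi (by omega) h1 h2 (by omega) (tr f1 h3)
  | oodd hkf =>
    exfalso
    obtain ⟨-, ho, F', _, _, _, hF', ⟨f1⟩⟩ := hfam
    have hs := simple_of_equiv f1 hS
    have hfin : Finite (POmega F' (quadFormOdd n F')) := Finite.of_equiv _ f1.toEquiv
    have hnc : Nat.card F' = p ^ f := by rw [Nat.card_eq_fintype_card, hF']
    obtain ⟨r, s, hr, hs, h1, h2, h3⟩ := surv D T hsm hfp hkf (fun hp2 => by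
      have h20 : (2 : F') ≠ 0 := by
        intro h2
        have h3 := (CharP.cast_eq_zero_iff F' p 2).1 (by exact_mod_cast h2)
        exact hp2 ((Nat.prime_dvd_prime_iff_eq D.hp Nat.prime_two).1 h3)
      have h := (hasNode_PO_odd (p := p) (F := F') (m := n) h20 (by omega) hfin hs).fpf
      rw [hnc] at h
      exact h.congr f1) hio hin
    rw [← hF'] at h1 h2 ho
    exact H161.NonAdj.podd_nonadj ho hr hs hi (by omega) h1 h2 (by omega) (tr f1 h3)
  | oplus hkf =>
    exfalso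
    obtain ⟨-, F', _, _, _, hF', ⟨f1⟩⟩ := hfam
    have hs := simple_of_equiv f1 hS
    have hfin : Finite (POmega F' (quadFormPlus (n + 1) F')) := Finite.of_equiv _ f1.toEquiv
    have hnc : Nat.card F' = p ^ f := by rw [Nat.card_eq_fintype_card, hF']
    obtain ⟨r, s, hr, hs, h1, h2, h3⟩ := surv D T hsm hfp hkf (fun _ => by
      have h := hasNode_PO_plus (p := p) (F := F') (n - 3)
      rw [show n - 3 + 4 = n + 1 by omega] at h
      have h' := (h hfin hs).fpf
      rw [hnc] at h'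
      exact h'.congr f1) hio hin
    rw [← hF'] at h1 h2
    exact H161.NonAdj.pplus_nonadj (by omega) hr hs hi (by omega) h1 h2 (by omega) (tr f1 h3)
  | ominus hkf =>
    exfalso
    obtain ⟨-, F', _, _, _, a, b, hF', hab, ⟨f1⟩⟩ := hfam
    have hs := simple_of_equiv f1 hS
    have hfin : Finite (POmega F' (quadFormMinus (n - 1) F' a b)) := Finite.of_equiv _ f1.toEquiv
    have hnc : Nat.card F' = p ^ f := by rw [Nat.card_eq_fintype_card, hF']
    obtain ⟨r, s, hr, hs, h1, h2, h3⟩ := surv D T hsm hfp hkf (fun _ => by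
      have h := (hasNode_PO_minus (p := p) (F := F') (m := n - 1) hab (by omega) hfin hs).fpf
      rw [hnc] at h
      exact h.congr f1) hio hin
    rw [← hF'] at h1 h2
    exact H161.NonAdj.pminus_nonadj (by omega) a b hab hr hs hi (by omega) h1 h2 (by omega) (tr f1 h3)

end Cfsg.Agent.H405.LinMain
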