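import Cfsg.Agent.H405.NumLin

/-!
# The candidates for `PSL_4(2)`, `PSL_5(2)`, `PSL_6(2)`, `PSL_7(2)`, `PSL_4(4)` (helper405)
-/

set_option autoImplicit false

namespace Cfsg.Agent.H405.NumSmall

open Cfsg Cfsg.Agent.H414.LieShape Cfsg.Agent.H426.LieFam Cfsg.Agent.H436
open Cfsg.Agent.H405.NumLin

variable {S : Type*} [Group S] {f : ℕ}

theorem mem_psl {m i : ℕ} (h2 : 2 ≤ i) (hm : i ≤ m) : Fac.sub i ∈ (Fam.psl m).facs := by
  obtain ⟨t, rfl⟩ : ∃ t, i = t + 2 := ⟨i - 2, by omega⟩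
  exact mem_range_map (F := fun i => Fac.sub (i + 2)) (show t < m - 1 by omega)

theorem mem_psp {m i : ℕ} (h2 : 1 ≤ i) (hm : i ≤ m) : Fac.sub (2 * i) ∈ (Fam.psp m).facs := by
  obtain ⟨t, rfl⟩ : ∃ t, i = t + 1 := ⟨i - 1, by omega⟩
  exact mem_range_map (F := fun i => Fac.sub (2 * (i + 1))) (show t < m by omega)

theorem mem_psu_even {m i : ℕ} (h2 : 2 ≤ i) (hm : i ≤ m) (he : i % 2 = 0) : Fac.sub i ∈ (Fam.psu m).facs := by
  obtain ⟨t, rfl⟩ : ∃ s, i = s + 2 := ⟨i - 2, by omega⟩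
  have := mem_range_map (F := fun i => if Even (i + 1) then Fac.add (i + 2) else Fac.sub (i + 2))
    (show t < m - 1 by omega)
  rwa [if_neg (by rw [Nat.not_even_iff]; omega)] at this

theorem mem_psu_odd {m i : ℕ} (h2 : 2 ≤ i) (hm : i ≤ m) (he : i % 2 = 1) : Fac.add i ∈ (Fam.psu m).facs := by
  obtain ⟨t, rfl⟩ : ∃ s, i = s + 2 := ⟨i - 2, by omega⟩
  have := mem_range_map (F := fun i => if Even (i + 1) then Fac.add (i + 2) else Fac.sub (i + 2))
    (show t < m - 1 by omega)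
  rwa [if_pos (by rw [Nat.even_iff]; omega)] at this

theorem mem_oplus {m i : ℕ} (h2 : 1 ≤ i) (hm : i ≤ m - 1) : Fac.sub (2 * i) ∈ (Fam.oplus m).facs := by
  obtain ⟨t, rfl⟩ : ∃ t, i = t + 1 := ⟨i - 1, by omega⟩
  exact List.mem_cons_of_mem _ (mem_range_map (F := fun i => Fac.sub (2 * (i + 1))) (show t < m - 1 by omega))

/-- bound 8 on the exponents: the families -/
theorem bound8 {fam : Fam} (hfam : fam.Is 2 f S) (hf : 1 ≤ f) (h8 : ∀ x ∈ fam.facs, ex f x ≤ 8) :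
    (∃ m, fam = .psl m ∧ 2 ≤ m ∧ f * m ≤ 8 ∧ (m = 2 → 4 ≤ 2 ^ f)) ∨
    (∃ m, fam = .psp m ∧ 2 ≤ m ∧ 2 * (f * m) ≤ 8 ∧ (m = 2 → 3 ≤ 2 ^ f)) ∨
    (f = 1 ∧ (fam = .psu 4 ∨ fam = .oplus 4 ∨ fam = .oplus 5 ∨ fam = .ominus 4)) := by
  cases fam with
  | psl m =>
    left
    refine ⟨m, rfl, hfam.1, ?_, hfam.2.1⟩
    exact h8 _ (mem_psl hfam.1 le_rfl)
  | psp m =>
    right; left
    refine ⟨m, rfl, hfam.1, ?_, hfam.2.1⟩
    have h1 : f * (2 * m) ≤ 8 := h8 _ (mem_psp (by have := hfam.1; omega) le_rfl)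
    calc 2 * (f * m) = f * (2 * m) := by ring
      _ ≤ 8 := h1
  | psu m =>
    right; right
    have h3 : 3 ≤ m := hfam.1
    have hn := hfam.2.1
    have hf1 : 2 * (f * 3) ≤ 8 := h8 _ (mem_psu_odd (by norm_num) h3 rfl)
    obtain rfl : f = 1 := by omega
    refine ⟨rfl, Or.inl ?_⟩
    have h5 : m < 5 := by
      by_contra h5
      have h6 : 2 * (1 * 5) ≤ 8 := h8 _ (mem_psu_odd (by norm_num) (by omega) rfl)
      omega
    have h3' : m ≠ 3 := by
      rintro rfl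
      exact hn ⟨rfl, rfl⟩
    rw [show m = 4 by omega]
  | oodd m =>
    exfalso
    have h1 := hfam.2.1
    rw [Nat.odd_iff] at h1
    have h2 : 2 ∣ 2 ^ f := dvd_pow_self 2 (by omega)
    omega
  | oplus m =>
    right; right
    have h4 : 4 ≤ m := hfam.1
    have hf1 : f * (2 * 3) ≤ 8 := h8 _ (mem_oplus (by norm_num) (by omega))
    obtain rfl : f = 1 := by omega
    refine ⟨rfl, ?_⟩
    have h5 : m < 6 := by
      by_contra h5
      have h6 : 1 * (2 * 5) ≤ 8 := h8 _ (mem_oplus (by norm_num) (by omega))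
      omega
    rcases (show m = 4 ∨ m = 5 by omega) with rfl | rfl
    · exact Or.inr (Or.inl rfl)
    · exact Or.inr (Or.inr (Or.inl rfl))
  | ominus m =>
    right; right
    have h4 : 4 ≤ m := hfam.1
    have hm : 2 * (f * m) ≤ 8 := h8 (Fac.add m) (List.mem_cons_self)
    have h1 : f * 4 ≤ f * m := Nat.mul_le_mul_left f h4
    obtain rfl : f = 1 := by omega
    rw [one_mul] at hm
    refine ⟨rfl, Or.inr (Or.inr (Or.inr ?_))⟩
    rw [show m = 4 by omega]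
  | g2 =>
    exfalso
    have h1 : f * 6 ≤ 8 := h8 (Fac.sub 6) (by simp [Fam.facs])
    obtain rfl : f = 1 := by omega
    have h2 := hfam.1
    norm_num at h2
  | f4 =>
    exfalso
    have h1 : f * 12 ≤ 8 := h8 (Fac.sub 12) (by simp [Fam.facs])
    omega
  | e6 =>
    exfalso
    have h1 : f * 12 ≤ 8 := h8 (Fac.sub 12) (by simp [Fam.facs])
    omega
  | e7 =>
    exfalso
    have h1 : f * 12 ≤ 8 := h8 (Fac.sub 12) (by simp [Fam.facs])
    omega
  | e8 =>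
    exfalso
    have h1 : f * 12 ≤ 8 := h8 (Fac.sub 12) (by simp [Fam.facs])
    omega
  | te6 =>
    exfalso
    have h1 : f * 12 ≤ 8 := h8 (Fac.sub 12) (by simp [Fam.facs])
    omega
  | td4 =>
    exfalso
    have h1 : 12 * f ≤ 8 := h8 Fac.tri (by simp [Fam.facs])
    omega
  | sz =>
    exfalso
    obtain ⟨-, m, hm, rfl, -⟩ := hfam
    have h1 : 2 * ((2 * m + 1) * 2) ≤ 8 := h8 (Fac.add 2) (by simp [Fam.facs])
    omega
  | tf4 =>
    exfalso
    obtain ⟨-, m, hm, rfl, -⟩ := hfam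
    have h1 : 2 * ((2 * m + 1) * 6) ≤ 8 := h8 (Fac.add 6) (by simp [Fam.facs])
    omega
  | ree => exact absurd hfam.1 (by norm_num)

/-- the element of the list of factors -/
theorem facs_psl {m : ℕ} {x : Fac} (h : x ∈ (Fam.psl m).facs) : ∃ i, 2 ≤ i ∧ i ≤ m ∧ x = Fac.sub i := by
  obtain ⟨i, hi, rfl⟩ := List.mem_map.1 h
  rw [List.mem_range] at hi
  exact ⟨i + 2, by omega, by omega, rfl⟩

theorem facs_psp {m : ℕ} {x : Fac} (h : x ∈ (Fam.psp m).facs) : ∃ i, 1 ≤ i ∧ i ≤ m ∧ x = Fac.sub (2 * i) := by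
  obtain ⟨i, hi, rfl⟩ := List.mem_map.1 h
  rw [List.mem_range] at hi
  exact ⟨i + 1, by omega, by omega, rfl⟩

/-- the case of an odd top exponent -/
theorem odd_top {fam : Fam} (hfam : fam.Is 2 f S) (hf : 1 ≤ f) {n t : ℕ} (hn : n ≤ 7)
    (hok : ∀ x ∈ fam.facs, ex f x ≤ n ∨ ex f x = 6) (ht : t = 5 ∨ t = 7) (hx : ∃ x ∈ fam.facs, t ∣ ex f x) :
    f = 1 ∧ ∃ m, fam = .psl m ∧ t ≤ m ∧ (m ≤ n ∨ m = 6) := by
  have h7 : ∀ x ∈ fam.facs, ex f x ≤ 7 := fun x hx => by rcases hok x hx with h | h <;> omega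
  obtain ⟨x, hx, htx⟩ := hx
  rcases bound8 hfam hf (fun x hx => (h7 x hx).trans (by norm_num)) with ⟨m, rfl, h2, h3, h4⟩ | ⟨m, rfl, h2, h3, h4⟩ |
    ⟨rfl, rfl | rfl | rfl | rfl⟩
  · obtain ⟨i, hi2, him, rfl⟩ := facs_psl hx
    have hex : t ∣ f * i := htx
    have hex7 : f * i ≤ 7 := h7 _ hx
    have h5 : f * i = t := by
      obtain ⟨c, hc⟩ := hex
      have hpos : 0 < f * i := Nat.mul_pos hf (by omega)
      rcases (show c = 0 ∨ c = 1 ∨ 2 ≤ c by omega) with h | h | h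
      · rw [h, mul_zero] at hc; omega
      · rw [hc, h, mul_one]
      · have := Nat.mul_le_mul_left t h
        omega
    have hf1 : f = 1 := by
      have hip : i ∣ t := Dvd.intro_left _ h5
      have htp : t.Prime := by rcases ht with rfl | rfl <;> norm_num
      rcases (Nat.dvd_prime htp).1 hip with h | h
      · omega
      · rw [h] at h5
        have : 0 < t := htp.pos
        nlinarith
    subst hf1
    rw [one_mul] at h5
    refine ⟨rfl, m, rfl, by omega, ?_⟩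
    have h6 : 1 * m ≤ n ∨ 1 * m = 6 := hok _ (mem_psl h2 le_rfl)
    rwa [one_mul] at h6
  · exfalso
    obtain ⟨i, hi2, him, rfl⟩ := facs_psp hx
    have hex : t ∣ f * (2 * i) := htx
    have hex7 : f * (2 * i) ≤ 7 := h7 _ hx
    obtain ⟨c, hc⟩ := hex
    have hpos : 0 < f * (2 * i) := Nat.mul_pos hf (by omega)
    have h5 : f * (2 * i) = 2 * (f * i) := by ring
    rcases (show c = 0 ∨ c = 1 ∨ 2 ≤ c by omega) with h | h | h
    · rw [h, mul_zero] at hc; omega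
    · rw [h, mul_one] at hc; omega
    · have := Nat.mul_le_mul_left t h
      omega
  · exfalso
    have h1 : ∀ x ∈ (Fam.psu 4).facs, ex 1 x = 2 ∨ ex 1 x = 4 ∨ ex 1 x = 6 := by decide
    rcases h1 x hx with h | h | h <;> rw [h] at htx <;> rcases ht with rfl | rfl <;> revert htx <;> decide
  · exfalso
    have h1 : ∀ x ∈ (Fam.oplus 4).facs, ex 1 x = 2 ∨ ex 1 x = 4 ∨ ex 1 x = 6 := by decide
    rcases h1 x hx with h | h | h <;> rw [h] at htx <;> rcases ht with rfl | rfl <;> revert htx <;> decide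
  · exfalso
    have h1 : 1 * (2 * 4) ≤ 7 := h7 _ (mem_oplus (by norm_num) (by norm_num))
    omega
  · exfalso
    have h1 : 2 * (1 * 4) ≤ 7 := h7 (Fac.add 4) (List.mem_cons_self)
    omega

theorem four1 {fam : Fam} (hfam : fam.Is 2 f S) (hf : 1 ≤ f) (hok : ∀ x ∈ fam.facs, ex f x ≤ 4 ∨ ex f x = 6)
    (h5 : ∃ x ∈ fam.facs, 4 ∣ ex f x) (h7 : ∃ x ∈ fam.facs, 7 ∣ x.val (2 ^ f) ∧ 3 ∣ ex f x) :
    (f = 1 ∧ (fam = .psl 4 ∨ fam = .psp 3 ∨ fam = .oplus 4)) ∨ (f = 2 ∧ fam = .psl 3) := by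
  have h8 : ∀ x ∈ fam.facs, ex f x ≤ 8 := fun x hx => by rcases hok x hx with h | h <;> omega
  obtain ⟨x, hx, hx4⟩ := h5
  obtain ⟨y, hy, hy7, hy3⟩ := h7
  rcases bound8 hfam hf h8 with ⟨m, rfl, h2, h3, h4⟩ | ⟨m, rfl, h2, h3, h4⟩ | ⟨rfl, rfl | rfl | rfl | rfl⟩
  · obtain ⟨i, hi2, him, rfl⟩ := facs_psl hx
    obtain ⟨j, hj2, hjm, rfl⟩ := facs_psl hy
    have e1 : 4 ∣ f * i := hx4
    have e2 : 3 ∣ f * j := hy3
    have e3 : f * m ≤ 4 ∨ f * m = 6 := hok _ (mem_psl h2 le_rfl)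
    have e4 : 5 ≤ m → f * 5 ≤ 4 ∨ f * 5 = 6 := fun h => hok _ (mem_psl (by norm_num) h)
    have hm8 : m ≤ 6 := by
      have : 1 * m ≤ f * m := Nat.mul_le_mul_right _ hf
      omega
    have hf3 : f ≤ 3 := by
      have : f * 2 ≤ f * m := Nat.mul_le_mul_left _ h2
      omega
    interval_cases f <;> interval_cases m <;> simp at e1 e2 e3 e4 ⊢ <;> interval_cases i <;> interval_cases j <;> omega
  · obtain ⟨i, hi2, him, rfl⟩ := facs_psp hx
    obtain ⟨j, hj2, hjm, rfl⟩ := facs_psp hy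
    have e1 : 4 ∣ f * (2 * i) := hx4
    have e2 : 3 ∣ f * (2 * j) := hy3
    have e3 : f * (2 * m) ≤ 4 ∨ f * (2 * m) = 6 := hok _ (mem_psp (by omega) le_rfl)
    have hf1 : f = 1 := by
      have : f * (2 * 2) ≤ f * (2 * m) := Nat.mul_le_mul_left _ (by omega)
      omega
    subst hf1
    have hm3 : m ≤ 3 := by omega
    interval_cases m
    · simp at h4
    · simp
  · exfalso
    have h1 : ∀ x ∈ (Fam.psu 4).facs, ¬ (7 ∣ x.val (2 ^ 1)) := by decide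
    exact h1 y hy hy7
  · simp
  · exfalso
    rcases hok _ (mem_oplus (m := 5) (i := 4) (by norm_num) (by norm_num)) with h | h <;> simp [ex] at h
  · exfalso
    rcases hok (Fac.add 4) (List.mem_cons_self) with h | h <;> simp [ex] at h

theorem four2 {fam : Fam} (hfam : fam.Is 2 f S) (hf : 1 ≤ f)
    (hok : ∀ x ∈ fam.facs, ex f x ≤ 4 ∨ ex f x = 6 ∨ ex f x = 8)
    (h17 : ∃ x ∈ fam.facs, 8 ∣ ex f x) (h7 : ∃ x ∈ fam.facs, 7 ∣ x.val (2 ^ f) ∧ 3 ∣ ex f x) :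
    (f = 2 ∧ fam = .psl 4) ∨ (f = 1 ∧ (fam = .psp 4 ∨ fam = .ominus 4)) := by
  have h8 : ∀ x ∈ fam.facs, ex f x ≤ 8 := fun x hx => by rcases hok x hx with h | h | h <;> omega
  obtain ⟨x, hx, hx4⟩ := h17
  obtain ⟨y, hy, hy7, hy3⟩ := h7
  rcases bound8 hfam hf h8 with ⟨m, rfl, h2, h3, h4⟩ | ⟨m, rfl, h2, h3, h4⟩ | ⟨rfl, rfl | rfl | rfl | rfl⟩
  · obtain ⟨i, hi2, him, rfl⟩ := facs_psl hx
    obtain ⟨j, hj2, hjm, rfl⟩ := facs_psl hy
    have e1 : 8 ∣ f * i := hx4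
    have e2 : 3 ∣ f * j := hy3
    have e4 : 5 ≤ m → f * 5 ≤ 4 ∨ f * 5 = 6 ∨ f * 5 = 8 := fun h => hok _ (mem_psl (by norm_num) h)
    have hm8 : m ≤ 8 := by
      have : 1 * m ≤ f * m := Nat.mul_le_mul_right _ hf
      omega
    have hf3 : f ≤ 4 := by
      have : f * 2 ≤ f * m := Nat.mul_le_mul_left _ h2
      omega
    have him' : f * i ≤ f * m := Nat.mul_le_mul_left _ him
    interval_cases f
    · exfalso; omega
    · left
      refine ⟨rfl, ?_⟩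
      rw [show m = 4 by omega]
    · exfalso; omega
    · exfalso
      have hm2 : m = 2 := by omega
      subst hm2
      have : j = 2 := by omega
      omega
  · obtain ⟨i, hi2, him, rfl⟩ := facs_psp hx
    obtain ⟨j, hj2, hjm, rfl⟩ := facs_psp hy
    have e1 : 8 ∣ f * (2 * i) := hx4
    have e2 : 3 ∣ f * (2 * j) := hy3
    have hf2 : f ≤ 2 := by
      have : f * 2 ≤ f * m := Nat.mul_le_mul_left _ h2
      omega
    interval_cases f
    · right
      refine ⟨rfl, Or.inl ?_⟩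
      rw [show m = 4 by omega]
    · exfalso
      have hm2 : m = 2 := by omega
      subst hm2
      interval_cases j <;> omega
  · exfalso
    have h1 : ∀ x ∈ (Fam.psu 4).facs, ¬ (8 ∣ ex 1 x) := by decide
    exact h1 x hx hx4
  · exfalso
    have h1 : ∀ x ∈ (Fam.oplus 4).facs, ¬ (8 ∣ ex 1 x) := by decide
    exact h1 x hx hx4
  · exfalso
    rcases hok (Fac.sub 5) (List.mem_cons_self) with h | h | h <;> simp [ex] at h
  · exact Or.inr ⟨rfl, Or.inr rfl⟩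

end Cfsg.Agent.H405.NumSmall
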