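import Cfsg.Agent.H405.NumLin
import Cfsg.Agent.H403.NumTop

/-!
# Groups of Lie type whose order has its primes among those of `|PSU_n(q)|` and contains the top ones (helper405)

`n ≥ 4`, `N` the odd and `M` the even one of `n`, `n - 1`, `q = p ^ k`. `classify` : `S ≅ PSU_n(q)`.
-/

set_option autoImplicit false
set_option linter.unusedVariables false

namespace Cfsg.Agent.H405.NumUni

open Cfsg Cfsg.Agent.H414.LieShape Cfsg.Agent.H436 Cfsg.Agent.H426.LieFam Cfsg.Agent.H403.NumTop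
open Cfsg.Agent.H405.NumLin (mem_range_map ex_pos mul_small)

/-- exponents of the primes dividing `|PSU_n(q)|`, `q = p ^ k` -/
def OkU (n k e : ℕ) : Prop :=
  ∃ j, 1 ≤ j ∧ j ≤ n ∧ ((j % 2 = 0 ∧ e ∣ j * k) ∨ (j % 2 = 1 ∧ e ∣ 2 * (j * k) ∧ ¬ e ∣ j * k))

theorem AA_even {j q : ℕ} (h : j % 2 = 0) : AA false j q = q ^ j - 1 := by
  unfold AA; simp [h]

theorem AA_odd {j q : ℕ} (h : j % 2 = 1) : AA false j q = q ^ j + 1 := by
  unfold AA; simp [h]

theorem AA_dvd {j q v : ℕ} (h : v ∣ AA false j q) : v ∣ q ^ (2 * j) - 1 := by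
  have h2 : q ^ (2 * j) - 1 = (q ^ j + 1) * (q ^ j - 1) := by
    rw [← Nat.sq_sub_sq, one_pow, ← pow_mul, mul_comm j 2]
  rw [h2]
  rcases Nat.mod_two_eq_zero_or_one j with h1 | h1
  · rw [AA_even h1] at h
    exact h.mul_left _
  · rw [AA_odd h1] at h
    exact h.mul_right _

theorem dvd_two_of {a v : ℕ} (h1 : v ∣ a + 1) (h2 : v ∣ a - 1) (ha : 1 ≤ a) : v ∣ 2 := by
  have h3 := (Nat.dvd_sub h1 h2)
  have h4 : a + 1 - (a - 1) = 2 := by omega
  rwa [h4] at h3

theorem okU_of {p n k e u j : ℕ} (hp : p.Prime) (he : 3 ≤ e) (hu : Prim p e u) (hj1 : 1 ≤ j) (hjn : j ≤ n)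
    (h : u ∣ AA false j (p ^ k)) : OkU n k e := by
  refine ⟨j, hj1, hjn, ?_⟩
  rcases Nat.mod_two_eq_zero_or_one j with h1 | h1
  · left
    rw [AA_even h1, ← pow_mul] at h
    exact ⟨h1, by rw [mul_comm j k]; exact (hu.dvd_iff _).1 h⟩
  · right
    have h2 := AA_dvd h
    rw [AA_odd h1, ← pow_mul] at h
    rw [← pow_mul] at h2
    refine ⟨h1, ?_, fun h3 => ?_⟩
    · have := (hu.dvd_iff _).1 h2
      rwa [show k * (2 * j) = 2 * (j * k) by ring] at this
    · rw [mul_comm j k] at h3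
      have h4 := dvd_two_of h ((hu.dvd_iff _).2 h3) (Nat.one_le_pow _ _ hp.pos)
      have := Prim_five_le hu he
      have := Nat.le_of_dvd (by norm_num) h4
      omega

section

variable {n N M k f : ℕ}

/-- `N` odd, `M` even, `{N, M} = {n - 1, n}` -/
structure NM (n N M : ℕ) : Prop where
  four : 4 ≤ n
  oddN : N % 2 = 1
  evenM : M % 2 = 0
  cases : (N = n ∧ M = n - 1) ∨ (N = n - 1 ∧ M = n)

theorem NM.three (h : NM n N M) : 3 ≤ N := by
  have := h.four
  rcases h.cases with ⟨h1, h2⟩ | ⟨h1, h2⟩ <;> omega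

theorem NM.fourM (h : NM n N M) : 4 ≤ M := by
  have := h.four
  have := h.oddN
  have := h.evenM
  rcases h.cases with ⟨h1, h2⟩ | ⟨h1, h2⟩ <;> omega

theorem NM.cop (h : NM n N M) : Nat.Coprime M N := by
  have := h.four
  rcases h.cases with ⟨h1, h2⟩ | ⟨h1, h2⟩
  · have e : N = M + 1 := by omega
    rw [e]
    exact (Nat.coprime_self_add_right).2 (Nat.coprime_one_right _)
  · have e : M = N + 1 := by omega
    rw [e, Nat.coprime_comm]
    exact (Nat.coprime_self_add_right).2 (Nat.coprime_one_right _)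

/-- exponents with odd or even `j` -/
theorem OkU.cases {e : ℕ} (hNM : NM n N M) (h : OkU n k e) :
    (∃ j, 2 ≤ j ∧ j ≤ N + 1 ∧ j ≤ n ∧ j % 2 = 0 ∧ e ∣ j * k) ∨
      (∃ j, 1 ≤ j ∧ j ≤ N ∧ j % 2 = 1 ∧ e ∣ 2 * (j * k) ∧ ¬ e ∣ j * k) := by
  obtain ⟨j, h1, h2, h3 | h3⟩ := h
  · left
    have := hNM.cases
    exact ⟨j, by omega, by omega, h2, h3⟩
  · right
    have := hNM.cases
    have := hNM.oddN
    exact ⟨j, h1, by omega, h3⟩

theorem not_okU (hNM : NM n N M) (hk : 1 ≤ k) : ¬ OkU n k (N * k) := by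
  have h3 := hNM.three
  have ho := hNM.oddN
  intro h
  rcases h.cases hNM with ⟨j, h1, h2, -, h4, h5⟩ | ⟨j, h1, h2, h4, h5, h6⟩
  · obtain ⟨c, hc⟩ := Nat.dvd_of_mul_dvd_mul_right hk h5
    rcases (show c = 0 ∨ c = 1 ∨ 2 ≤ c by omega) with h | h | h
    · subst h; omega
    · subst h; omega
    · have := Nat.mul_le_mul_left N h
      omega
  · apply h6
    rw [← mul_assoc] at h5
    have h7 := Nat.dvd_of_mul_dvd_mul_right hk h5
    have h8 : Nat.Coprime N 2 := (Nat.coprime_two_right).2 (Nat.odd_iff.2 ho)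
    exact Nat.mul_dvd_mul_right (h8.dvd_of_dvd_mul_left h7) k

/-- the primes `v` with `q` of order `N` do not divide `|PSU_n(q)|` -/
theorem killN {p v : ℕ} (hp : p.Prime) (hNM : NM n N M) (hv : Prim (p ^ k) N v)
    (h : ∃ j, 1 ≤ j ∧ j ≤ n ∧ v ∣ AA false j (p ^ k)) : False := by
  have h3 := hNM.three
  have ho := hNM.oddN
  have hc := hNM.cases
  obtain ⟨j, h1, h2, h4⟩ := h
  have h5 := (hv.dvd_iff _).1 (AA_dvd h4)
  have h8 : Nat.Coprime N 2 := (Nat.coprime_two_right).2 (Nat.odd_iff.2 ho)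
  have h6 : N ∣ j := h8.dvd_of_dvd_mul_left h5
  obtain ⟨c, rfl⟩ := h6
  have hc1 : c = 1 := by
    rcases (show c = 0 ∨ c = 1 ∨ 2 ≤ c by omega) with h | h | h
    · subst h; omega
    · exact h
    · have := Nat.mul_le_mul_left N h
      omega
  subst hc1
  rw [mul_one] at *
  rw [AA_odd ho] at h4
  have h7 := dvd_two_of h4 ((hv.dvd_iff _).2 dvd_rfl) (Nat.one_le_pow _ _ (Nat.pow_pos hp.pos))
  have := Prim_five_le hv h3
  have := Nat.le_of_dvd (by norm_num) h7
  omega

/-- no factor `q₀ ^ a - 1` with `N k ∣ f a` -/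
theorem no_sub {p c d N' : ℕ} {l : List Fac} (hp : p.Prime) (hNM : NM n N M) (hk : 1 ≤ k)
    (h : Sh p c f d N' l) (hL : ∀ v : ℕ, v.Prime → v ∣ c → v ≠ p → ∃ j, 1 ≤ j ∧ j ≤ n ∧ v ∣ AA false j (p ^ k))
    {a : ℕ} (ha : Fac.sub a ∈ l) (hd : N * k ∣ f * a) : False := by
  have h3 := hNM.three
  have ho := hNM.oddN
  have hq : 2 ≤ p ^ k := by
    calc 2 ≤ p := hp.two_le
      _ ≤ p ^ k := Nat.le_self_pow (by omega) p
  obtain ⟨v, hv⟩ := exists_prim (q := p ^ k) (e := N) hq h3 (by omega)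
  refine killN hp hNM hv (hL v hv.prime ?_ ?_)
  · refine h.dvd_of_fac hv.prime (Prim_five_le hv h3) ha ?_
    change v ∣ (p ^ f) ^ a - 1
    have h1 := (hv.dvd_iff N).2 dvd_rfl
    rw [← pow_mul] at h1 ⊢
    refine h1.trans ?_
    obtain ⟨c, hc⟩ := hd
    rw [hc, mul_comm k N, pow_mul p (N * k) c]
    have := Nat.sub_dvd_pow_sub_pow (p ^ (N * k)) 1 c
    rwa [one_pow] at this
  · rintro rfl
    exact hv.not_dvd (dvd_pow_self _ (by omega))

/-- the top factor -/
theorem top_add {p c d N' : ℕ} {l : List Fac} (hp : p.Prime) (hNM : NM n N M) (hk : 1 ≤ k) (hsm : ¬ (n = 4 ∧ p ^ k = 2))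
    (h : Sh p c f d N' l) (hpos : ∀ x ∈ l, 0 < ex f x)
    (hL : ∀ v : ℕ, v.Prime → v ∣ c → v ≠ p → ∃ j, 1 ≤ j ∧ j ≤ n ∧ v ∣ AA false j (p ^ k))
    (hN : ∀ u, Prim p (2 * (N * k)) u → u ∣ c) :
    (∃ a, Fac.add a ∈ l ∧ f * a = N * k) ∨ (Fac.tri ∈ l ∧ 6 * f = N * k) := by
  have h3 := hNM.three
  have ho := hNM.oddN
  have h3k : 3 * k ≤ N * k := Nat.mul_le_mul_right _ h3
  have h6 : p = 2 → 2 * (N * k) ≠ 6 := by
    intro hp2 h6
    apply hsm
    rcases mul_small h3 hk (show N * k ≤ 6 by omega) with rfl | ⟨h7, rfl⟩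
    · have := hNM.four
      have := hNM.cases
      refine ⟨by omega, by rw [hp2, pow_one]⟩
    · omega
  obtain ⟨u, hu⟩ := exists_prim (q := p) (e := 2 * (N * k)) hp.two_le (by omega) (fun h7 => h6 h7.1 h7.2)
  obtain ⟨x, hx, hux, hd⟩ := h.exists_ex hp hu (hN u hu)
  have hle := Nat.le_of_dvd (hpos x hx) hd
  have hex : ex f x = 2 * (N * k) := by
    have hok : OkU n k (ex f x) := by
      refine h.all_ex hp (OkU n k) ?_ hx (by omega) ?_
      · intro e u he hu hd
        obtain ⟨j, h1, h2, h4⟩ := hL u hu.prime hd (by rintro rfl; exact hu.not_dvd dvd_rfl)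
        exact okU_of hp he hu h1 h2 h4
      · rintro ⟨h7, h8⟩
        apply h6 h7
        rw [h8] at hd hle
        obtain ⟨c, hc⟩ := hd
        rcases (show c = 0 ∨ c = 1 ∨ 2 ≤ c by omega) with h | h | h
        · subst h; omega
        · subst h; omega
        · have := Nat.mul_le_mul_left (2 * (N * k)) h
          omega
    rcases hok.cases hNM with ⟨j, h1, h2, -, h4, h5⟩ | ⟨j, h1, h2, h4, h5, h7⟩
    · exfalso
      have h8 : j * k ≤ (N + 1) * k := Nat.mul_le_mul_right _ h2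
      have h9 := Nat.le_of_dvd (Nat.mul_pos (by omega) hk) h5
      rw [Nat.succ_mul] at h8
      omega
    · have h8 : j * k ≤ N * k := Nat.mul_le_mul_right _ h2
      have h9 := Nat.le_of_dvd (Nat.mul_pos two_pos (Nat.mul_pos (by omega) hk)) h5
      omega
  cases x with
  | sub a =>
    exfalso
    refine no_sub hp hNM hk h hL hx (a := a) ?_
    change f * a = 2 * (N * k) at hex
    rw [hex]
    exact Dvd.intro_left _ rfl
  | add a =>
    left
    refine ⟨a, hx, ?_⟩
    change 2 * (f * a) = 2 * (N * k) at hex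
    omega
  | tri =>
    right
    refine ⟨hx, ?_⟩
    change 12 * f = 2 * (N * k) at hex
    omega

/-- the survivors -/
inductive UniC (N k : ℕ) : ℕ → Fam → Prop
  | psu {f m t : ℕ} : t % 2 = 1 → 3 ≤ t → t ≤ m → m ≤ t + 1 → f * t = N * k → UniC N k f (.psu m)
  | ree {f : ℕ} : 3 * f = N * k → UniC N k f .ree

theorem not_add_of_map {F : ℕ → ℕ} {l : List ℕ} {a : ℕ} (h : Fac.add a ∈ l.map fun i => Fac.sub (F i)) : False := by
  obtain ⟨i, -, hi⟩ := List.mem_map.1 h
  cases hi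

theorem not_tri_of_map {F : ℕ → ℕ} {l : List ℕ} (h : Fac.tri ∈ l.map fun i => Fac.sub (F i)) : False := by
  obtain ⟨i, -, hi⟩ := List.mem_map.1 h
  cases hi

theorem uni_ominus {m : ℕ} (hNM : NM n N M) (hk : 1 ≤ k) (hf : 1 ≤ f) (hm : 4 ≤ m)
    (ok : ∀ x ∈ (Fam.ominus m).facs, 7 ≤ ex f x → OkU n k (ex f x))
    (A : ∀ a, Fac.sub a ∈ (Fam.ominus m).facs → ¬ N * k ∣ f * a) (h : f * m = N * k) : False := by
  have h3 := hNM.three
  have ho := hNM.oddN
  have hsub : ∀ j, 1 ≤ j → j ≤ m - 1 → Fac.sub (2 * j) ∈ (Fam.ominus m).facs := by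
    intro j h1 h2
    obtain ⟨t, rfl⟩ : ∃ t, j = t + 1 := ⟨j - 1, by omega⟩
    exact List.mem_cons_of_mem _ (mem_range_map (F := fun i => Fac.sub (2 * (i + 1))) (show t < m - 1 by omega))
  rcases Nat.even_or_odd' m with ⟨c, hc | hc⟩
  · refine A (2 * c) (hsub c (by omega) (by omega)) ?_
    rw [← hc, h]
  · have h1 := ok _ (hsub (m - 1) (by omega) le_rfl) (by
      change 7 ≤ f * (2 * (m - 1))
      have := Nat.mul_le_mul hf (show 8 ≤ 2 * (m - 1) by omega)
      omega)
    obtain ⟨s, rfl⟩ : ∃ s, m = s + 1 := ⟨m - 1, by omega⟩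
    have hs : s = 2 * c := by omega
    subst hs
    change OkU n k (f * (2 * (2 * c))) at h1
    have hfm : f * (2 * c + 1) = f * (2 * c) + f := Nat.mul_succ _ _
    have h3k : 3 * k ≤ N * k := Nat.mul_le_mul_right _ h3
    have hf4 : f * 4 ≤ f * (2 * c) := Nat.mul_le_mul_left _ (by omega)
    rcases h1.cases hNM with ⟨j, h4, h5, -, h6, h7⟩ | ⟨j, h4, h5, h6, h7, h8⟩
    · have h8 : j * k ≤ (N + 1) * k := Nat.mul_le_mul_right _ h5
      rw [Nat.succ_mul] at h8
      have h9 := Nat.le_of_dvd (Nat.mul_pos (by omega) hk) h7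
      have h10 : f * (2 * (2 * c)) = 2 * (f * (2 * c)) := by ring
      omega
    · have h9 : j * k ≤ N * k := Nat.mul_le_mul_right _ h5
      rw [show f * (2 * (2 * c)) = 2 * (f * (2 * c)) by ring] at h7
      have h10 := Nat.dvd_of_mul_dvd_mul_left two_pos h7
      obtain ⟨e, he⟩ := h10
      have he1 : e = 1 := by
        rcases (show e = 0 ∨ e = 1 ∨ 2 ≤ e by omega) with h | h | h
        · subst h
          have : 0 < j * k := Nat.mul_pos (by omega) hk
          omega
        · exact h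
        · have := Nat.mul_le_mul_left (f * (2 * c)) h
          omega
      subst he1
      rw [mul_one] at he
      -- `(N - j) k = f`, `j k = 2 c f`
      obtain ⟨w, rfl⟩ : ∃ w, N = j + w := ⟨N - j, by omega⟩
      have h11 : w * k = f := by
        rw [Nat.add_mul] at h
        omega
      have h12 : j * k = (w * (2 * c)) * k := by rw [he, ← h11]; ring
      have h13 := Nat.eq_of_mul_eq_mul_right hk h12
      have h14 : j % 2 = 0 := by
        rw [h13, show w * (2 * c) = 2 * (w * c) by ring]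
        exact Nat.mul_mod_right _ _
      omega

theorem uni_te6 (hNM : NM n N M) (hk : 1 ≤ k) (hf : 1 ≤ f)
    (ok : ∀ x ∈ Fam.te6.facs, 7 ≤ ex f x → OkU n k (ex f x)) (h : f * 5 = N * k ∨ f * 9 = N * k) : False := by
  have h3 := hNM.three
  have ho := hNM.oddN
  have h3k : 3 * k ≤ N * k := Nat.mul_le_mul_right _ h3
  have hb : ∀ j, j ≤ N + 1 → j * k ≤ N * k + k := fun j hj => by
    have := Nat.mul_le_mul_right k hj
    rwa [Nat.succ_mul] at this
  have hb' : ∀ j, j ≤ N → j * k ≤ N * k := fun j hj => Nat.mul_le_mul_right k hj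
  rcases h with h | h
  · have h1 := ok (Fac.add 9) (by simp [Fam.facs]) (by simp only [ex]; omega)
    rcases h1.cases hNM with ⟨j, h4, h5, -, h6, h7⟩ | ⟨j, h4, h5, h6, h7, h8⟩
    · have h9 := Nat.le_of_dvd (Nat.mul_pos (by omega) hk) h7
      have := hb j h5
      simp only [ex] at h9
      omega
    · have h9 := Nat.le_of_dvd (Nat.mul_pos two_pos (Nat.mul_pos (by omega) hk)) h7
      have := hb' j h5
      simp only [ex] at h9
      omega
  · have h1 := ok (Fac.sub 12) (by simp [Fam.facs]) (by simp only [ex]; omega)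
    simp only [ex] at h1
    rcases h1.cases hNM with ⟨j, h4, h5, hjn, h6, h7⟩ | ⟨j, h4, h5, h6, h7, h8⟩
    · have h9 := Nat.le_of_dvd (Nat.mul_pos (by omega) hk) h7
      have h10 := hb j h5
      have h11 : k = 3 * f := by omega
      subst h11
      have h12 : f * 9 = f * (3 * N) := by rw [h]; ring
      have h13 := Nat.eq_of_mul_eq_mul_left (by omega) h12
      have hN : N = 3 := by omega
      subst hN
      have h14 := ok (Fac.add 5) (by simp [Fam.facs]) (by simp only [ex]; omega)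
      simp only [ex] at h14
      rcases h14.cases hNM with ⟨i, h4, h5, hjn, h6, h7⟩ | ⟨i, h4, h5, h6, h7, h8⟩
      · rw [show i * (3 * f) = f * (3 * i) by ring, show 2 * (f * 5) = f * 10 by ring] at h7
        have := Nat.dvd_of_mul_dvd_mul_left (by omega) h7
        omega
      · rw [show 2 * (i * (3 * f)) = f * (6 * i) by ring, show 2 * (f * 5) = f * 10 by ring] at h7
        have := Nat.dvd_of_mul_dvd_mul_left (by omega) h7
        omega
    · have h9 := hb' j h5
      obtain ⟨e, he⟩ := h7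
      have hjk : 0 < j * k := Nat.mul_pos (by omega) hk
      have he1 : e = 1 := by
        rcases (show e = 0 ∨ e = 1 ∨ 2 ≤ e by omega) with h | h | h
        · subst h; omega
        · exact h
        · have := Nat.mul_le_mul_left (f * 12) h
          omega
      subst he1
      rw [mul_one] at he
      obtain ⟨w, rfl⟩ : ∃ w, N = j + w := ⟨N - j, by omega⟩
      rw [Nat.add_mul] at h
      have h10 : j * k = (2 * w) * k := by rw [mul_assoc]; omega
      have h11 := Nat.eq_of_mul_eq_mul_right hk h10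
      omega

theorem uni_tf4 (hNM : NM n N M) (hk : 1 ≤ k) (hf : 3 ≤ f)
    (ok : ∀ x ∈ Fam.tf4.facs, 7 ≤ ex f x → OkU n k (ex f x)) (h : f * 3 = N * k ∨ f * 6 = N * k) : False := by
  have h3 := hNM.three
  have h3k : 3 * k ≤ N * k := Nat.mul_le_mul_right _ h3
  rcases h with h | h
  · have h1 := ok (Fac.add 6) (by simp [Fam.facs]) (by simp only [ex]; omega)
    simp only [ex] at h1
    rcases h1.cases hNM with ⟨j, h4, h5, hjn, h6, h7⟩ | ⟨j, h4, h5, h6, h7, h8⟩
    · have h9 := Nat.le_of_dvd (Nat.mul_pos (by omega) hk) h7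
      have h10 := Nat.mul_le_mul_right k h5
      rw [Nat.succ_mul] at h10
      omega
    · have h9 := Nat.le_of_dvd (Nat.mul_pos two_pos (Nat.mul_pos (by omega) hk)) h7
      have h10 := Nat.mul_le_mul_right k h5
      omega
  · have h1 := ok (Fac.add 3) (by simp [Fam.facs]) (by simp only [ex]; omega)
    refine not_okU hNM hk ?_
    rw [← h, show f * 6 = 2 * (f * 3) by ring]
    exact h1

theorem uni_psu {m : ℕ} (hNM : NM n N M) (hk : 1 ≤ k) (hf : 1 ≤ f) (hm : 3 ≤ m)
    (ok : ∀ x ∈ (Fam.psu m).facs, 7 ≤ ex f x → OkU n k (ex f x)) {a : ℕ} (ha : Fac.add a ∈ (Fam.psu m).facs)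
    (h : f * a = N * k) : UniC N k f (.psu m) := by
  have h3 := hNM.three
  have h3k : 3 * k ≤ N * k := Nat.mul_le_mul_right _ h3
  obtain ⟨i, hi, hia⟩ := List.mem_map.1 ha
  rw [List.mem_range] at hi
  have ha1 : a = i + 2 ∧ a % 2 = 1 := by
    by_cases h1 : Even (i + 1)
    · rw [if_pos h1, Fac.add.injEq] at hia
      rw [Nat.even_iff] at h1
      omega
    · rw [if_neg h1] at hia
      cases hia
  obtain ⟨t, ht1, ht2, ht3⟩ : ∃ t, t % 2 = 1 ∧ t ≤ m ∧ m ≤ t + 1 := by
    rcases Nat.even_or_odd m with h | h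
    · rw [Nat.even_iff] at h
      exact ⟨m - 1, by omega, by omega, by omega⟩
    · rw [Nat.odd_iff] at h
      exact ⟨m, h, le_rfl, by omega⟩
  have ht : 3 ≤ t := by omega
  refine .psu ht1 ht ht2 ht3 ?_
  rcases Nat.eq_or_lt_of_le (show a ≤ t by omega) with h1 | h1
  · rw [← h1]; exact h
  · exfalso
    obtain ⟨s, rfl⟩ : ∃ s, t = s + 2 := ⟨t - 2, by omega⟩
    have hmem := mem_range_map (F := fun i => if Even (i + 1) then Fac.add (i + 2) else Fac.sub (i + 2))
      (show s < m - 1 by omega)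
    rw [if_pos (Nat.even_iff.2 (by omega))] at hmem
    have hfa : f * (a + 1) ≤ f * (s + 2) := Nat.mul_le_mul_left _ (by omega)
    rw [Nat.mul_succ] at hfa
    have h5 : 1 * 5 ≤ f * (s + 2) := Nat.mul_le_mul hf (by omega)
    have h2 := ok _ hmem (by simp only [ex]; omega)
    simp only [ex] at h2
    rcases h2.cases hNM with ⟨j, h4, h5, hjn, h6, h7⟩ | ⟨j, h4, h5, h6, h7, h8⟩
    · have h9 := Nat.le_of_dvd (Nat.mul_pos (by omega) hk) h7
      have h10 := Nat.mul_le_mul_right k h5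
      rw [Nat.succ_mul] at h10
      omega
    · have h9 := Nat.le_of_dvd (Nat.mul_pos two_pos (Nat.mul_pos (by omega) hk)) h7
      have h10 := Nat.mul_le_mul_right k h5
      omega

theorem classify_top {p : ℕ} {S : Type*} [Group S] {fam : Fam} (hfam : fam.Is p f S) (hNM : NM n N M) (hk : 1 ≤ k)
    (hf : 1 ≤ f) (hT : (∃ a, Fac.add a ∈ fam.facs ∧ f * a = N * k) ∨ (Fac.tri ∈ fam.facs ∧ 6 * f = N * k))
    (ok : ∀ x ∈ fam.facs, 7 ≤ ex f x → OkU n k (ex f x))
    (A : ∀ a, Fac.sub a ∈ fam.facs → ¬ N * k ∣ f * a) (hsz : fam ≠ .sz) : UniC N k f fam := by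
  cases fam with
  | psl m =>
    rcases hT with ⟨a, ha, -⟩ | ⟨ha, -⟩
    · exact (not_add_of_map ha).elim
    · exact (not_tri_of_map ha).elim
  | psp m =>
    rcases hT with ⟨a, ha, -⟩ | ⟨ha, -⟩
    · exact (not_add_of_map ha).elim
    · exact (not_tri_of_map ha).elim
  | psu m =>
    rcases hT with ⟨a, ha, h⟩ | ⟨ha, -⟩
    · exact uni_psu hNM hk hf hfam.1 ok ha h
    · exfalso
      obtain ⟨i, -, hi⟩ := List.mem_map.1 ha
      split_ifs at hi
  | oodd m =>
    rcases hT with ⟨a, ha, -⟩ | ⟨ha, -⟩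
    · exact (not_add_of_map ha).elim
    · exact (not_tri_of_map ha).elim
  | oplus m =>
    rcases hT with ⟨a, ha, -⟩ | ⟨ha, -⟩
    · rcases List.mem_cons.1 ha with h | h
      · cases h
      · exact (not_add_of_map h).elim
    · rcases List.mem_cons.1 ha with h | h
      · cases h
      · exact (not_tri_of_map h).elim
  | ominus m =>
    exfalso
    rcases hT with ⟨a, ha, h⟩ | ⟨ha, -⟩
    · rcases List.mem_cons.1 ha with h1 | h1
      · rw [Fac.add.injEq] at h1
        subst h1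
        exact uni_ominus hNM hk hf hfam.1 ok A h
      · exact (not_add_of_map h1).elim
    · rcases List.mem_cons.1 ha with h | h
      · cases h
      · exact (not_tri_of_map h).elim
  | g2 | f4 | e6 | e7 | e8 =>
    exfalso
    rcases hT with ⟨a, ha, -⟩ | ⟨ha, -⟩
    · simp [Fam.facs] at ha
    · simp [Fam.facs] at ha
  | te6 =>
    exfalso
    rcases hT with ⟨a, ha, h⟩ | ⟨ha, -⟩
    · simp only [Fam.facs, List.mem_cons, List.not_mem_nil, or_false, Fac.add.injEq, reduceCtorEq, false_or] at ha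
      refine uni_te6 hNM hk hf ok ?_
      rcases ha with rfl | rfl
      · exact Or.inl h
      · exact Or.inr h
    · simp [Fam.facs] at ha
  | td4 =>
    exfalso
    rcases hT with ⟨a, ha, h⟩ | ⟨ha, h⟩
    · simp [Fam.facs] at ha
    · refine A 6 (by simp [Fam.facs]) ?_
      rw [← h, mul_comm]
  | sz => exact absurd rfl hsz
  | tf4 =>
    exfalso
    rcases hT with ⟨a, ha, h⟩ | ⟨ha, h⟩
    · simp only [Fam.facs, List.mem_cons, List.not_mem_nil, or_false, Fac.add.injEq, reduceCtorEq, false_or] at ha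
      obtain ⟨-, m, hm, hfm, -⟩ := hfam
      refine uni_tf4 hNM hk (by omega) ok ?_
      rcases ha with rfl | rfl
      · exact Or.inl h
      · exact Or.inr h
    · simp [Fam.facs] at ha
  | ree =>
    rcases hT with ⟨a, ha, h⟩ | ⟨ha, h⟩
    · simp only [Fam.facs, List.mem_cons, List.not_mem_nil, or_false, Fac.add.injEq, reduceCtorEq, false_or] at ha
      subst ha
      exact .ree (by rw [mul_comm]; exact h)
    · exfalso
      simp [Fam.facs] at ha

end

end Cfsg.Agent.H405.NumUni
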