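import Cfsg.Agent.H405.NumUni

/-!
# Groups of Lie type whose order has its primes among those of `|PSU_n(q)|` and contains the top ones, II (helper405)

* `exists_b` : `S = PSU_m(q ^ b)`, `b` odd, `N = b t`; `classify` : `m = n`, `b = 1`.
-/

set_option autoImplicit false
set_option linter.unusedVariables false

namespace Cfsg.Agent.H405.NumUni

open Cfsg Cfsg.Agent.H414.LieShape Cfsg.Agent.H436 Cfsg.Agent.H426.LieFam Cfsg.Agent.H403.NumTop
open Cfsg.Agent.H405.NumLin (mem_range_map ex_pos mul_small)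

variable {n N M k f p c d N' : ℕ}

/-- Suzuki groups -/
theorem no_sz {S : Type*} [Group S] (hp : p.Prime) (hNM : NM n N M) (hk : 1 ≤ k) (hfam : Fam.sz.Is p f S)
    (h : Sh p c f d N' Fam.sz.facs)
    (hL : ∀ v : ℕ, v.Prime → v ∣ c → v ≠ p → ∃ j, 1 ≤ j ∧ j ≤ n ∧ v ∣ AA false j (p ^ k))
    (hT : (∃ a, Fac.add a ∈ Fam.sz.facs ∧ f * a = N * k) ∨ (Fac.tri ∈ Fam.sz.facs ∧ 6 * f = N * k)) : False := by
  have h3 := hNM.three
  have ho := hNM.oddN
  have h2f : f * 2 = N * k := by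
    rcases hT with ⟨a, ha, h⟩ | ⟨ha, h⟩
    · simp only [Fam.facs, List.mem_cons, List.not_mem_nil, or_false, Fac.add.injEq, reduceCtorEq, false_or] at ha
      subst ha
      exact h
    · exfalso
      simp [Fam.facs] at ha
  -- `k` is even
  obtain ⟨k', rfl⟩ : ∃ k', k = 2 * k' := by
    have h4 : 2 ∣ N * k := by rw [← h2f]; exact Dvd.intro_left _ rfl
    have h5 : 2 ∣ k := (Nat.Coprime.dvd_of_dvd_mul_left ((Nat.coprime_two_left).2 (Nat.odd_iff.2 ho)) h4)
    obtain ⟨k', hk'⟩ := h5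
    exact ⟨k', hk'⟩
  have hf : f = k' * N := by
    have : 2 * f = 2 * (k' * N) := by rw [mul_comm 2 f, h2f]; ring
    omega
  have hk' : 1 ≤ k' := by omega
  have hq : 2 ≤ p ^ k' := by
    calc 2 ≤ p := hp.two_le
      _ ≤ p ^ k' := Nat.le_self_pow (by omega) p
  obtain ⟨v, hv⟩ := exists_prim (q := p ^ k') (e := N) hq h3 (by omega)
  have hcop : Nat.Coprime N 2 := (Nat.coprime_two_right).2 (Nat.odd_iff.2 ho)
  have hv2 : Prim (p ^ (2 * k')) N v := by
    refine ⟨hv.prime, fun m => ?_, ?_⟩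
    · rw [← pow_mul, show 2 * k' * m = k' * (2 * m) by ring, pow_mul, hv.dvd_iff]
      exact ⟨fun h => hcop.dvd_of_dvd_mul_left h, fun h => h.mul_left 2⟩
    · intro hd
      exact hv.not_dvd (hv.prime.dvd_of_dvd_pow hd |>.trans (dvd_pow_self p (by omega)))
  have hvp : v ≠ p := by
    rintro rfl
    exact hv.not_dvd (dvd_pow_self _ (by omega))
  refine killN hp hNM hv2 (hL v hv.prime ?_ hvp)
  refine h.dvd_of_fac hv.prime (Prim_five_le hv h3) (x := Fac.sub 1) (by simp [Fam.facs]) ?_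
  change v ∣ (p ^ f) ^ 1 - 1
  rw [pow_one, hf, pow_mul]
  exact (hv.dvd_iff N).2 dvd_rfl

theorem order_zmod {e : Bool} {q v i j : ℕ} (hq : 1 ≤ q) (hi : orderOf ((xv e q : ℤ) : ZMod v) = i) :
    v ∣ AA e j q ↔ i ∣ j := by
  rw [dvd_AA_iff hq, ← orderOf_dvd_iff_pow_eq_one, hi]

/-- `-q ^ a = (-q) ^ a`, `a` odd -/
theorem xv_pow {q a : ℕ} (ha : a % 2 = 1) : xv false (q ^ a) = xv false q ^ a := by
  unfold xv
  simp only [Bool.false_eq_true, if_false]
  rw [Odd.neg_pow (Nat.odd_iff.2 ha)]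
  push_cast
  rfl

theorem order_pow {q v i j a : ℕ} (hq : 1 ≤ q) (ha : a % 2 = 1) (hi : orderOf ((xv false q : ℤ) : ZMod v) = i) :
    v ∣ AA false j (q ^ a) ↔ i ∣ a * j := by
  rw [dvd_AA_iff (Nat.one_le_pow _ _ hq), xv_pow ha]
  push_cast
  rw [← pow_mul, ← orderOf_dvd_iff_pow_eq_one, hi]

/-- the arithmetic -/
theorem arith {a b t N : ℕ} (h3 : 3 ≤ N) (ht : 3 ≤ t) (ha : a % 2 = 1) (hat : a ∣ t) (hb : 1 ≤ b) (h : b * t = N * a)
    (hle : b * (t - 1) ≤ N + 1) : a = 1 := by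
  obtain ⟨s, rfl⟩ : ∃ s, t = s + 1 := ⟨t - 1, by omega⟩
  rw [Nat.add_sub_cancel] at hle
  have h1 : a ≤ s + 1 := Nat.le_of_dvd (by omega) hat
  by_contra hne
  obtain ⟨a, rfl⟩ : ∃ a', a = a' + 3 := ⟨a - 3, by omega⟩
  have e1 : (a + 3) * (b * s) ≤ (a + 3) * (N + 1) := Nat.mul_le_mul_left _ hle
  have e2 : (a + 3) * (N + 1) = b * (s + 1) + (a + 3) := by rw [h]; ring
  rw [e2] at e1
  -- `(a+3) b s ≤ b (s+1) + a + 3`, `s ≥ a + 2`
  obtain ⟨s, rfl⟩ : ∃ s', s = a + 2 + s' := ⟨s - (a + 2), by omega⟩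
  have e3 : (a + 2) * (b * (a + 2 + s)) ≤ b + (a + 3) := by nlinarith
  rcases (show b = 1 ∨ 2 ≤ b by omega) with rfl | h2
  · have h5 : a = 0 ∧ s = 0 := by
      constructor
      · by_contra h0
        have : 1 ≤ a := by omega
        nlinarith
      · by_contra h0
        have : 1 ≤ s := by omega
        nlinarith
    obtain ⟨rfl, rfl⟩ := h5
    omega
  · have h6 : 2 * (b * 2) ≤ (a + 2) * (b * (a + 2 + s)) := Nat.mul_le_mul (by omega) (Nat.mul_le_mul_left _ (by omega))
    have h7 : (a + 2) * (2 * (a + 2)) ≤ (a + 2) * (b * (a + 2 + s)) :=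
      Nat.mul_le_mul_left _ (Nat.mul_le_mul h2 (by omega))
    nlinarith

theorem mem_psu {m j : ℕ} (hj2 : 2 ≤ j) (hjm : j ≤ m) (he : j % 2 = 0) : Fac.sub j ∈ (Fam.psu m).facs := by
  obtain ⟨t, rfl⟩ : ∃ s, j = s + 2 := ⟨j - 2, by omega⟩
  have := mem_range_map (F := fun i => if Even (i + 1) then Fac.add (i + 2) else Fac.sub (i + 2))
    (show t < m - 1 by omega)
  rwa [if_neg (by rw [Nat.not_even_iff]; omega)] at this

/-- a prime `v` with `-p ^ g` of order `i`, `i` even, dividing the order of `PSU_m(p ^ f)` -/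
theorem dvd_of_order {m v g i j : ℕ} (hp : p.Prime) (h : Sh p c f d N' (Fam.psu m).facs) (hv : v.Prime) (hi : 4 ≤ i)
    (hvi : orderOf ((xv false (p ^ g) : ℤ) : ZMod v) = i) (hie : i % 2 = 0) (hj2 : 2 ≤ j) (hjm : j ≤ m) (hj : j % 2 = 0)
    (hgi : g * i = f * j) : v ∣ c := by
  have hv5 : 5 ≤ v := by
    have h1 := order_dvd_pred hv (by omega) hvi
    have h2 := hv.two_le
    have := Nat.le_of_dvd (by omega) h1
    omega
  refine h.dvd_of_fac hv hv5 (mem_psu hj2 hjm hj) ?_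
  change v ∣ (p ^ f) ^ j - 1
  have h1 := (order_zmod (j := i) (Nat.one_le_pow g p hp.pos) hvi).2 dvd_rfl
  rw [AA_even hie, ← pow_mul, hgi] at h1
  rw [← pow_mul]
  exact h1

/-- `S = PSU_m(q ^ b)` -/
theorem exists_b {m t : ℕ} (hp : p.Prime) (hNM : NM n N M) (hk : 1 ≤ k) (hf : 1 ≤ f)
    (h : Sh p c f d N' (Fam.psu m).facs)
    (hL : ∀ v : ℕ, v.Prime → v ∣ c → v ≠ p → ∃ j, 1 ≤ j ∧ j ≤ n ∧ v ∣ AA false j (p ^ k))
    (ht1 : t % 2 = 1) (ht3 : 3 ≤ t) (htm : t ≤ m) (hft : f * t = N * k) :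
    ∃ b, b % 2 = 1 ∧ f = k * b ∧ N = b * t := by
  have h3 := hNM.three
  have ho := hNM.oddN
  have hg : 0 < Nat.gcd f k := Nat.gcd_pos_of_pos_left _ hf
  obtain ⟨g, b, a, hg1, hcop, hfb, hka⟩ := Nat.exists_coprime' (m := f) (n := k) hg
  have hb1 : 1 ≤ b := by
    rcases Nat.eq_zero_or_pos b with h | h
    · subst h; omega
    · exact h
  have ha1 : 1 ≤ a := by
    rcases Nat.eq_zero_or_pos a with h | h
    · subst h; omega
    · exact h
  have hbt : b * t = N * a := by
    have : g * (b * t) = g * (N * a) := by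
      calc g * (b * t) = (b * g) * t := by ring
        _ = f * t := by rw [hfb]
        _ = N * k := hft
        _ = N * (a * g) := by rw [hka]
        _ = g * (N * a) := by ring
    exact Nat.eq_of_mul_eq_mul_left hg1 this
  have hat : a ∣ t := by
    have : a ∣ b * t := by rw [hbt]; exact Dvd.intro_left _ rfl
    exact hcop.symm.dvd_of_dvd_mul_left this
  have hbN : b ∣ N := by
    have : b ∣ N * a := by rw [← hbt]; exact Dvd.intro _ rfl
    exact hcop.dvd_of_dvd_mul_right this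
  have hodd : ∀ {x y : ℕ}, x ∣ y → y % 2 = 1 → x % 2 = 1 := by
    intro x y hxy hy
    rcases Nat.mod_two_eq_zero_or_one x with h | h
    · exfalso
      have := (Nat.dvd_of_mod_eq_zero h).trans hxy
      omega
    · exact h
  have ha2 := hodd hat ht1
  have hb2 := hodd hbN ho
  have ha : a = 1 := by
    rcases (show a = 1 ∨ 3 ≤ a by omega) with h1 | ha3
    · exact h1
    refine arith h3 ht3 ha2 hat hb1 hbt ?_
    -- the prime
    have hi4 : 4 ≤ b * (t - 1) := by
      rcases (show b = 1 ∨ 3 ≤ b by omega) with rfl | hb3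
      · rw [one_mul] at hbt ⊢
        have : 3 * 3 ≤ N * a := Nat.mul_le_mul h3 ha3
        omega
      · have := Nat.mul_le_mul hb3 (show 2 ≤ t - 1 by omega)
        omega
    have hie : (b * (t - 1)) % 2 = 0 := by
      rw [Nat.mul_mod]
      have : (t - 1) % 2 = 0 := by omega
      rw [this]; simp
    have hq : 2 ≤ p ^ g := by
      calc 2 ≤ p := hp.two_le
        _ ≤ p ^ g := Nat.le_self_pow (by omega) p
    obtain ⟨v, hv, -, hvi⟩ := exists_prime (e := false) (i := b * (t - 1)) (q := p ^ g) hq (by omega) (by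
      rintro (⟨h, -⟩ | ⟨-, h, -⟩)
      · cases h
      · omega)
    have hvc : v ∣ c := dvd_of_order hp h hv hi4 hvi hie (j := t - 1) (by omega) (by omega) (by omega) (by
      rw [hfb]; ring)
    have hvp : v ≠ p := by
      rintro rfl
      have hf := Fact.mk hv
      refine ne_zero_of_order (by omega) hvi ?_
      unfold xv
      simp only [Bool.false_eq_true, if_false]
      push_cast
      rw [ZMod.natCast_self, zero_pow (by omega), neg_zero]
    obtain ⟨j, hj1, hjn, hj⟩ := hL v hv hvc hvp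
    rw [hka, mul_comm a g, pow_mul, order_pow (Nat.one_le_pow g p hp.pos) ha2 hvi] at hj
    have hc1 : Nat.Coprime (b * (t - 1)) a := by
      refine Nat.Coprime.mul_left hcop ?_
      have h5 : Nat.Coprime (t - 1) t := by
        obtain ⟨s, rfl⟩ : ∃ s, t = s + 1 := ⟨t - 1, by omega⟩
        rw [Nat.add_sub_cancel]
        exact (Nat.coprime_self_add_right).2 (Nat.coprime_one_right _)
      exact Nat.Coprime.coprime_dvd_right hat h5
    have h6 := hc1.dvd_of_dvd_mul_left hj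
    have h7 := Nat.le_of_dvd (by omega) h6
    have := hNM.cases
    omega
  subst ha
  rw [one_mul] at hka
  subst hka
  exact ⟨b, hb2, by rw [hfb, mul_comm], by rw [mul_one] at hbt; exact hbt.symm⟩

/-- the condition on a prime `r` with `-q` of order `M` -/
def CondM (M k p f c : ℕ) (fam : Fam) : Prop :=
  ∃ r : ℕ, r.Prime ∧ orderOf ((xv false (p ^ k) : ℤ) : ZMod r) = M ∧
    (r ∣ c ∨ ∃ w, r ∣ w - 1 ∧ (∀ m, fam = .psu m → w = (p ^ f) ^ (m * (m - 1) / 2)) ∧ (fam = .ree → w = (p ^ f) ^ 3))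

theorem ne_char {r : ℕ} (hk : 1 ≤ k) (hr : r.Prime) (hM : 1 ≤ M)
    (h : orderOf ((xv false (p ^ k) : ℤ) : ZMod r) = M) : r ≠ p := by
  rintro rfl
  have hf := Fact.mk hr
  refine ne_zero_of_order hM h ?_
  unfold xv
  simp only [Bool.false_eq_true, if_false]
  push_cast
  rw [ZMod.natCast_self, zero_pow (by omega), neg_zero]

theorem sub_dvd_sub (a s u : ℕ) : a ^ s - 1 ∣ a ^ (s * u) - 1 := by
  have := Nat.sub_dvd_pow_sub_pow (a ^ s) 1 u
  rwa [one_pow, ← pow_mul] at this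

/-- `M ≤ m` -/
theorem le_of_condM {m t b : ℕ} (hp : p.Prime) (hNM : NM n N M) (hk : 1 ≤ k)
    (h : Sh p c f d N' (Fam.psu m).facs) (ht3 : 3 ≤ t) (htm : t ≤ m) (hmt : m ≤ t + 1) (hb : b % 2 = 1) (hfb : f = k * b)
    (hNb : N = b * t) (hM : CondM M k p f c (.psu m)) : M ≤ m := by
  have h4 := hNM.fourM
  obtain ⟨r, hr, hrM, h1⟩ := hM
  have hq : 1 ≤ p ^ k := Nat.one_le_pow _ _ hp.pos
  have hcopb : Nat.Coprime M b := Nat.Coprime.coprime_dvd_right (by rw [hNb]; exact Dvd.intro _ rfl) hNM.cop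
  have hcopt : Nat.Coprime M t := Nat.Coprime.coprime_dvd_right (by rw [hNb]; exact Dvd.intro_left _ rfl) hNM.cop
  rcases h1 with h1 | ⟨w, hw, hw1, -⟩
  · obtain ⟨x, hx, hxd⟩ := h.exists_fac hp hr (ne_char hk hr (by omega) hrM) h1
    obtain ⟨i, hi, rfl⟩ := List.mem_map.1 hx
    rw [List.mem_range] at hi
    have h2 : r ∣ AA false (i + 2) (p ^ f) := by
      by_cases he : Even (i + 1)
      · rw [if_pos he] at hxd
        rw [AA_odd (by rw [Nat.even_iff] at he; omega)]
        exact hxd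
      · rw [if_neg he] at hxd
        rw [AA_even (by rw [Nat.not_even_iff] at he; omega)]
        exact hxd
    rw [hfb, pow_mul, order_pow hq hb hrM] at h2
    have h3 := Nat.le_of_dvd (by omega) (hcopb.dvd_of_dvd_mul_left h2)
    omega
  · have hm := hw1 m rfl
    rw [hm] at hw
    have he : (m * (m - 1)) % 2 = 0 := by
      rcases Nat.even_or_odd' m with ⟨c, rfl | rfl⟩
      · rw [mul_assoc]; exact Nat.mul_mod_right _ _
      · rw [Nat.add_sub_cancel, Nat.mul_mod, Nat.mul_mod_right]; simp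
    have h2 : m * (m - 1) = m * (m - 1) / 2 * 2 := by omega
    have h3 : r ∣ AA false (m * (m - 1)) (p ^ f) := by
      rw [AA_even he, h2]
      exact hw.trans (sub_dvd_sub _ _ _)
    rw [hfb, pow_mul, order_pow hq hb hrM] at h3
    have h5 := hcopb.dvd_of_dvd_mul_left h3
    rcases (show m = t ∨ m = t + 1 by omega) with rfl | rfl
    · have h6 := Nat.le_of_dvd (by omega) (hcopt.dvd_of_dvd_mul_left h5)
      omega
    · rw [Nat.add_sub_cancel] at h5
      exact Nat.le_of_dvd (by omega) (hcopt.dvd_of_dvd_mul_right h5)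

/-- **Classification, unitary case.** -/
theorem classify {S : Type*} [Group S] {fam : Fam} (hp : p.Prime) (hNM : NM n N M) (hk : 1 ≤ k)
    (hsm : ¬ (n = 4 ∧ p ^ k = 2)) (hfam : fam.Is p f S) (h : Sh p c f d N' fam.facs)
    (hL : ∀ v : ℕ, v.Prime → v ∣ c → v ≠ p → ∃ j, 1 ≤ j ∧ j ≤ n ∧ v ∣ AA false j (p ^ k))
    (hN : ∀ u, Prim p (2 * (N * k)) u → u ∣ c) (hM : CondM M k p f c fam) : fam = .psu n ∧ f = k := by
  have hf := h.f_pos
  have h3 := hNM.three
  have ho := hNM.oddN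
  have h4 := hNM.fourM
  have hq : 1 ≤ p ^ k := Nat.one_le_pow _ _ hp.pos
  have hT := top_add hp hNM hk hsm h (ex_pos hf hfam) hL hN
  have hok : ∀ x ∈ fam.facs, 7 ≤ ex f x → OkU n k (ex f x) := by
    intro x hx hx7
    refine h.all_ex hp (OkU n k) ?_ hx (by omega) (by omega)
    intro e u he hu hd
    obtain ⟨j, h1, h2, h4⟩ := hL u hu.prime hd (by rintro rfl; exact hu.not_dvd dvd_rfl)
    exact okU_of hp he hu h1 h2 h4
  have hsz : fam ≠ .sz := by
    rintro rfl
    exact no_sz hp hNM hk hfam h hL hT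
  have hU := classify_top hfam hNM hk hf hT hok (fun a ha hd => no_sub hp hNM hk h hL ha hd) hsz
  cases hU with
  | @psu m t ht1 ht3 htm hmt hft =>
    obtain ⟨b, hb, hfb, hNb⟩ := exists_b hp hNM hk hf h hL ht1 ht3 htm hft
    have hle := le_of_condM hp hNM hk h ht3 htm hmt hb hfb hNb hM
    have hcases := hNM.cases
    have hb1 : b = 1 := by
      rcases (show b = 1 ∨ 3 ≤ b by omega) with h1 | h1
      · exact h1
      · exfalso
        have := Nat.mul_le_mul_right t h1
        omega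
    subst hb1
    rw [mul_one] at hfb
    rw [one_mul] at hNb
    subst hfb hNb
    refine ⟨?_, rfl⟩
    rcases hcases with ⟨h1, h2⟩ | ⟨h1, h2⟩
    · rcases (show m = N ∨ m = N + 1 by omega) with h5 | h5
      · rw [h5, h1]
      · exfalso
        have hq2 : 2 ≤ p ^ f := by
          calc 2 ≤ p := hp.two_le
            _ ≤ p ^ f := Nat.le_self_pow (by omega) p
        obtain ⟨v, hv, -, hvi⟩ := exists_prime (e := false) (i := N + 1) (q := p ^ f) hq2 (by omega) (by
          rintro (⟨h, -⟩ | ⟨-, h, -⟩)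
          · cases h
          · omega)
        have hvc : v ∣ c := dvd_of_order hp h hv (by omega) hvi (by omega) (j := N + 1) (by omega) (by omega)
          (by omega) rfl
        obtain ⟨j, hj1, hjn, hj⟩ := hL v hv hvc (ne_char hk hv (by omega) hvi)
        rw [order_zmod hq hvi] at hj
        have := Nat.le_of_dvd (by omega) hj
        omega
    · rw [show m = n by omega]
  | ree h3f =>
    exfalso
    obtain ⟨r, hr, hrM, h1⟩ := hM
    have key : r ∣ (p ^ f) ^ 6 - 1 := by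
      rcases h1 with h1 | ⟨w, hw, -, hw1⟩
      · obtain ⟨x, hx, hxd⟩ := h.exists_fac hp hr (ne_char hk hr (by omega) hrM) h1
        simp only [Fam.facs, List.mem_cons, List.not_mem_nil, or_false] at hx
        rcases hx with rfl | rfl
        · exact hxd.trans (sub_dvd_sub (p ^ f) 1 6)
        · exact dvd_sq_of_add (n := 3) hxd
      · rw [hw1 rfl] at hw
        exact hw.trans (sub_dvd_sub (p ^ f) 3 2)
    have h5 : r ∣ AA false (2 * N) (p ^ k) := by
      rw [AA_even (Nat.mul_mod_right _ _), ← pow_mul, show k * (2 * N) = f * 6 by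
        have : k * (2 * N) = 2 * (N * k) := by ring
        omega, pow_mul]
      exact key
    rw [order_zmod hq hrM] at h5
    have h6 := Nat.le_of_dvd (by norm_num) (hNM.cop.dvd_of_dvd_mul_right h5)
    omega

end Cfsg.Agent.H405.NumUni
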