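import Cfsg.Agent.H566.RgdFam

/-!
# Automorphisms acting without fixed points on a Sylow `p`-subgroup, groups with a split (B, N)-pair (helper405)

* `HasNode p c K` : a split (B, N)-pair of characteristic `p` with a node fixed by all groups of automorphisms of odd
  order leaving `B` invariant, `|U : V| ≤ c`;
* `Fpf p c K` : if an automorphism of `r`-power order, `r ≠ 2, p`, leaves a Sylow `p`-subgroup `W` invariant and acts on it
  without fixed points, then `r ∣ p ^ m - 1` for some `m ≥ 1` such that the prime divisors `≥ 5` of `p ^ m + 1` divide `|K|`;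
* `HasNode.fpf`.
-/

set_option autoImplicit false
set_option linter.unusedSectionVars false

namespace Cfsg.Agent.H405.OutNode

open Subgroup Cfsg.Agent.Schreier.Tools Cfsg.Agent.Schreier.BNSch Cfsg.Agent.FixBN Cfsg.Agent.H566
open scoped Pointwise

/-- a split (B, N)-pair with a node fixed by automorphisms of odd order, with root group of order at most `c` -/
def HasNode (p c : ℕ) (K : Type*) [Group K] : Prop :=
  ∃ (P : Cfsg.BNPair K) (U : Subgroup K), Split P p U ∧ ∃ s ∈ P.S,
    (∃ V : Subgroup K, Node P U s V ∧ Nat.card (U ⧸ V.subgroupOf U) ≤ c) ∧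
    ∀ A : Subgroup (MulAut K), Odd (Nat.card A) → Stab A P.B → Stab A (P.parabolic {s})

/-- the conclusion -/
def Fpf (p c : ℕ) (K : Type*) [Group K] : Prop :=
  ∀ r : ℕ, r.Prime → r ≠ 2 → r ≠ p → ∀ (x : MulAut K) (j : ℕ), x ^ r ^ j = 1 → ∀ W : Sylow p K,
    (∀ w ∈ W, x w ∈ W) → (∀ w ∈ W, x w = w → w = 1) →
      ∃ m, 1 ≤ m ∧ r ∣ p ^ m - 1 ∧ p ^ m ≤ c ∧ ∀ v : ℕ, v.Prime → 5 ≤ v → v ∣ p ^ m + 1 → v ∣ Nat.card K

theorem Fpf.congr {p c : ℕ} [Fact p.Prime] {K L : Type*} [Group K] [Finite K] [Group L] (e : K ≃* L) (h : Fpf p c L) :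
    Fpf p c K := by
  intro r hr hr2 hrp x j hx W hW hf
  have hsur : Function.Surjective e.toMonoidHom := e.surjective
  let W' : Sylow p L := Sylow.mapSurjective hsur W
  have hW' : ∀ y : L, y ∈ W' ↔ e.symm y ∈ W := by
    intro y
    have h0 : (W' : Subgroup L) = (W : Subgroup K).map e.toMonoidHom := Sylow.coe_mapSurjective hsur W
    change y ∈ (W' : Subgroup L) ↔ _
    rw [h0]
    constructor
    · rintro ⟨w, hw, rfl⟩
      have : e.symm (e w) = w := e.symm_apply_apply w
      exact this.symm ▸ hw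
    · intro hy
      exact ⟨e.symm y, hy, e.apply_symm_apply y⟩
  obtain ⟨m, hm, h1, h1c, h2⟩ := h r hr hr2 hrp (MulAut.congr e x) j (by rw [← map_pow, hx, map_one]) W'
    (fun w hw => by
      rw [hW'] at hw ⊢
      have h1 : e.symm ((MulAut.congr e x) w) = x (e.symm w) := by
        change e.symm (e (x (e.symm w))) = _
        rw [e.symm_apply_apply]
      rw [h1]
      exact hW _ hw)
    (fun w hw hxw => by
      rw [hW'] at hw
      have h1 : e (x (e.symm w)) = w := hxw
      have h2 := hf _ hw (by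
        apply e.injective
        rw [h1, e.apply_symm_apply])
      rw [← e.apply_symm_apply w, h2, map_one])
  exact ⟨m, hm, h1, h1c, fun v hv hv5 hvd => by rw [Nat.card_congr e.toEquiv]; exact h2 v hv hv5 hvd⟩

section

variable {K : Type*} [Group K] [Finite K] {p : ℕ} [hp : Fact p.Prime]

/-- `U` is a Sylow subgroup. -/
theorem exists_sylow {P : Cfsg.BNPair K} {U : Subgroup K} (h : Split P p U) :
    ∃ S : Sylow p K, (S : Subgroup K) = U := by
  apply Schreier.BNUse.exists_sylow U h.isP
  rw [h.normalizer_eq]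
  intro hd
  obtain ⟨m, hm, hH⟩ := h.tor
  have hn : (U.subgroupOf P.B).Normal := by
    constructor
    intro u hu b
    rw [Subgroup.mem_subgroupOf] at hu ⊢
    exact h.norm b b.2 u hu
  have h1 : p ∣ Nat.card (P.B ⧸ U.subgroupOf P.B) := hd
  obtain ⟨x, hx⟩ := exists_prime_orderOf_dvd_card' p h1
  induction x using QuotientGroup.induction_on with
  | H b =>
    obtain ⟨u, hu, hun⟩ := h.cover b b.2
    have h2 : u⁻¹ * (b : K) ∈ P.B := mul_mem (inv_mem (h.le hu)) b.2
    have h3 : (QuotientGroup.mk b : P.B ⧸ U.subgroupOf P.B) = QuotientGroup.mk (⟨u⁻¹ * b, h2⟩ : P.B) := by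
      rw [QuotientGroup.eq, Subgroup.mem_subgroupOf]
      show (b : K)⁻¹ * (u⁻¹ * b) ∈ U
      have h4 := h.norm (b : K)⁻¹ (inv_mem b.2) _ (inv_mem hu)
      rw [inv_inv] at h4
      rwa [← mul_assoc]
    have h4 : (QuotientGroup.mk b : P.B ⧸ U.subgroupOf P.B) ^ m = 1 := by
      rw [h3, ← QuotientGroup.mk_pow]
      have h5 : (⟨u⁻¹ * b, h2⟩ : P.B) ^ m = 1 := by
        apply Subtype.ext
        exact hH _ h2 hun
      rw [h5]
      rfl
    exact hm (hx ▸ orderOf_dvd_of_pow_eq_one h4)

/-- the minimal parabolic has index `1 + |U : V|` over `B` -/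
theorem card_parabolic {P : Cfsg.BNPair K} {U V : Subgroup K} (h : Split P p U) {s : K} (hs : s ∈ P.S)
    (hN : Node P U s V) :
    Nat.card (P.parabolic {s} ⧸ P.B.subgroupOf (P.parabolic {s})) = 1 + Nat.card (U ⧸ V.subgroupOf U) := by
  classical
  have hUP : U ≤ P.parabolic {s} := h.le.trans (B_le_parabolic P _)
  have hsP := mem_parabolic_self P s
  have hsB := not_mem_B P hs
  -- the bijection
  let f : Option (U ⧸ V.subgroupOf U) → (P.parabolic {s} ⧸ P.B.subgroupOf (P.parabolic {s})) := fun o =>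
    match o with
    | none => QuotientGroup.mk 1
    | some c => QuotientGroup.mk (⟨(Quotient.out c : U) * s, mul_mem (hUP (Quotient.out c).2) hsP⟩ : P.parabolic {s})
  have hinj : Function.Injective f := by
    rintro (_ | c) (_ | d) hcd
    · rfl
    · exfalso
      have h1 := QuotientGroup.eq.1 hcd
      rw [Subgroup.mem_subgroupOf] at h1
      have h2 : ((Quotient.out d : U) : K) * s ∈ P.B := by simpa using h1
      exact hsB (by
        have := mul_mem (inv_mem (h.le (Quotient.out d : U).2)) h2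
        rwa [inv_mul_cancel_left] at this)
    · exfalso
      have h1 := QuotientGroup.eq.1 hcd.symm
      rw [Subgroup.mem_subgroupOf] at h1
      have h2 : ((Quotient.out c : U) : K) * s ∈ P.B := by simpa using h1
      exact hsB (by
        have := mul_mem (inv_mem (h.le (Quotient.out c : U).2)) h2
        rwa [inv_mul_cancel_left] at this)
    · have h1 := QuotientGroup.eq.1 hcd
      rw [Subgroup.mem_subgroupOf] at h1
      have h2 : s⁻¹ * (((Quotient.out c : U) : K)⁻¹ * (Quotient.out d : U)) * s ∈ P.B := by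
        have h3 : ((((Quotient.out c : U) : K) * s)⁻¹ * (((Quotient.out d : U) : K) * s)) ∈ P.B := h1
        have e : s⁻¹ * (((Quotient.out c : U) : K)⁻¹ * (Quotient.out d : U)) * s =
          ((((Quotient.out c : U) : K) * s)⁻¹ * (((Quotient.out d : U) : K) * s)) := by group
        rw [e]; exact h3
      have h3 := hN.stab _ (mul_mem (inv_mem (Quotient.out c : U).2) (Quotient.out d : U).2) h2
      congr 1
      rw [← Quotient.out_eq c, ← Quotient.out_eq d]
      exact QuotientGroup.eq.2 h3
  have hsurj : Function.Surjective f := by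
    intro z
    induction z using QuotientGroup.induction_on with
    | H g =>
      by_cases hg : (g : K) ∈ P.B
      · refine ⟨none, ?_⟩
        apply QuotientGroup.eq.2
        rw [Subgroup.mem_subgroupOf]
        simpa using hg
      · obtain ⟨u, hu, b, hb, hgu⟩ := exists_of_mem_parabolic P h.le h.cover hs g.2 hg
        refine ⟨some (QuotientGroup.mk ⟨u, hu⟩), ?_⟩
        apply QuotientGroup.eq.2
        rw [Subgroup.mem_subgroupOf]
        obtain ⟨v, hv⟩ : ∃ v : V.subgroupOf U, (Quotient.out (QuotientGroup.mk (⟨u, hu⟩ : U) : U ⧸ V.subgroupOf U) : U) =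
            ⟨u, hu⟩ * v := QuotientGroup.mk_out_eq_mul _ _
        have hv' : ((Quotient.out (QuotientGroup.mk (⟨u, hu⟩ : U) : U ⧸ V.subgroupOf U) : U) : K) = u * ((v : U) : K) := by
          rw [hv]; rfl
        show ((((Quotient.out (QuotientGroup.mk (⟨u, hu⟩ : U) : U ⧸ V.subgroupOf U) : U) : K) * s)⁻¹ * (g : K)) ∈ P.B
        rw [hv', hgu]
        have e : (u * ((v : U) : K) * s)⁻¹ * (u * s * b) = (s⁻¹ * (((v : U) : K))⁻¹ * s) * b := by group
        rw [e]
        exact mul_mem (h.le (hN.le (hN.conj_s _ (inv_mem v.2)))) hb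
  have h3 := Nat.card_congr (Equiv.ofBijective f ⟨hinj, hsurj⟩)
  rw [← h3, Finite.card_option, add_comm]

theorem HasNode.fpf {c : ℕ} (h : HasNode p c K) : Fpf p c K := by
  classical
  obtain ⟨P, U, hS, s, hs, ⟨V, hN, hVc⟩, hperm⟩ := h
  intro r hr hr2 hrp x j hx W hW hf
  have hrf := Fact.mk hr
  obtain ⟨U', hU'⟩ := exists_sylow hS
  obtain ⟨k, hk⟩ := MulAction.exists_smul_eq K W U'
  -- conjugate
  set y : MulAut K := MulAut.conj k * x * (MulAut.conj k)⁻¹ with hy
  have hyr : y ^ r ^ j = 1 := by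
    rw [hy, conj_pow, hx, mul_one, mul_inv_cancel]
  have hyap : ∀ w, y w = k * x (k⁻¹ * w * k) * k⁻¹ := by
    intro w
    rw [hy, ← map_inv, MulAut.mul_apply, MulAut.mul_apply, MulAut.conj_apply, MulAut.conj_apply, inv_inv]
  have hUW : ∀ w, w ∈ U ↔ k⁻¹ * w * k ∈ W := by
    intro w
    rw [← hU', ← hk]
    rw [Sylow.smul_def, Sylow.pointwise_smul_def, Subgroup.mem_pointwise_smul_iff_inv_smul_mem, ← map_inv,
      MulAut.smul_def, MulAut.conj_apply, inv_inv]
    rfl
  have hyU : ∀ w ∈ U, y w ∈ U := by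
    intro w hw
    rw [hUW] at hw ⊢
    have := hW _ hw
    rw [hyap]
    have e : k⁻¹ * (k * x (k⁻¹ * w * k) * k⁻¹) * k = x (k⁻¹ * w * k) := by group
    rw [e]; exact this
  have hyf : ∀ w ∈ U, y w = w → w = 1 := by
    intro w hw hyw
    rw [hUW] at hw
    rw [hyap] at hyw
    have h1 := hf _ hw (by
      have : x (k⁻¹ * w * k) = k⁻¹ * (k * x (k⁻¹ * w * k) * k⁻¹) * k := by group
      rw [this, hyw])
    have : w = k * (k⁻¹ * w * k) * k⁻¹ := by group
    rw [this, h1]; group
  -- the group generated by `y`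
  set A : Subgroup (MulAut K) := Subgroup.zpowers y with hA
  have hAp : IsPGroup r A := by
    intro a
    obtain ⟨a, ha⟩ := a
    obtain ⟨z, rfl⟩ := Subgroup.mem_zpowers_iff.1 ha
    refine ⟨j, Subtype.ext ?_⟩
    show (y ^ z) ^ r ^ j = 1
    rw [← zpow_natCast, ← zpow_mul, mul_comm, zpow_mul, zpow_natCast, hyr, one_zpow]
  obtain ⟨a, ha⟩ := hAp.exists_card_eq
  have hodd : Odd (Nat.card A) := by rw [ha]; exact (hr.odd_of_ne_two hr2).pow
  have stab_of : ∀ H : Subgroup K, (∀ w ∈ H, y w ∈ H) → Stab A H := by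
    intro H hH
    have h1 : ∀ n : ℕ, ∀ w ∈ H, (y ^ n) w ∈ H := by
      intro n
      induction n with
      | zero => intro w hw; simpa using hw
      | succ n ih =>
        intro w hw
        rw [pow_succ, MulAut.mul_apply]
        exact ih _ (hH w hw)
    intro α hα w hw
    have hfin : Finite (MulAut K) := inferInstance
    obtain ⟨n, rfl⟩ := (Submonoid.mem_powers_iff _ _).1 (mem_powers_iff_mem_zpowers.2 hα)
    exact h1 n w hw
  have hSU : Stab A U := stab_of U hyU
  have hIU : Inv A U := stab_iff.1 hSU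
  have hSB : Stab A P.B := by
    have := hIU.normalizer
    rw [hS.normalizer_eq] at this
    exact stab_iff.2 this
  have hSP := hperm A hodd hSB
  have hSV : Stab A V := stab_iff.2 (hN.inv hS.le hIU (stab_iff.1 hSB) (stab_iff.1 hSP))
  -- coprimality
  have hcopp : ∀ H : Subgroup K, H ≤ U → (Nat.card A).Coprime (Nat.card H) := by
    intro H hH
    obtain ⟨b, hb⟩ := (hS.isP.to_le hH).exists_card_eq
    rw [ha, hb]
    exact Nat.Coprime.pow _ _ ((Nat.coprime_primes hr hp.1).2 hrp)
  -- action on `U ⧸ V`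
  have hVn : (V.subgroupOf U).Normal := by
    constructor
    intro v hv u
    rw [Subgroup.mem_subgroupOf] at hv ⊢
    exact hN.conj_B u (hS.le u.2) _ hv
  let φ : A →* MulAut U := rest hSU
  have hφV : ∀ (a : A) (v : U), v ∈ V.subgroupOf U → φ a v ∈ V.subgroupOf U := fun a v hv => hSV a.1 a.2 _ hv
  let ψ : A → (U ⧸ V.subgroupOf U) → (U ⧸ V.subgroupOf U) := fun a =>
    Quotient.map' (φ a) (by
      intro u u' huu
      rw [QuotientGroup.leftRel_apply] at huu ⊢
      rw [← map_inv, ← map_mul]
      exact hφV a _ huu)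
  have hψ : ∀ (a : A) (u : U), ψ a (QuotientGroup.mk u) = QuotientGroup.mk (φ a u) := fun _ _ => rfl
  let act : MulAction A (U ⧸ V.subgroupOf U) :=
    { smul := ψ
      one_smul := by
        intro c
        induction c using QuotientGroup.induction_on with
        | H u =>
          change ψ 1 (QuotientGroup.mk u) = _
          rw [hψ, map_one, MulAut.one_apply]
      mul_smul := by
        intro a b c
        induction c using QuotientGroup.induction_on with
        | H u =>
          change ψ (a * b) (QuotientGroup.mk u) = ψ a (ψ b (QuotientGroup.mk u))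
          rw [hψ, hψ, hψ, map_mul, MulAut.mul_apply] }
  have hfin : Finite (U ⧸ V.subgroupOf U) := inferInstance
  have hmod := hAp.card_modEq_card_fixedPoints (U ⧸ V.subgroupOf U)
  -- only one fixed point
  have hfix : MulAction.fixedPoints A (U ⧸ V.subgroupOf U) = {QuotientGroup.mk 1} := by
    ext c
    rw [Set.mem_singleton_iff]
    constructor
    · intro hc
      induction c using QuotientGroup.induction_on with
      | H u =>
        have h1 : ∀ α ∈ A, (u : K)⁻¹ * α (u : K) ∈ V := by
          intro α hα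
          have h2 := hc ⟨α, hα⟩
          change ψ ⟨α, hα⟩ (QuotientGroup.mk u) = QuotientGroup.mk u at h2
          rw [hψ, eq_comm, QuotientGroup.eq, Subgroup.mem_subgroupOf] at h2
          exact h2
        obtain ⟨v, hv, h2⟩ := exists_fixed_coset hSV (hcopp V hN.le)
          (Or.inl (by have := hAp.isNilpotent; infer_instance)) h1
        have h3 : (u : K) * v = 1 := hyf _ (mul_mem u.2 (hN.le hv)) (h2 y (Subgroup.mem_zpowers y))
        rw [eq_comm, QuotientGroup.eq, Subgroup.mem_subgroupOf]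
        have h4 : (u : K) = v⁻¹ := eq_inv_of_mul_eq_one_left h3
        show ((1 : U)⁻¹ * u : U).1 ∈ V
        rw [inv_one, one_mul, h4]
        exact inv_mem hv
    · rintro rfl
      intro a
      change ψ a (QuotientGroup.mk 1) = QuotientGroup.mk 1
      rw [hψ, map_one]
  rw [hfix, Nat.card_coe_set_eq {(QuotientGroup.mk 1 : U ⧸ V.subgroupOf U)}, Set.ncard_singleton] at hmod
  -- the cardinality of `U ⧸ V`
  obtain ⟨m, hm⟩ : ∃ m, Nat.card (U ⧸ V.subgroupOf U) = p ^ m := by
    have h1 : IsPGroup p (U ⧸ V.subgroupOf U) := hS.isP.to_quotient _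
    exact h1.exists_card_eq
  have hm1 : 1 ≤ m := by
    rcases Nat.eq_zero_or_pos m with h0 | h0
    · exfalso
      rw [h0, pow_zero] at hm
      obtain ⟨u, hu, huV⟩ := hN.ne
      have h1 : (V.subgroupOf U) = ⊤ := Subgroup.index_eq_one.1 hm
      have h2 : (⟨u, hu⟩ : U) ∈ V.subgroupOf U := by rw [h1]; trivial
      exact huV h2
    · exact h0
  rw [hm] at hmod hVc
  refine ⟨m, hm1, (Nat.modEq_iff_dvd' (Nat.one_le_pow _ _ hp.1.pos)).1 hmod.symm, hVc, fun v _ _ hv => ?_⟩
  have h1 := card_parabolic hS hs hN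
  rw [hm] at h1
  have h2 : Nat.card (P.parabolic {s} ⧸ P.B.subgroupOf (P.parabolic {s})) ∣ Nat.card K :=
    (Subgroup.card_quotient_dvd_card _).trans (Subgroup.card_subgroup_dvd_card _)
  rw [h1, add_comm] at h2
  exact hv.trans h2

end

end Cfsg.Agent.H405.OutNode
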