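import Cfsg.Agent.H405.PSqCoprime

/-!
# `p`-groups acting on the `p'`-core of a group of order `p ^ 2 (p ^ 4 - 1) / 2` (helper405)
-/

set_option autoImplicit false

namespace Cfsg.Agent.H405.PSq

open Subgroup Cfsg.Agent.Lib

variable {G : Type*} [Group G]

/-- Fixed point counting for a `p`-subgroup `P` normalizing `R`. -/
theorem card_modEq [Finite G] {p : ℕ} [Fact p.Prime] {P R : Subgroup G} (hP : IsPGroup p P)
    (h : ∀ b ∈ P, ∀ u ∈ R, b * u * b⁻¹ ∈ R) :
    Nat.card R ≡ Nat.card (R ⊓ centralizer (P : Set G) : Subgroup G) [MOD p] := by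
  let _ := PGroupCoprimeAction.conjAction P R h
  have h1 := hP.card_modEq_card_fixedPoints R
  have h2 : Nat.card (MulAction.fixedPoints P R) =
      Nat.card (R ⊓ centralizer (P : Set G) : Subgroup G) := by
    refine Nat.card_congr ⟨fun u => ⟨u.1.1, u.1.2, ?_⟩, fun u => ⟨⟨u.1, u.2.1⟩, ?_⟩, ?_, ?_⟩
    · change u.1.1 ∈ centralizer (P : Set G)
      rw [mem_centralizer_iff]
      intro b hb
      have h3 := congrArg Subtype.val (u.2 ⟨b, hb⟩)
      change b * u.1.1 * b⁻¹ = u.1.1 at h3
      exact mul_inv_eq_iff_eq_mul.mp h3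
    · rw [MulAction.mem_fixedPoints]
      intro b
      apply Subtype.ext
      change (b : G) * u.1 * (b : G)⁻¹ = u.1
      have h3 := mem_centralizer_iff.mp u.2.2 b b.2
      rw [h3]
      group
    · intro u; rfl
    · intro u; rfl
  rwa [h2] at h1

/-- Burnside's formula when all nontrivial elements of `P` have the same fixed points. -/
theorem card_dvd_of_fixed [Finite G] {P R : Subgroup G} (h : ∀ b ∈ P, ∀ u ∈ R, b * u * b⁻¹ ∈ R)
    (hfix : ∀ x ∈ P, x ≠ 1 →
      R ⊓ centralizer ({x} : Set G) = R ⊓ centralizer (P : Set G)) :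
    Nat.card P ∣ Nat.card R + (Nat.card P - 1) *
      Nat.card (R ⊓ centralizer (P : Set G) : Subgroup G) := by
  classical
  let _ := PGroupCoprimeAction.conjAction P R h
  have := Fintype.ofFinite P
  have := Fintype.ofFinite R
  have := Fintype.ofFinite (MulAction.orbitRel.Quotient P R)
  have hfb : ∀ b : P, Fintype.card (MulAction.fixedBy R b) =
      Nat.card (R ⊓ centralizer ({(b : G)} : Set G) : Subgroup G) := by
    intro b
    rw [← Nat.card_eq_fintype_card]
    refine Nat.card_congr ⟨fun u => ⟨u.1.1, u.1.2, ?_⟩, fun u => ⟨⟨u.1, u.2.1⟩, ?_⟩, ?_, ?_⟩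
    · change u.1.1 ∈ centralizer ({(b : G)} : Set G)
      rw [mem_centralizer_singleton_iff]
      have h3 := congrArg Subtype.val u.2
      change (b : G) * u.1.1 * (b : G)⁻¹ = u.1.1 at h3
      have h4 : (b : G) * u.1.1 = u.1.1 * b := mul_inv_eq_iff_eq_mul.mp h3
      first | exact h4 | exact h4.symm
    · rw [MulAction.mem_fixedBy]
      apply Subtype.ext
      change (b : G) * u.1 * (b : G)⁻¹ = u.1
      have h3 := mem_centralizer_singleton_iff.mp u.2.2
      rw [mul_inv_eq_iff_eq_mul]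
      first | exact h3 | exact h3.symm
    · intro u; rfl
    · intro u; rfl
  have hb := MulAction.sum_card_fixedBy_eq_card_orbits_mul_card_group P R
  rw [← Finset.add_sum_erase _ _ (Finset.mem_univ (1 : P))] at hb
  have h1 : Fintype.card (MulAction.fixedBy R (1 : P)) = Nat.card R := by
    rw [hfb]
    have h3 : R ⊓ centralizer ({((1 : P) : G)} : Set G) = R := by
      rw [inf_eq_left]
      intro r _
      rw [mem_centralizer_singleton_iff]
      simp
    rw [h3]
  have h2 : ∑ b ∈ (Finset.univ.erase (1 : P)), Fintype.card (MulAction.fixedBy R b) =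
      (Nat.card P - 1) * Nat.card (R ⊓ centralizer (P : Set G) : Subgroup G) := by
    have h3 : ∀ b ∈ (Finset.univ.erase (1 : P)), Fintype.card (MulAction.fixedBy R b) =
        Nat.card (R ⊓ centralizer (P : Set G) : Subgroup G) := by
      intro b hb'
      rw [hfb]
      rw [hfix b b.2]
      intro h0
      exact (Finset.ne_of_mem_erase hb') (Subtype.ext h0)
    rw [Finset.sum_congr rfl h3,
      Finset.sum_const, Finset.card_erase_of_mem (Finset.mem_univ _), Finset.card_univ,
      Nat.card_eq_fintype_card (α := P), smul_eq_mul]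
  rw [h1, h2] at hb
  rw [hb, Nat.card_eq_fintype_card]
  exact Dvd.intro_left _ rfl

variable {p : ℕ}

/-- A `p`-group normalizing a `q`-group of order dividing `D p`: it centralizes it or `q = 2`. -/
theorem idx [Finite G] (hp : p.Prime) (h7 : 7 ≤ p) {P R : Subgroup G} (hP : IsPGroup p P)
    (h : ∀ b ∈ P, ∀ u ∈ R, b * u * b⁻¹ ∈ R) {q : ℕ} (hq : q.Prime) (hqp : q ≠ p)
    (hR : IsPGroup q R) (hd : Nat.card R ∣ D p) :
    R ≤ centralizer (P : Set G) ∨ (q = 2 ∧ (∃ b, 2 ^ b = p + 1) ∧
      Nat.card R = (p + 1) * Nat.card (R ⊓ centralizer (P : Set G) : Subgroup G)) := by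
  have := Fact.mk hp
  have := Fact.mk hq
  have h1 := card_modEq hP h
  obtain ⟨a, ha⟩ := hR.exists_card_eq
  have hle : Nat.card (R ⊓ centralizer (P : Set G) : Subgroup G) ∣ Nat.card R :=
    card_dvd_of_le inf_le_left
  rw [ha] at hle
  obtain ⟨c, hca, hc⟩ := (Nat.dvd_prime_pow hq).mp hle
  obtain ⟨d, rfl⟩ : ∃ d, a = c + d := ⟨a - c, by omega⟩
  rw [ha, hc, pow_add] at h1
  have hcop : Nat.Coprime p (q ^ c) :=
    Nat.Coprime.pow_right _ ((Nat.coprime_primes hp hq).mpr hqp.symm)
  have h2 : q ^ d ≡ 1 [MOD p] := by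
    have h3 : q ^ c * q ^ d ≡ q ^ c * 1 [MOD p] := by rw [mul_one]; exact h1
    exact Nat.ModEq.cancel_left_of_coprime (by rw [Nat.coprime_iff_gcd_eq_one] at hcop; exact hcop) h3
  by_cases h3 : q ^ d = 1
  · left
    have h4 : Nat.card (R ⊓ centralizer (P : Set G) : Subgroup G) = Nat.card R := by
      rw [ha, hc, pow_add, h3, mul_one]
    have h5 : R ⊓ centralizer (P : Set G) = R :=
      eq_of_le_of_card_ge inf_le_left (by rw [h4])
    exact inf_eq_left.mp h5
  · right
    have h4 : q ^ d ∣ D p := by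
      refine dvd_trans ?_ hd
      rw [ha, pow_add]
      exact Dvd.intro_left _ rfl
    obtain ⟨h5, h6⟩ := modOne hp h7 hq hqp h4 h2 h3
    refine ⟨h5, ⟨d, by rw [← h6, h5]⟩, ?_⟩
    rw [ha, hc, pow_add, h6, mul_comm]

/-- If the `p`-group `X ≤ P` centralizes a `P`-invariant Sylow 2-subgroup of the normal
`p'`-subgroup `N` then it centralizes `N`. -/
theorem le_centralizer_of_two [Finite G] (hp : p.Prime) (h7 : 7 ≤ p) {X P N : Subgroup G}
    (hXP : X ≤ P) (hP : IsPGroup p P) [hNn : N.Normal] (hN : ¬ p ∣ Nat.card N)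
    (hd : Nat.card N ∣ D p)
    (h2 : ∃ T : Sylow 2 N, (T : Subgroup N).map N.subtype ≤ centralizer (X : Set G)) :
    N ≤ centralizer (X : Set G) := by
  have := Fact.mk hp
  have hPN : ∀ b ∈ P, ∀ u ∈ N, b * u * b⁻¹ ∈ N := fun b _ u hu => hNn.conj_mem u hu b
  have htop : ((N ⊓ centralizer (X : Set G)).subgroupOf N) = ⊤ := by
    apply Cores.eq_top_of_sylow_le
    intro r hr
    by_cases hr2 : r = 2
    · subst hr2
      obtain ⟨T, hT⟩ := h2
      refine ⟨T, fun t ht => ?_⟩
      rw [mem_subgroupOf, mem_inf]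
      exact ⟨t.2, hT ⟨t, ht, rfl⟩⟩
    obtain ⟨S, ⟨T, hT⟩, hS⟩ := PGroupCoprimeAction.exists_invariant_sylow hP hN hPN r
    refine ⟨T, fun t ht => ?_⟩
    rw [mem_subgroupOf, mem_inf]
    refine ⟨t.2, ?_⟩
    have htS : (t : G) ∈ S := by rw [← hT]; exact ⟨t, ht, rfl⟩
    have hcard : Nat.card S = Nat.card T := by
      rw [← hT]
      exact Nat.card_congr (Equiv.Set.image _ _ N.subtype_injective).symm
    have hSr : IsPGroup r S := by
      rw [← hT]
      exact T.isPGroup'.map _
    by_cases hrp : r = p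
    · subst hrp
      obtain ⟨a, ha⟩ := hSr.exists_card_eq
      have h3 : Nat.card S ∣ Nat.card N := by
        rw [hcard]; exact card_subgroup_dvd_card _
      have ha0 : a = 0 := by
        by_contra hne
        exact hN (dvd_trans (by rw [ha]; exact dvd_pow_self r hne) h3)
      rw [ha0, pow_zero, card_eq_one] at ha
      rw [ha, mem_bot] at htS
      rw [htS]
      exact one_mem _
    · have hSX : ∀ b ∈ X, ∀ u ∈ S, b * u * b⁻¹ ∈ S := fun b hb => hS b (hXP hb)
      have hSd : Nat.card S ∣ D p := by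
        refine dvd_trans ?_ hd
        rw [hcard]; exact card_subgroup_dvd_card _
      rcases idx hp h7 (hP.to_le hXP) hSX hr.out hrp hSr hSd with h3 | h3
      · exact h3 htS
      · exact (hr2 h3.1).elim
  intro n hn
  have h3 : (⟨n, hn⟩ : N) ∈ ((N ⊓ centralizer (X : Set G)).subgroupOf N) := by
    rw [htop]; exact mem_top _
  rw [mem_subgroupOf, mem_inf] at h3
  exact h3.2

end Cfsg.Agent.H405.PSq
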