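import Cfsg.Agent.H405.Shape

/-!
# Simple groups whose order divides `p ^ 2 (p ^ 4 - 1) / 2` (helper405): arithmetic

`arith` : a name `g` with order `c ∣ p ^ 2 (p ^ 4 - 1) / 2` divisible by the prime `p ≥ 7` is
`PSL(2, p ^ 2)`, `PSL(2, p)`, `PSL(2, 16)` (`p = 17`) or `PSL(3, 2)` (`p = 7`).
-/

set_option autoImplicit false

namespace Cfsg.Agent.H405.PSq

open Cfsg.Agent.OrdDiv Cfsg.Agent.H405.Shape

/-- the order of `PSL(2, p ^ 2)` -/
def D (p : ℕ) : ℕ := p ^ 2 * ((p ^ 4 - 1) / 2)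

section

variable {p : ℕ} (hp : p.Prime) (h7 : 7 ≤ p)

include hp h7

theorem odd_p : p % 2 = 1 := by
  have := hp.eq_two_or_odd
  omega

theorem half_eq : (p ^ 4 - 1) / 2 = (p ^ 2 - 1) * ((p ^ 2 + 1) / 2) ∧
    2 * ((p ^ 2 + 1) / 2) = p ^ 2 + 1 ∧ ((p ^ 2 + 1) / 2) % 2 = 1 := by
  have h := odd_p hp h7
  obtain ⟨k, rfl⟩ : ∃ k, p = 2 * k + 1 := ⟨p / 2, by omega⟩
  have h1 : (2 * k + 1) ^ 2 = 4 * (k * (k + 1)) + 1 := by ring
  have h2 : ((2 * k + 1) ^ 2 + 1) / 2 = 2 * (k * (k + 1)) + 1 := by omega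
  have h3 : (2 * k + 1) ^ 2 - 1 = 4 * (k * (k + 1)) := by omega
  refine ⟨?_, by omega, by omega⟩
  rw [h2, h3]
  have h4 : (2 * k + 1) ^ 4 = 2 * (4 * (k * (k + 1)) * (2 * (k * (k + 1)) + 1)) + 1 := by
    ring
  omega

theorem D_eq : D p = p ^ 2 * ((p ^ 2 - 1) * ((p ^ 2 + 1) / 2)) := by
  rw [D, (half_eq hp h7).1]

theorem cop_half : Nat.Coprime (p ^ 2 - 1) ((p ^ 2 + 1) / 2) := by
  obtain ⟨-, h2, h3⟩ := half_eq hp h7
  have hp2 : 1 ≤ p ^ 2 := Nat.one_le_pow _ _ hp.pos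
  rw [Nat.coprime_iff_gcd_eq_one]
  have h4 : Nat.gcd (p ^ 2 - 1) ((p ^ 2 + 1) / 2) ∣ 2 := by
    have h5 := Nat.gcd_dvd_left (p ^ 2 - 1) ((p ^ 2 + 1) / 2)
    have h6 := Nat.gcd_dvd_right (p ^ 2 - 1) ((p ^ 2 + 1) / 2)
    have h7 := Nat.dvd_sub (Dvd.dvd.mul_left h6 2) h5
    have h8 : 2 * ((p ^ 2 + 1) / 2) - (p ^ 2 - 1) = 2 := by omega
    rwa [h8] at h7
  rcases (Nat.dvd_prime Nat.prime_two).mp h4 with h | h
  · exact h
  · exfalso
    have h6 := Nat.gcd_dvd_right (p ^ 2 - 1) ((p ^ 2 + 1) / 2)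
    rw [h] at h6
    omega

/-- `p` does not divide `(p ^ 4 - 1) / 2`. -/
theorem not_dvd_half : ¬ p ∣ (p ^ 4 - 1) / 2 := by
  intro h
  have h1 : p ∣ 2 * ((p ^ 4 - 1) / 2) := Dvd.dvd.mul_left h 2
  have h2 : 2 * ((p ^ 4 - 1) / 2) = p ^ 4 - 1 := by
    obtain ⟨h2, h3, -⟩ := half_eq hp h7
    have hodd := odd_p hp h7
    have : (p ^ 4) % 2 = 1 := by
      rw [Nat.pow_mod, hodd]
    omega
  rw [h2] at h1
  have h3 : p ∣ p ^ 4 := dvd_pow_self p (by norm_num)
  have h4 : 1 ≤ p ^ 4 := Nat.one_le_pow _ _ hp.pos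
  have h5 := Nat.dvd_sub h3 h1
  rw [show p ^ 4 - (p ^ 4 - 1) = 1 by omega] at h5
  exact hp.one_lt.ne' (Nat.dvd_one.mp h5)

/-- Prime powers dividing `D p`, prime to `p`. -/
theorem ppow_cases {R : ℕ} (hR : IsPrimePow R) (hpR : ¬ p ∣ R) (hd : R ∣ D p) :
    (R % 2 = 1 ∧ R ∣ (p ^ 2 + 1) / 2) ∨ (R % 2 = 1 ∧ (R ∣ p - 1 ∨ R ∣ p + 1)) ∨
      (R % 2 = 0 ∧ (R ∣ 2 * (p - 1) ∨ R ∣ 2 * (p + 1))) := by
  have hodd := odd_p hp h7
  have hcop : Nat.Coprime R (p ^ 2) :=
    Nat.Coprime.pow_right 2 ((hp.coprime_iff_not_dvd.mpr hpR).symm)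
  rw [D_eq hp h7] at hd
  have h1 := hcop.dvd_of_dvd_mul_left hd
  rcases (Nat.Coprime.isPrimePow_dvd_mul (cop_half hp h7) hR).mp h1 with h2 | h2
  · right
    have h3 : p ^ 2 - 1 = (p - 1) * (p + 1) := by
      rw [mul_comm, ← Nat.sq_sub_sq, one_pow]
    rw [h3] at h2
    rcases Nat.mod_two_eq_zero_or_one R with he | ho
    · right
      refine ⟨he, ?_⟩
      -- `R` is a power of two
      obtain ⟨r, k, hr, hk, rfl⟩ := hR
      rw [← Nat.prime_iff] at hr
      have hr2 : r = 2 := by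
        have h4 : 2 ∣ r ^ k := Nat.dvd_of_mod_eq_zero he
        exact ((Nat.prime_dvd_prime_iff_eq Nat.prime_two hr).mp (Nat.prime_two.dvd_of_dvd_pow h4)).symm
      subst hr2
      rcases (show p % 4 = 1 ∨ p % 4 = 3 by omega) with h | h
      · left
        obtain ⟨s, hs⟩ : ∃ s, p + 1 = 2 * s := ⟨(p + 1) / 2, by omega⟩
        have hs1 : s % 2 = 1 := by omega
        rw [hs, show (p - 1) * (2 * s) = (2 * (p - 1)) * s by ring] at h2
        refine Nat.Coprime.dvd_of_dvd_mul_right ?_ h2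
        exact Nat.Coprime.pow_left k ((Nat.coprime_two_left).mpr (Nat.odd_iff.mpr hs1))
      · right
        obtain ⟨s, hs⟩ : ∃ s, p - 1 = 2 * s := ⟨(p - 1) / 2, by omega⟩
        have hs1 : s % 2 = 1 := by omega
        rw [hs, show (2 * s) * (p + 1) = (2 * (p + 1)) * s by ring] at h2
        refine Nat.Coprime.dvd_of_dvd_mul_right ?_ h2
        exact Nat.Coprime.pow_left k ((Nat.coprime_two_left).mpr (Nat.odd_iff.mpr hs1))
    · left
      refine ⟨ho, ?_⟩
      -- divide by two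
      obtain ⟨s, hs⟩ : ∃ s, p = 2 * s + 1 := ⟨p / 2, by omega⟩
      have h4 : (p - 1) * (p + 1) = 4 * (s * (s + 1)) := by
        rw [hs]
        rw [show 2 * s + 1 - 1 = 2 * s by omega]
        ring
      rw [h4] at h2
      have h5 : Nat.Coprime R 4 := by
        have : Nat.Coprime R 2 := (Nat.coprime_two_right).mpr (Nat.odd_iff.mpr ho)
        exact Nat.Coprime.pow_right 2 this
      have h6 := h5.dvd_of_dvd_mul_left h2
      have h7 : Nat.Coprime s (s + 1) := by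
        simp
      rcases (Nat.Coprime.isPrimePow_dvd_mul h7 hR).mp h6 with h8 | h8
      · left
        rw [show p - 1 = 2 * s by omega]
        exact Dvd.dvd.mul_left h8 2
      · right
        rw [show p + 1 = 2 * (s + 1) by omega]
        exact Dvd.dvd.mul_left h8 2
  · left
    refine ⟨?_, h2⟩
    obtain ⟨-, -, h3⟩ := half_eq hp h7
    rcases Nat.mod_two_eq_zero_or_one R with he | ho
    · exfalso
      have := (Nat.dvd_of_mod_eq_zero he).trans h2
      omega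
    · exact ho

/-- The size bound. -/
theorem two_mul_le {R : ℕ} (hR : IsPrimePow R) (hpR : ¬ p ∣ R) (hd : R ∣ D p) :
    2 * R ≤ p ^ 2 + 1 := by
  have hsq : 7 * p ≤ p ^ 2 := by nlinarith
  rcases ppow_cases hp h7 hR hpR hd with ⟨-, h⟩ | ⟨-, h | h⟩ | ⟨-, h | h⟩
  · obtain ⟨-, h3, -⟩ := half_eq hp h7
    have := Nat.le_of_dvd (by omega) h
    omega
  · have := Nat.le_of_dvd (by omega) h
    omega
  · have := Nat.le_of_dvd (by omega) h
    omega
  · have := Nat.le_of_dvd (by omega) h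
    omega
  · have := Nat.le_of_dvd (by omega) h
    omega

omit hp h7 in
theorem pow_dvd {den N f q c : ℕ} (h : LieOrd den N f q c) : q ^ N ∣ c := by
  have h1 : q ^ N ∣ den * c := by rw [h.eq]; exact dvd_mul_right _ _
  exact (Nat.Coprime.pow_left N h.cop.symm).dvd_of_dvd_mul_left h1

/-- The case of the defining characteristic. -/
theorem char_eq {den N f q c : ℕ} (h : LieOrd den N f q c) (hN : 1 ≤ N) (hd : c ∣ D p)
    (hpq : p ∣ q) : (q = p ∧ N ≤ 2) ∨ (q = p ^ 2 ∧ N = 1) := by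
  obtain ⟨r, k, hr, hk, hq⟩ := h.pp
  rw [← Nat.prime_iff] at hr
  have hrp : r = p := by
    rw [← hq] at hpq
    exact ((Nat.prime_dvd_prime_iff_eq hp hr).mp (hp.dvd_of_dvd_pow hpq)).symm
  subst hrp
  have h1 : q ^ N ∣ D r := (pow_dvd h).trans hd
  rw [← hq, ← pow_mul, D] at h1
  have h2 : r ^ (k * N) ∣ r ^ 2 := by
    refine Nat.Coprime.dvd_of_dvd_mul_right ?_ h1
    exact Nat.Coprime.pow_left _ (hp.coprime_iff_not_dvd.mpr (not_dvd_half hp h7))
  have h3 : k * N ≤ 2 := (Nat.pow_dvd_pow_iff_le_right hp.one_lt).mp h2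
  have hk2 : k ≤ 2 := by nlinarith
  have hN2 : N ≤ 2 := by nlinarith
  interval_cases k
  · left
    rw [pow_one] at hq
    exact ⟨hq.symm, hN2⟩
  · right
    exact ⟨hq.symm, by omega⟩

omit hp h7 in
theorem pp_pow {q N : ℕ} (h : IsPrimePow q) (hN : 1 ≤ N) : IsPrimePow (q ^ N) :=
  h.pow (by omega)

/-- Outside the defining characteristic: `2 q ^ N ≤ p ^ 2 + 1`. -/
theorem le_of_lie {den N f q c : ℕ} (h : LieOrd den N f q c) (hN : 1 ≤ N) (hd : c ∣ D p)
    (hpq : ¬ p ∣ q) : 2 * q ^ N ≤ p ^ 2 + 1 :=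
  two_mul_le hp h7 (pp_pow h.pp hN) (fun h' => hpq (hp.dvd_of_dvd_pow h'))
    ((pow_dvd h).trans hd)

omit h7 in
/-- `p` divides `f`. -/
theorem dvd_f {den N f q c : ℕ} (h : LieOrd den N f q c) (hpc : p ∣ c) (hpq : ¬ p ∣ q) : p ∣ f := by
  have h1 : p ∣ q ^ N * f := by rw [← h.eq]; exact Dvd.dvd.mul_left hpc _
  rcases (hp.dvd_mul).mp h1 with h2 | h2
  · exact absurd (hp.dvd_of_dvd_pow h2) hpq
  · exact h2

/-- Groups of large rank. -/
theorem big {den N f q c X : ℕ} (h : LieOrd den N f q c) (hN : 3 ≤ N) (hd : c ∣ D p)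
    (hpc : p ∣ c) (hX : X ^ 2 ≤ q ^ N) (hX3 : 3 ≤ X)
    (hf : p ∣ f → p ≤ X + 1) : False := by
  by_cases hpq : p ∣ q
  · rcases char_eq hp h7 h (by omega) hd hpq with h1 | h1 <;> omega
  · have h1 := le_of_lie hp h7 h (by omega) hd hpq
    have h2 := hf (dvd_f hp h hpc hpq)
    have h3 : p ^ 2 ≤ (X + 1) ^ 2 := Nat.pow_le_pow_left h2 2
    nlinarith

omit h7 hp in
theorem le_of_dvd_pow_sub {q j : ℕ} (hq : 2 ≤ q) (hj : 1 ≤ j) (h : p ∣ q ^ j - 1) :
    p ≤ q ^ j - 1 := by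
  refine Nat.le_of_dvd ?_ h
  have : q ^ 1 ≤ q ^ j := Nat.pow_le_pow_right (by omega) hj
  rw [pow_one] at this
  omega

omit h7 in
/-- prime divisors of `q ^ (2 j) - 1`. -/
theorem le_of_dvd_even {q j : ℕ} (hq : 2 ≤ q) (hj : 1 ≤ j) (h : p ∣ q ^ (2 * j) - 1) :
    p ≤ q ^ j + 1 := by
  have h1 : q ^ (2 * j) - 1 = (q ^ j - 1) * (q ^ j + 1) := by
    rw [mul_comm 2 j, pow_mul, mul_comm, ← Nat.sq_sub_sq, one_pow]
  rw [h1] at h
  have h0 : q ^ 1 ≤ q ^ j := Nat.pow_le_pow_right (by omega) hj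
  rw [pow_one] at h0
  rcases (hp.dvd_mul).mp h with h2 | h2
  · have := Nat.le_of_dvd (by omega) h2
    omega
  · exact Nat.le_of_dvd (by omega) h2

/-! ### families -/

/-- alternating groups -/
theorem alt_false {n c : ℕ} (h : n.factorial = 2 * c) (hd : c ∣ D p) (hpc : p ∣ c) : False := by
  have h1 : p ∣ n.factorial := by rw [h]; exact Dvd.dvd.mul_left hpc 2
  have h2 : p ≤ n := (hp.dvd_factorial).mp h1
  have h3 : p.factorial ∣ n.factorial := Nat.factorial_dvd_factorial h2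
  have h4 : 2 * ((p ^ 4 - 1) / 2) = p ^ 4 - 1 := by
    obtain ⟨h2, h3, -⟩ := half_eq hp h7
    have hodd := odd_p hp h7
    have : (p ^ 4) % 2 = 1 := by
      rw [Nat.pow_mod, hodd]
    omega
  have h5 : p.factorial ∣ p ^ 2 * (p ^ 4 - 1) := by
    refine h3.trans ?_
    rw [h, ← h4, show p ^ 2 * (2 * ((p ^ 4 - 1) / 2)) = 2 * (p ^ 2 * ((p ^ 4 - 1) / 2)) by ring]
    exact Nat.mul_dvd_mul_left 2 hd
  obtain ⟨m, rfl⟩ : ∃ m, p = m + 1 := ⟨p - 1, by omega⟩
  have h6 : Nat.Coprime m.factorial ((m + 1) ^ 2) := by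
    refine Nat.Coprime.pow_right 2 ?_
    rw [Nat.coprime_comm, hp.coprime_iff_not_dvd, hp.dvd_factorial]
    omega
  have h8 : m.factorial ∣ (m + 1) ^ 4 - 1 :=
    h6.dvd_of_dvd_mul_left ((Nat.factorial_dvd_factorial (Nat.le_succ m)).trans h5)
  have h9 : 1 < (m + 1) ^ 4 := Nat.one_lt_pow (by norm_num) (by omega)
  have h10 := Nat.le_of_dvd (by omega) h8
  by_cases hm : m < 10
  · have hm6 : 6 ≤ m := by omega
    clear h7
    interval_cases m
    · revert h8; decide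
    · norm_num at hp
    · norm_num at hp
    · norm_num at hp
  · have key : ∀ n, 10 ≤ n → (n + 1) ^ 4 ≤ n.factorial := by
      intro n hn
      induction n, hn using Nat.le_induction with
      | base => decide
      | succ n hn ih =>
        rw [Nat.factorial_succ]
        have h11 : (n + 1 + 1) ^ 4 ≤ (n + 1) * (n + 1) ^ 4 := by
          obtain ⟨k, rfl⟩ : ∃ k, n = k + 10 := ⟨n - 10, by omega⟩
          have : (k + 10 + 1) * (k + 10 + 1) ^ 4 = (k + 10 + 1 + 1) ^ 4 +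
            (k ^ 5 + 54 * k ^ 4 + 1162 * k ^ 3 + 12446 * k ^ 2 + 66293 * k + 140315) := by ring
          omega
        exact h11.trans (Nat.mul_le_mul_left _ ih)
    have := key m (by omega)
    omega

theorem spor_false {g : Grp} {c : ℕ} (h : (g, c) ∈ spor) (hd : c ∣ D p) (hpc : p ∣ c) : False := by
  have h1 : ∀ x ∈ spor, x.2 ∣ (Nat.factorial 71) ^ 46 := by decide +kernel
  have h2 : p ∣ (Nat.factorial 71) ^ 46 := hpc.trans (h1 _ h)
  have h3 : p ≤ 71 := (hp.dvd_factorial).mp (hp.dvd_of_dvd_pow h2)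
  have h4 : ∀ x ∈ spor, ∀ p < 72, 7 ≤ p → isPrimeB p = true → (D p) % x.2 ≠ 0 := by
    decide +kernel
  refine h4 _ h p (by omega) h7 ?_ (Nat.mod_eq_zero_of_dvd hd)
  unfold isPrimeB
  rw [Bool.and_eq_true, List.all_eq_true]
  refine ⟨by rw [Nat.blt_eq]; omega, ?_⟩
  intro d hdl
  rw [List.mem_range] at hdl
  rw [Bool.or_eq_true]
  by_cases h5 : d < 2
  · left; rw [Nat.blt_eq]; exact h5
  · right
    rw [bne_iff_ne]
    intro h6
    have := (Nat.dvd_prime hp).mp (Nat.dvd_of_mod_eq_zero h6)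
    omega

omit h7 in
/-- products of `q ^ i - 1` -/
theorem exists_of_dvd_prod {g : ℕ → ℕ} {n : ℕ} (h : p ∣ ∏ i ∈ Finset.range n, g i) :
    ∃ i < n, p ∣ g i := by
  obtain ⟨i, hi, h1⟩ := (hp.prime.dvd_finsetProd_iff _).mp h
  exact ⟨i, Finset.mem_range.mp hi, h1⟩

omit h7 in
/-- products of `q ^ (2 i) - 1`. -/
theorem le_of_prB {q m : ℕ} (hq : 2 ≤ q) (h : p ∣ ∏ i ∈ Finset.range m, (q ^ (2 * (i + 1)) - 1)) :
    p ≤ q ^ m + 1 := by
  obtain ⟨i, hi, h1⟩ := exists_of_dvd_prod hp h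
  have h2 := le_of_dvd_even hp hq (by omega) h1
  have h3 : q ^ (i + 1) ≤ q ^ m := Nat.pow_le_pow_right (by omega) (by omega)
  omega

theorem psp_false {m q c : ℕ} (h : Ord (.psp m q) c) (hd : c ∣ D p) (hpc : p ∣ c) : False := by
  obtain ⟨hm, -, h⟩ := h
  have hq : 2 ≤ q := h.pp.two_le
  have hmm : 2 * m ≤ m ^ 2 := by nlinarith
  have h4 : 2 ^ 2 ≤ q ^ m := (Nat.pow_le_pow_left hq 2).trans (Nat.pow_le_pow_right (by omega) hm)
  refine big hp h7 (X := q ^ m) h (by nlinarith) hd hpc ?_ (by omega) (le_of_prB hp hq)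
  rw [← pow_mul]
  exact Nat.pow_le_pow_right (by omega) (by omega)

theorem oodd_false {m q c : ℕ} (h : Ord (.oodd m q) c) (hd : c ∣ D p) (hpc : p ∣ c) : False := by
  obtain ⟨hm, -, h⟩ := h
  have hq : 2 ≤ q := h.pp.two_le
  have hmm : 2 * m ≤ m ^ 2 := by nlinarith
  have h4 : 2 ^ 3 ≤ q ^ m := (Nat.pow_le_pow_left hq 3).trans (Nat.pow_le_pow_right (by omega) hm)
  refine big hp h7 (X := q ^ m) h (by nlinarith) hd hpc ?_ (by omega) (le_of_prB hp hq)
  rw [← pow_mul]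
  exact Nat.pow_le_pow_right (by omega) (by omega)

theorem oplus_false {m q c : ℕ} (h : Ord (.oplus m q) c) (hd : c ∣ D p) (hpc : p ∣ c) : False := by
  obtain ⟨hm, h⟩ := h
  have hq : 2 ≤ q := h.pp.two_le
  have hmm : 3 * m ≤ m * (m - 1) := by
    rw [mul_comm]; exact Nat.mul_le_mul_left _ (by omega)
  have h4 : 2 ^ 4 ≤ q ^ m := (Nat.pow_le_pow_left hq 4).trans (Nat.pow_le_pow_right (by omega) hm)
  refine big hp h7 (X := q ^ m) h (by omega) hd hpc ?_ (by omega) ?_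
  · rw [← pow_mul]
    exact Nat.pow_le_pow_right (by omega) (by omega)
  · intro h5
    rcases (hp.dvd_mul).mp h5 with h6 | h6
    · have := Nat.le_of_dvd (by omega) h6
      omega
    · have h7 := le_of_prB hp hq h6
      have h8 : q ^ (m - 1) ≤ q ^ m := Nat.pow_le_pow_right (by omega) (by omega)
      omega

theorem ominus_false {m q c : ℕ} (h : Ord (.ominus m q) c) (hd : c ∣ D p) (hpc : p ∣ c) :
    False := by
  obtain ⟨hm, h⟩ := h
  have hq : 2 ≤ q := h.pp.two_le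
  have hmm : 3 * m ≤ m * (m - 1) := by
    rw [mul_comm]; exact Nat.mul_le_mul_left _ (by omega)
  have h4 : 2 ^ 4 ≤ q ^ m := (Nat.pow_le_pow_left hq 4).trans (Nat.pow_le_pow_right (by omega) hm)
  refine big hp h7 (X := q ^ m) h (by omega) hd hpc ?_ (by omega) ?_
  · rw [← pow_mul]
    exact Nat.pow_le_pow_right (by omega) (by omega)
  · intro h5
    rcases (hp.dvd_mul).mp h5 with h6 | h6
    · exact Nat.le_of_dvd (by omega) h6
    · have h7 := le_of_prB hp hq h6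
      have h8 : q ^ (m - 1) ≤ q ^ m := Nat.pow_le_pow_right (by omega) (by omega)
      omega

omit h7 in
/-- one factor `q ^ j - 1` with `j ≤ k` or `q ^ j + 1` with `j ≤ k` -/
theorem le_fac {q j k : ℕ} (hq : 2 ≤ q) (hj : 1 ≤ j) (hjk : j ≤ k) :
    (p ∣ q ^ j - 1 → p ≤ q ^ k + 1) ∧ (p ∣ q ^ j + 1 → p ≤ q ^ k + 1) ∧
      (p ∣ q ^ (2 * j) - 1 → p ≤ q ^ k + 1) := by
  have h3 : q ^ j ≤ q ^ k := Nat.pow_le_pow_right (by omega) hjk
  have h0 : q ^ 1 ≤ q ^ j := Nat.pow_le_pow_right (by omega) hj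
  rw [pow_one] at h0
  refine ⟨fun h => ?_, fun h => ?_, fun h => ?_⟩
  · have := Nat.le_of_dvd (by omega) h
    omega
  · have := Nat.le_of_dvd (by omega) h
    omega
  · have := le_of_dvd_even hp hq hj h
    omega

omit hp h7 in
theorem three_le {q k : ℕ} (hq : 2 ≤ q) (hk : 2 ≤ k) : 3 ≤ q ^ k := by
  have : 2 ^ 2 ≤ q ^ k := (Nat.pow_le_pow_left hq 2).trans (Nat.pow_le_pow_right (by omega) hk)
  omega

omit hp h7 in
theorem sq_le {q k N : ℕ} (hq : 2 ≤ q) (hk : k * 2 ≤ N) : (q ^ k) ^ 2 ≤ q ^ N := by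
  rw [← pow_mul]
  exact Nat.pow_le_pow_right (by omega) hk

theorem g2_false {q c : ℕ} (h : Ord (.g2 q) c) (hd : c ∣ D p) (hpc : p ∣ c) : False := by
  obtain ⟨-, h⟩ := h
  have hq : 2 ≤ q := h.pp.two_le
  refine big hp h7 (X := q ^ 3) h (by norm_num) hd hpc (sq_le hq (by norm_num))
    (three_le hq (by norm_num)) ?_
  intro h5
  rcases (hp.dvd_mul).mp h5 with h6 | h6
  · exact (le_fac hp (j := 1) hq (by norm_num) (by norm_num)).2.2 h6
  · exact (le_fac hp (j := 3) hq (by norm_num) (by norm_num)).2.2 h6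

theorem f4_false {q c : ℕ} (h : Ord (.f4 q) c) (hd : c ∣ D p) (hpc : p ∣ c) : False := by
  have hq : 2 ≤ q := h.pp.two_le
  refine big hp h7 (X := q ^ 12) h (by norm_num) hd hpc (sq_le hq (by norm_num))
    (three_le hq (by norm_num)) ?_
  intro h5
  simp only [hp.dvd_mul] at h5
  rcases h5 with ((h6 | h6) | h6) | h6
  · exact (le_fac hp (j := 2) hq (by norm_num) (by norm_num)).1 h6
  · exact (le_fac hp (j := 6) hq (by norm_num) (by norm_num)).1 h6
  · exact (le_fac hp (j := 8) hq (by norm_num) (by norm_num)).1 h6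
  · exact (le_fac hp (j := 12) hq (by norm_num) (by norm_num)).1 h6

theorem e6_false {q c : ℕ} (h : Ord (.e6 q) c) (hd : c ∣ D p) (hpc : p ∣ c) : False := by
  have hq : 2 ≤ q := h.pp.two_le
  refine big hp h7 (X := q ^ 18) h (by norm_num) hd hpc (sq_le hq (by norm_num))
    (three_le hq (by norm_num)) ?_
  intro h5
  simp only [hp.dvd_mul] at h5
  rcases h5 with ((((h6 | h6) | h6) | h6) | h6) | h6
  · exact (le_fac hp (j := 2) hq (by norm_num) (by norm_num)).1 h6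
  · exact (le_fac hp (j := 5) hq (by norm_num) (by norm_num)).1 h6
  · exact (le_fac hp (j := 6) hq (by norm_num) (by norm_num)).1 h6
  · exact (le_fac hp (j := 8) hq (by norm_num) (by norm_num)).1 h6
  · exact (le_fac hp (j := 9) hq (by norm_num) (by norm_num)).1 h6
  · exact (le_fac hp (j := 12) hq (by norm_num) (by norm_num)).1 h6

theorem te6_false {q c : ℕ} (h : Ord (.te6 q) c) (hd : c ∣ D p) (hpc : p ∣ c) : False := by
  have hq : 2 ≤ q := h.pp.two_le
  refine big hp h7 (X := q ^ 18) h (by norm_num) hd hpc (sq_le hq (by norm_num))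
    (three_le hq (by norm_num)) ?_
  intro h5
  simp only [hp.dvd_mul] at h5
  rcases h5 with ((((h6 | h6) | h6) | h6) | h6) | h6
  · exact (le_fac hp (j := 2) hq (by norm_num) (by norm_num)).1 h6
  · exact (le_fac hp (j := 5) hq (by norm_num) (by norm_num)).2.1 h6
  · exact (le_fac hp (j := 6) hq (by norm_num) (by norm_num)).1 h6
  · exact (le_fac hp (j := 8) hq (by norm_num) (by norm_num)).1 h6
  · exact (le_fac hp (j := 9) hq (by norm_num) (by norm_num)).2.1 h6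
  · exact (le_fac hp (j := 12) hq (by norm_num) (by norm_num)).1 h6

theorem e7_false {q c : ℕ} (h : Ord (.e7 q) c) (hd : c ∣ D p) (hpc : p ∣ c) : False := by
  have hq : 2 ≤ q := h.pp.two_le
  refine big hp h7 (X := q ^ 18) h (by norm_num) hd hpc (sq_le hq (by norm_num))
    (three_le hq (by norm_num)) ?_
  intro h5
  simp only [hp.dvd_mul] at h5
  rcases h5 with (((((h6 | h6) | h6) | h6) | h6) | h6) | h6
  · exact (le_fac hp (j := 2) hq (by norm_num) (by norm_num)).1 h6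
  · exact (le_fac hp (j := 6) hq (by norm_num) (by norm_num)).1 h6
  · exact (le_fac hp (j := 8) hq (by norm_num) (by norm_num)).1 h6
  · exact (le_fac hp (j := 10) hq (by norm_num) (by norm_num)).1 h6
  · exact (le_fac hp (j := 12) hq (by norm_num) (by norm_num)).1 h6
  · exact (le_fac hp (j := 14) hq (by norm_num) (by norm_num)).1 h6
  · exact (le_fac hp (j := 18) hq (by norm_num) (by norm_num)).1 h6

theorem e8_false {q c : ℕ} (h : Ord (.e8 q) c) (hd : c ∣ D p) (hpc : p ∣ c) : False := by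
  have hq : 2 ≤ q := h.pp.two_le
  refine big hp h7 (X := q ^ 30) h (by norm_num) hd hpc (sq_le hq (by norm_num))
    (three_le hq (by norm_num)) ?_
  intro h5
  simp only [hp.dvd_mul] at h5
  rcases h5 with ((((((h6 | h6) | h6) | h6) | h6) | h6) | h6) | h6
  · exact (le_fac hp (j := 2) hq (by norm_num) (by norm_num)).1 h6
  · exact (le_fac hp (j := 8) hq (by norm_num) (by norm_num)).1 h6
  · exact (le_fac hp (j := 12) hq (by norm_num) (by norm_num)).1 h6
  · exact (le_fac hp (j := 14) hq (by norm_num) (by norm_num)).1 h6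
  · exact (le_fac hp (j := 18) hq (by norm_num) (by norm_num)).1 h6
  · exact (le_fac hp (j := 20) hq (by norm_num) (by norm_num)).1 h6
  · exact (le_fac hp (j := 24) hq (by norm_num) (by norm_num)).1 h6
  · exact (le_fac hp (j := 30) hq (by norm_num) (by norm_num)).1 h6

theorem td4_false {q c : ℕ} (h : Ord (.td4 q) c) (hd : c ∣ D p) (hpc : p ∣ c) : False := by
  have hq : 2 ≤ q := h.pp.two_le
  refine big hp h7 (X := q ^ 6) h (by norm_num) hd hpc (sq_le hq (by norm_num))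
    (three_le hq (by norm_num)) ?_
  intro h5
  simp only [hp.dvd_mul] at h5
  rcases h5 with (h6 | h6) | h6
  · exact (le_fac hp (j := 2) hq (by norm_num) (by norm_num)).1 h6
  · exact (le_fac hp (j := 6) hq (by norm_num) (by norm_num)).1 h6
  · have hq2 : 2 * q ≤ q ^ 2 := by nlinarith
    have h8 : q ^ 8 + q ^ 4 + 1 = (q ^ 4 + q ^ 2 + 1) * (q ^ 4 - q ^ 2 + 1) := by
      have h9 : q ^ 2 ≤ q ^ 4 := Nat.pow_le_pow_right (by omega) (by norm_num)
      zify [h9]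
      ring
    rw [h8] at h6
    have h9 : q ^ 2 ≤ q ^ 4 := Nat.pow_le_pow_right (by omega) (by norm_num)
    have h10 : q ^ 4 + q ^ 2 ≤ q ^ 6 := by
      have h11 : q ^ 6 = q ^ 4 * q ^ 2 := by ring
      have h12 : 4 ≤ q ^ 2 := by nlinarith
      nlinarith
    rcases (hp.dvd_mul).mp h6 with h7 | h7
    · have := Nat.le_of_dvd (by omega) h7
      omega
    · have := Nat.le_of_dvd (by omega) h7
      omega

theorem tf4_false {q c : ℕ} (h : Ord (.tf4 q) c) (hd : c ∣ D p) (hpc : p ∣ c) : False := by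
  obtain ⟨-, h⟩ := h
  have hq : 2 ≤ q := h.pp.two_le
  refine big hp h7 (X := q ^ 6) h (by norm_num) hd hpc (sq_le hq (by norm_num))
    (three_le hq (by norm_num)) ?_
  intro h5
  simp only [hp.dvd_mul] at h5
  rcases h5 with ((h6 | h6) | h6) | h6
  · exact (le_fac hp (j := 1) hq (by norm_num) (by norm_num)).1 (by rw [pow_one]; exact h6)
  · exact (le_fac hp (j := 3) hq (by norm_num) (by norm_num)).2.1 h6
  · exact (le_fac hp (j := 4) hq (by norm_num) (by norm_num)).1 h6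
  · exact (le_fac hp (j := 6) hq (by norm_num) (by norm_num)).2.1 h6

end

end Cfsg.Agent.H405.PSq
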