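import Cfsg.Agent.H405.PSqArith
import Cfsg.Agent.Lib.PGroupCoprimeAction
import Cfsg.Agent.Lib.Cores

/-!
# `p'`-cores of the groups of order `p ^ 2 (p ^ 4 - 1) / 2` (helper405)
-/

set_option autoImplicit false

namespace Cfsg.Agent.H405.PSq

open Subgroup

section arith

variable {p : ℕ} (hp : p.Prime) (h7 : 7 ≤ p)

include hp h7

/-- A prime power dividing `D p`, prime to `p` and `≡ 1 mod p`, is `p + 1`, a power of 2. -/
theorem modOne {q b : ℕ} (hq : q.Prime) (hqp : q ≠ p) (hd : q ^ b ∣ D p)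
    (hm : q ^ b ≡ 1 [MOD p]) (h1 : q ^ b ≠ 1) : q = 2 ∧ q ^ b = p + 1 := by
  have hb : b ≠ 0 := by rintro rfl; simp at h1
  have hpp : IsPrimePow (q ^ b) := hq.isPrimePow.pow hb
  have hnd : ¬ p ∣ q ^ b := fun h =>
    hqp ((Nat.prime_dvd_prime_iff_eq hp hq).mp (hp.dvd_of_dvd_pow h)).symm
  have hodd := odd_p hp h7
  set R := q ^ b with hR
  have hR0 : 0 < R := Nat.pos_of_ne_zero (by rw [hR]; exact pow_ne_zero _ hq.ne_zero)
  obtain ⟨k, hk⟩ : ∃ k, R = 1 + p * k := by
    have := (Nat.modEq_iff_dvd' (by omega : 1 ≤ R)).mp hm.symm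
    obtain ⟨k, hk⟩ := this
    exact ⟨k, by omega⟩
  have hk0 : k ≠ 0 := by rintro rfl; omega
  have hRp : p + 1 ≤ R := by
    have : p * 1 ≤ p * k := Nat.mul_le_mul_left p (by omega)
    omega
  have key : R % 2 = 0 ∧ R = p + 1 := by
    rcases ppow_cases hp h7 hpp hnd hd with ⟨h2, S, hS⟩ | ⟨h2, h3 | h3⟩ | ⟨h2, h3 | h3⟩
    · exfalso
      obtain ⟨-, h4, -⟩ := half_eq hp h7
      rw [hS] at h4
      -- `2 * (R * S) = p ^ 2 + 1`
      have h5 : (1 + p * k) * (2 * S) = p ^ 2 + 1 := by rw [← hk]; linarith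
      have h6 : 2 * S ≡ 1 [MOD p] := by
        have e1 : (1 + p * k) * (2 * S) ≡ 1 * (2 * S) [MOD p] := by
          apply Nat.ModEq.mul_right
          have h9 : 1 + p * k ≡ 1 + 0 [MOD p] :=
            Nat.ModEq.add_left 1 ((Nat.modEq_zero_iff_dvd).mpr (Dvd.intro _ rfl))
          exact h9
        have e2 : p ^ 2 + 1 ≡ 0 + 1 [MOD p] :=
          Nat.ModEq.add_right 1 ((Nat.modEq_zero_iff_dvd).mpr (dvd_pow_self p two_ne_zero))
        rw [h5, one_mul] at e1
        simpa using e1.symm.trans e2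
      have hS0 : S ≠ 0 := by rintro rfl; omega
      obtain ⟨m, hm'⟩ : ∃ m, 2 * S = 1 + p * m := by
        obtain ⟨m, hm'⟩ := (Nat.modEq_iff_dvd' (by omega : 1 ≤ 2 * S)).mp h6.symm
        exact ⟨m, by omega⟩
      have hm0 : m ≠ 0 := by rintro rfl; omega
      rw [hm'] at h5
      have h7' : p * 1 ≤ p * k := Nat.mul_le_mul_left p (by omega)
      have h8 : p * 1 ≤ p * m := Nat.mul_le_mul_left p (by omega)
      nlinarith
    · have := Nat.le_of_dvd (by omega) h3
      omega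
    · have := Nat.le_of_dvd (by omega) h3
      have h4 : R = p + 1 := by omega
      omega
    · have h4 := Nat.le_of_dvd (by omega) h3
      have hk1 : k = 1 := by
        by_contra hne
        have : p * 2 ≤ p * k := Nat.mul_le_mul_left p (by omega)
        omega
      subst hk1
      have h5 : R = p + 1 := by omega
      exfalso
      rw [h5] at h3
      obtain ⟨c, hc⟩ := h3
      have : c = 1 ∨ 2 ≤ c := by
        rcases Nat.lt_or_ge c 2 with h | h
        · interval_cases c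
          · omega
          · left; rfl
        · right; exact h
      rcases this with rfl | h
      · omega
      · have : (p + 1) * 2 ≤ (p + 1) * c := Nat.mul_le_mul_left _ h
        omega
    · refine ⟨h2, ?_⟩
      have h4 := Nat.le_of_dvd (by omega) h3
      have hk2 : k = 1 ∨ k = 2 := by
        by_contra hne
        have : p * 3 ≤ p * k := Nat.mul_le_mul_left p (by omega)
        omega
      rcases hk2 with rfl | rfl
      · omega
      · exfalso
        omega
  refine ⟨?_, key.2⟩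
  have h2 : 2 ∣ q ^ b := Nat.dvd_of_mod_eq_zero key.1
  exact ((Nat.prime_dvd_prime_iff_eq Nat.prime_two hq).mp (Nat.prime_two.dvd_of_dvd_pow h2)).symm

/-- If `p + 1` is a power of 2 then `4 (p + 1)` does not divide `D p`. -/
theorem not_four_mul {b : ℕ} (hb : 2 ^ b = p + 1) : ¬ 4 * (p + 1) ∣ D p := by
  intro h
  have hodd := odd_p hp h7
  have hb2 : 2 ≤ b := by
    by_contra hlt
    have : b = 0 ∨ b = 1 := by omega
    rcases this with rfl | rfl <;> simp at hb <;> omega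
  have h4 : 4 ∣ p + 1 := by rw [← hb]; exact pow_dvd_pow 2 hb2
  rw [D_eq hp h7] at h
  obtain ⟨h1, h2, h3⟩ := half_eq hp h7
  have h5 : p ^ 2 - 1 = (p + 1) * (p - 1) := by
    have := Nat.sq_sub_sq p 1
    simpa using this
  rw [h5] at h
  have h6 : p ^ 2 * ((p + 1) * (p - 1) * ((p ^ 2 + 1) / 2)) =
      (p ^ 2 * ((p - 1) * ((p ^ 2 + 1) / 2))) * (p + 1) := by ring
  rw [h6] at h
  have h8 : 4 ∣ p ^ 2 * ((p - 1) * ((p ^ 2 + 1) / 2)) :=
    Nat.dvd_of_mul_dvd_mul_right (by omega) h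
  obtain ⟨m, hm⟩ : ∃ m, p = 4 * m + 3 := ⟨(p - 3) / 4, by omega⟩
  have h9 : (p ^ 2 * ((p - 1) * ((p ^ 2 + 1) / 2))) % 4 ≠ 0 := by
    have e0 : p % 4 = 3 := by omega
    have e1 : p ^ 2 % 4 = 1 := by rw [Nat.pow_mod, e0]
    have e2 : (p - 1) % 4 = 2 := by omega
    have e3 : ((p ^ 2 + 1) / 2) % 4 = 1 ∨ ((p ^ 2 + 1) / 2) % 4 = 3 := by omega
    rw [Nat.mul_mod, e1, Nat.mul_mod (p - 1), e2]
    rcases e3 with e3 | e3 <;> rw [e3]
    · norm_num
    · norm_num
  exact h9 (Nat.mod_eq_zero_of_dvd h8)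

end arith

end Cfsg.Agent.H405.PSq
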