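import Cfsg.Agent.H405.PSqMain
import Cfsg.Agent.H405.PSqCases
import Cfsg.Agent.S0813
import Cfsg.Agent.S0255
import Cfsg.Agent.Characters.Ito
import Cfsg.Agent.LieClassical.FieldTransfer
import Cfsg.Agent.ClassicalGeometry.PSL2Basic
import Cfsg.Prelude.Def_Characters

/-!
# Recognition of `PSL (2, p ^ 2)` by its order (helper405)

`psl_of_card` : a finite group of order `p ^ 2 (p ^ 4 - 1) / 2`, `p ≥ 7` prime, with `O_p(G) = 1` is
isomorphic to `PSL (2, p ^ 2)`.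
-/

set_option autoImplicit false

namespace Cfsg.Agent.H405.PSq

open Subgroup Cfsg.Agent.Lib Cfsg.Agent.OrdDiv Cfsg.Agent.H405.Shape

universe u

theorem psl_two_ord {q c : ℕ} (h : Ord (.psl 2 q) c) :
    Nat.gcd 2 (q - 1) * c = q * (q ^ 2 - 1) := by
  obtain ⟨-, hq4, h⟩ := h
  have hq4 : 4 ≤ q := hq4 rfl
  have h1 := h.eq
  rw [Finset.prod_range_succ, Finset.prod_range_one, show 2 * (2 - 1) / 2 = 1 by norm_num,
    pow_one] at h1
  have h2 : (q - 1) * (Nat.gcd 2 (q - 1) * c) = (q - 1) * (q * (q ^ (1 + 1) - 1)) := by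
    calc (q - 1) * (Nat.gcd 2 (q - 1) * c) = Nat.gcd 2 (q - 1) * (q - 1) * c := by ring
      _ = _ := by rw [h1]; ring
  exact Nat.eq_of_mul_eq_mul_left (by omega) h2

theorem psl_two_ord_odd {q c : ℕ} (h : Ord (.psl 2 q) c) (hq : q % 2 = 1) :
    2 * c = q * (q ^ 2 - 1) := by
  rw [← psl_two_ord h]
  have : Nat.gcd 2 (q - 1) = 2 := Nat.gcd_eq_left (by omega)
  rw [this]

/-- The order of `PSL (2, F)`. -/
theorem card_psl_two {F : Type*} [Field F] [Fintype F] {p : ℕ} (hp : p.Prime) (h7 : 7 ≤ p)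
    (hF : Fintype.card F = p ^ 2) :
    Nat.card (Matrix.ProjectiveSpecialLinearGroup (Fin 2) F) = D p := by
  have h := S0243.result (F := F) hF 2 le_rfl
  have hodd := odd_p hp h7
  have hq : p ^ 2 % 2 = 1 := by rw [Nat.pow_mod, hodd]
  have hg : Nat.gcd 2 (p ^ 2 - 1) = 2 := Nat.gcd_eq_left (by omega)
  rw [Fin.prod_univ_two, hg] at h
  simp only [Fin.val_zero, Fin.val_one, pow_zero, pow_one] at h
  have hp2 : 49 ≤ p ^ 2 := by nlinarith
  have e1 : (p ^ 2) ^ 2 - p ^ 2 = p ^ 2 * (p ^ 2 - 1) := by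
    rw [Nat.mul_sub, mul_one, pow_two (p ^ 2)]
  rw [e1] at h
  obtain ⟨-, h2, -⟩ := half_eq hp h7
  have e2 : (p ^ 2) ^ 2 - 1 = (p ^ 2 - 1) * (2 * ((p ^ 2 + 1) / 2)) := by
    rw [h2, mul_comm, ← Nat.sq_sub_sq, one_pow]
  rw [e2] at h
  rw [D_eq hp h7]
  refine Nat.eq_of_mul_eq_mul_left (by omega : 0 < 2 * (p ^ 2 - 1)) ?_
  rw [mul_assoc 2, h]
  ring

theorem simpleHyp (Tb : OrderTable.{u}) {p : ℕ} (hp : p.Prime) (h7 : 7 ≤ p)
    (hK : ∀ (H : Type u) [Group H] [Finite H] [IsSimpleGroup H], IsKnownSimple' H) :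
    SimpleHyp.{u} p := by
  intro H _ _ hH hna hd hpc
  obtain ⟨g, hR, hO⟩ := exists_shape Tb (hK H) hna
  have hodd := odd_p hp h7
  have base : ∀ {F : Type} [Field F] [Fintype F], Fintype.card F = p →
      Nonempty (H ≃* Matrix.ProjectiveSpecialLinearGroup (Fin 2) F) →
      ¬ p ^ 2 ∣ Nat.card (MulAut H) := by
    intro F _ _ hF ⟨e⟩ h2
    have := Fact.mk hp
    have h1 := S0813.result (F := F) p 1 le_rfl (by rw [hF, pow_one]) 2 le_rfl (fun _ => by
      rw [pow_one]; omega)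
    rw [Nat.card_congr (MulAut.congr e).toEquiv, h1,
      ClassicalGeometry.PSL2Basic.card_PGL2, hF, if_pos rfl, one_mul, one_mul, pow_two] at h2
    have h3 : p ∣ p * p - 1 := Nat.dvd_of_mul_dvd_mul_left hp.pos h2
    have h4 : p ∣ p * p - (p * p - 1) := Nat.dvd_sub (Dvd.intro _ rfl) h3
    have h5 : p * p - (p * p - 1) = 1 := by
      have : 1 ≤ p * p := Nat.mul_pos hp.pos hp.pos
      omega
    rw [h5] at h4
    exact hp.one_lt.ne' (Nat.dvd_one.mp h4)
  rcases arith hp h7 hO hd hpc with rfl | rfl | ⟨rfl, rfl⟩ | ⟨rfl, rfl⟩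
  · obtain ⟨F, _, _, hF, he⟩ := hR
    exact ⟨Or.inl (psl_two_ord_odd hO hodd), Or.inr (base hF he)⟩
  · obtain ⟨F, _, _, hF, ⟨e⟩⟩ := hR
    have h1 : Nat.card H = D p := by rw [Nat.card_congr e.toEquiv, card_psl_two hp h7 hF]
    exact ⟨Or.inr (Or.inl h1), Or.inl h1⟩
  · obtain ⟨F, _, _, hF, ⟨e⟩⟩ := hR
    have h1 := psl_two_ord hO
    norm_num at h1
    refine ⟨Or.inr (Or.inr ⟨rfl, by omega⟩), Or.inr ?_⟩
    have : Fact (Nat.Prime 2) := ⟨Nat.prime_two⟩
    have h2 := S0813.result (F := F) 2 4 (by norm_num) (by rw [hF]; norm_num) 2 le_rfl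
      (fun _ => by norm_num)
    rw [Nat.card_congr (MulAut.congr e).toEquiv, h2,
      ClassicalGeometry.PSL2Basic.card_PGL2, hF]
    norm_num
  · obtain ⟨F, _, _, hF, ⟨e⟩⟩ := hR
    have : Fact (Nat.Prime 7) := ⟨by norm_num⟩
    have h7' : Fintype.card (ZMod 7) = 7 := ZMod.card 7
    obtain ⟨e'⟩ := S0255.result (F := ZMod 7) (K := F) h7' hF
    have he : Nonempty (H ≃* Matrix.ProjectiveSpecialLinearGroup (Fin 2) (ZMod 7)) :=
      ⟨e.trans e'.symm⟩
    refine ⟨Or.inl ?_, Or.inr (base h7' he)⟩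
    have h3 := S0243.result (F := ZMod 7) h7' 2 le_rfl
    rw [Fin.prod_univ_two] at h3
    norm_num [-Nat.card_eq_fintype_card] at h3
    obtain ⟨e2⟩ := he
    rw [Nat.card_congr e2.toEquiv]
    omega

/-- **Recognition of `PSL (2, p ^ 2)` by order and `O_p(G) = 1`.** -/
theorem psl_of_card (Tb : OrderTable.{u}) {p : ℕ} (hp : p.Prime) (h7 : 7 ≤ p)
    (hK : ∀ (H : Type u) [Group H] [Finite H] [IsSimpleGroup H], IsKnownSimple' H)
    {G : Type u} [Group G] [Finite G] (hcard : Nat.card G = D p) (hG : Cfsg.pCore p G = ⊥)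
    {F : Type*} [Field F] [Fintype F] (hF : Fintype.card F = p ^ 2) :
    Nonempty (G ≃* Matrix.ProjectiveSpecialLinearGroup (Fin 2) F) := by
  have hs := simpleHyp Tb hp h7 hK
  have hsG := simple_of_card hp h7 hcard hG hs
  have hpc : p ∣ Nat.card G := by
    rw [hcard, D, pow_two, mul_assoc]; exact Dvd.intro _ rfl
  have hD := D_pos hp h7
  have hp2 : 49 ≤ p ^ 2 := by nlinarith
  have hodd := odd_p hp h7
  have hna : ¬ ∀ a b : G, a * b = b * a := by
    intro hc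
    have hP : (⊤ : Subgroup G).Normal := inferInstance
    have := Fact.mk hp
    obtain ⟨x, hx⟩ := exists_prime_orderOf_dvd_card' p hpc
    have hX : (zpowers x).Normal := ⟨fun a ha g => by rwa [hc g a, mul_inv_cancel_right]⟩
    have h1 : zpowers x ≤ Cfsg.pCore p G :=
      Cores.le_pCore hX (IsPGroup.of_card (n := 1) (by rw [Nat.card_zpowers, hx, pow_one]))
    rw [hG, le_bot_iff, zpowers_eq_bot] at h1
    rw [h1, orderOf_one] at hx
    exact hp.one_lt.ne hx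
  obtain ⟨g, hR, hO⟩ := exists_shape Tb (hK G) hna
  have big : ∀ c, Nat.card G = c → c = D p := fun c hc => hc.symm.trans hcard
  rcases arith hp h7 hO (by rw [hcard]) hpc with rfl | rfl | ⟨rfl, rfl⟩ | ⟨rfl, rfl⟩
  · exfalso
    have h1 := psl_two_ord_odd hO hodd
    rw [hcard, D_eq hp h7] at h1
    have h2 : 1 ≤ (p ^ 2 + 1) / 2 := by omega
    have h3 : 1 ≤ p ^ 2 - 1 := by omega
    have h4 : p * (p ^ 2 - 1) < 2 * (p ^ 2 * ((p ^ 2 - 1) * ((p ^ 2 + 1) / 2))) := by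
      calc p * (p ^ 2 - 1) < (2 * p ^ 2) * (p ^ 2 - 1) :=
            Nat.mul_lt_mul_of_pos_right (by nlinarith) h3
        _ ≤ (2 * p ^ 2) * ((p ^ 2 - 1) * ((p ^ 2 + 1) / 2)) :=
            Nat.mul_le_mul_left _ (Nat.le_mul_of_pos_right _ h2)
        _ = _ := by ring
    omega
  · obtain ⟨F', _, _, hF', ⟨e⟩⟩ := hR
    exact ⟨e.trans (LieClassical.FieldTransfer.pslCongr
      (FiniteField.ringEquivOfCardEq (hF'.trans hF.symm)))⟩
  · exfalso
    have h1 := psl_two_ord hO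
    rw [hcard] at h1
    norm_num [D] at h1
  · exfalso
    obtain ⟨F', _, _, hF', ⟨e⟩⟩ := hR
    have h7' : Fintype.card (ZMod 7) = 7 := ZMod.card 7
    have : Fact (Nat.Prime 7) := ⟨by norm_num⟩
    obtain ⟨e'⟩ := S0255.result (F := ZMod 7) (K := F') h7' hF'
    have h3 := S0243.result (F := ZMod 7) h7' 2 le_rfl
    rw [Fin.prod_univ_two, Nat.card_congr (e'.trans e.symm).toEquiv, hcard] at h3
    norm_num [D] at h3

/-- An irreducible character of degree `p ^ 2` excludes normal `p`-subgroups (Itô). -/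
theorem pCore_eq_bot {p : ℕ} (hp : p.Prime) (h7 : 7 ≤ p) {G : Type u} [Group G] [Finite G]
    (hcard : Nat.card G = D p)
    (hdeg : ∃ χ : Cfsg.IrrCharacter G, (χ : G → ℂ) 1 = (p ^ 2 : ℕ)) : Cfsg.pCore p G = ⊥ := by
  have := Fact.mk hp
  obtain ⟨⟨χ, n, ρ, hρ, hχ⟩, h1⟩ := hdeg
  change χ 1 = _ at h1
  rw [← hχ, Representation.char_one] at h1
  have hn : Module.finrank ℂ (Fin n → ℂ) = p ^ 2 := by exact_mod_cast h1
  obtain ⟨P⟩ : Nonempty (Sylow p G) := inferInstance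
  have hPc : Nat.card (P : Subgroup G) = p ^ 2 := sylow_card hp h7 hcard P
  have hab : ∀ a ∈ Cfsg.pCore p G, ∀ b ∈ Cfsg.pCore p G, a * b = b * a := by
    intro a ha b hb
    have h2 := (IsPGroup.isMulCommutative_of_card_eq_prime_sq hPc).is_comm.comm
      ⟨a, Cores.pCore_le_sylow P ha⟩ ⟨b, Cores.pCore_le_sylow P hb⟩
    exact congrArg Subtype.val h2
  have h3 := Characters.Ito.finrank_dvd_index ρ (Cfsg.pCore p G) hab
  rw [hn] at h3
  have h4 := (Cfsg.pCore p G).card_mul_index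
  obtain ⟨a, ha⟩ := (Cores.pCore_isPGroup (G := G) p).exists_card_eq
  by_contra hne
  have ha0 : a ≠ 0 := by
    rintro rfl
    rw [pow_zero, card_eq_one] at ha
    exact hne ha
  obtain ⟨c, hc⟩ := h3
  rw [hcard, ha, hc, D] at h4
  have h5 : p ^ 2 * (p ^ a * c) = p ^ 2 * ((p ^ 4 - 1) / 2) := by rw [← h4]; ring
  have h6 := Nat.eq_of_mul_eq_mul_left (pow_pos hp.pos 2) h5
  apply not_dvd_half hp h7
  rw [← h6]
  exact Dvd.dvd.mul_right (dvd_pow_self p ha0) c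

end Cfsg.Agent.H405.PSq
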