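import Cfsg.Agent.H405.PSqAction

/-!
# The `p`-core modulo the `p'`-core in groups of order `p ^ 2 (p ^ 4 - 1) / 2` (helper405)
-/

set_option autoImplicit false

namespace Cfsg.Agent.H405.PSq

open Subgroup Cfsg.Agent.Lib

variable {G : Type*} [Group G] {p : ℕ}

/-- A subgroup `P` of order `p ^ 2` does not act faithfully on the normal `p'`-subgroup `N`. -/
theorem case_i [Finite G] (hp : p.Prime) (h7 : 7 ≤ p) {P N : Subgroup G}
    (hPc : Nat.card P = p ^ 2) [hNn : N.Normal] (hN : ¬ p ∣ Nat.card N)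
    (hd : Nat.card N ∣ D p) (hC : P ⊓ centralizer (N : Set G) = ⊥) : False := by
  have := Fact.mk hp
  have hP : IsPGroup p P := IsPGroup.of_card hPc
  have hPN : ∀ b ∈ P, ∀ u ∈ N, b * u * b⁻¹ ∈ N := fun b _ u hu => hNn.conj_mem u hu b
  obtain ⟨S, ⟨T, hT⟩, hS⟩ := PGroupCoprimeAction.exists_invariant_sylow hP hN hPN 2
  have hcard : Nat.card S = Nat.card T := by
    rw [← hT]
    exact Nat.card_congr (Equiv.Set.image _ _ N.subtype_injective).symm
  have hSN : Nat.card S ∣ Nat.card N := by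
    rw [hcard]; exact card_subgroup_dvd_card _
  have hS2 : IsPGroup 2 S := by
    rw [← hT]
    exact T.isPGroup'.map _
  have hne : ∀ X : Subgroup G, X ≤ P → X ≠ ⊥ →
      Nat.card S = (p + 1) * Nat.card (S ⊓ centralizer (X : Set G) : Subgroup G) := by
    intro X hXP hX
    rcases idx hp h7 (hP.to_le hXP) (fun b hb => hS b (hXP hb)) Nat.prime_two (by omega) hS2
      (hSN.trans hd) with h1 | h1
    · exfalso
      apply hX
      have h2 := le_centralizer_of_two hp h7 hXP hP hN hd ⟨T, by rw [hT]; exact h1⟩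
      have h3 : X ≤ centralizer (N : Set G) := le_centralizer_iff.mp h2
      exact le_bot_iff.mp (hC ▸ le_inf hXP h3)
    · exact h1.2.2
  have hPne : P ≠ ⊥ := by
    rintro rfl
    rw [card_bot] at hPc
    nlinarith
  have h1 := hne P le_rfl hPne
  have hfix : ∀ x ∈ P, x ≠ 1 →
      S ⊓ centralizer ({x} : Set G) = S ⊓ centralizer (P : Set G) := by
    intro x hx hx1
    have h2 := hne (zpowers x) (by rwa [zpowers_le]) (by rwa [Ne, zpowers_eq_bot])
    rw [zpowers_eq_closure, centralizer_closure] at h2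
    symm
    apply eq_of_le_of_card_ge
    · apply inf_le_inf_left
      apply centralizer_le
      rintro _ rfl
      exact hx
    · rw [h2] at h1
      exact (Nat.eq_of_mul_eq_mul_left (by omega) h1).le
  have h2 := card_dvd_of_fixed hS hfix
  set c := Nat.card (S ⊓ centralizer (P : Set G) : Subgroup G) with hc
  rw [hPc, h1] at h2
  have h3 : (p + 1) * c + (p ^ 2 - 1) * c = p * ((p + 1) * c) := by
    have h4 : 1 ≤ p ^ 2 := Nat.one_le_pow _ _ hp.pos
    obtain ⟨m, hm⟩ : ∃ m, p ^ 2 = m + 1 := ⟨p ^ 2 - 1, by omega⟩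
    rw [hm, Nat.add_sub_cancel]
    have : p * ((p + 1) * c) = p ^ 2 * c + p * c := by ring
    rw [this, hm]
    ring
  rw [h3, pow_two] at h2
  have h4 : p ∣ (p + 1) * c := Nat.dvd_of_mul_dvd_mul_left hp.pos h2
  rw [← h1] at h4
  exact hN (h4.trans hSN)

/-- If `K / N` is a `p`-group, `N` is a normal `p'`-group and `O_p(G) = 1` then `C_K(N)` has order
prime to `p`. -/
theorem not_dvd_inf_centralizer [Finite G] (hp : p.Prime) (hG : Cfsg.pCore p G = ⊥)
    {K N : Subgroup G} [hKn : K.Normal] [hNn : N.Normal]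
    (hK : ∀ g ∈ K, ∃ k : ℕ, g ^ p ^ k ∈ N) :
    ¬ p ∣ Nat.card (K ⊓ centralizer (N : Set G) : Subgroup G) := by
  have := Fact.mk hp
  set X := K ⊓ centralizer (N : Set G) with hX
  have hXn : X.Normal := by rw [hX]; infer_instance
  intro hdvd
  have hpX : Cfsg.pCore p X = ⊥ := by
    have h1 := Cores.map_subtype_pCore p hXn
    rw [hG, inf_bot_eq] at h1
    exact (map_eq_bot_iff_of_injective _ X.subtype_injective).mp h1
  have hq : IsPGroup p (X ⧸ center X) := by
    intro x
    obtain ⟨g, rfl⟩ := QuotientGroup.mk_surjective x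
    obtain ⟨k, hk⟩ := hK g g.2.1
    refine ⟨k, ?_⟩
    rw [← QuotientGroup.mk_pow, QuotientGroup.eq_one_iff, mem_center_iff]
    intro y
    apply Subtype.ext
    have h2 := mem_centralizer_iff.mp y.2.2 _ hk
    change (y : G) * (g : G) ^ p ^ k = (g : G) ^ p ^ k * y
    exact h2.symm
  have hnil : Group.IsNilpotent X := by
    apply Group.of_quotient_center_nilpotent
    exact hq.isNilpotent
  obtain ⟨T⟩ : Nonempty (Sylow p X) := inferInstance
  have hTn : (T : Subgroup X).Normal := by
    have h3 := (Group.isNilpotent_of_finite_tfae (G := X)).out 0 3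
    exact (h3.mp hnil) p inferInstance T
  have hT : (T : Subgroup X) ≤ Cfsg.pCore p X := Cores.le_pCore hTn T.isPGroup'
  rw [hpX, le_bot_iff] at hT
  have h4 := T.dvd_card_of_dvd_card hdvd
  rw [hT, card_bot] at h4
  exact hp.one_lt.ne' (Nat.dvd_one.mp h4)

end Cfsg.Agent.H405.PSq
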