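import Cfsg.Agent.H405.PSqLocal
import Cfsg.Agent.Lib.MinNormalNonabelian

/-!
# Minimal normal subgroups of a group with trivial `p'`-core (helper405)
-/

set_option autoImplicit false

namespace Cfsg.Agent.H405.PSq

open Subgroup Cfsg.Agent.Lib

/-- A nontrivial normal subgroup of a finite group contains a minimal normal subgroup. -/
theorem exists_min {G : Type*} [Group G] [Finite G] (C : Subgroup G) (hCn : C.Normal)
    (hC : C ≠ ⊥) :
    ∃ M : Subgroup G, M ≤ C ∧ M.Normal ∧ M ≠ ⊥ ∧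
      ∀ L : Subgroup G, L.Normal → L ≤ M → L = ⊥ ∨ L = M := by
  obtain ⟨M, ⟨h1, h2, h3⟩, hmin⟩ :=
    (Set.toFinite {M : Subgroup G | M ≤ C ∧ M.Normal ∧ M ≠ ⊥}).exists_minimal ⟨C, le_rfl, hCn, hC⟩
  refine ⟨M, h1, h2, h3, fun L hL hLM => ?_⟩
  by_cases h4 : L = ⊥
  · exact Or.inl h4
  · exact Or.inr (le_antisymm hLM (hmin ⟨hLM.trans h1, hL, h4⟩ hLM))

/-- The structure of a minimal normal subgroup of a group with trivial `p'`-core. -/
theorem minNormal_cases {Q : Type*} [Group Q] [Finite Q] {p : ℕ} (hp : p.Prime)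
    (hQ : Cfsg.pPrimeCore p Q = ⊥) (M : Subgroup Q) [hMn : M.Normal] (hM : M ≠ ⊥)
    (hmin : ∀ L : Subgroup Q, L.Normal → L ≤ M → L = ⊥ ∨ L = M) :
    p ∣ Nat.card M ∧ (IsPGroup p M ∨ ∃ T : Subgroup Q, T ≤ M ∧ IsSimpleGroup T ∧
      (¬ ∀ a b : T, a * b = b * a) ∧ p ∣ Nat.card T ∧
      ∃ m : ℕ, 0 < m ∧ Nonempty (M ≃* (Fin m → T))) := by
  have := Fact.mk hp
  have hpM : p ∣ Nat.card M := by
    by_contra h
    have h1 : M ≤ Cfsg.pPrimeCore p Q :=
      Cores.le_pPrimeCore hMn ((hp.coprime_iff_not_dvd.mpr h).symm)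
    rw [hQ, le_bot_iff] at h1
    exact hM h1
  refine ⟨hpM, ?_⟩
  by_cases hab : ∀ x ∈ M, ∀ y ∈ M, Commute x y
  · left
    obtain ⟨r, hr, h1, -⟩ := MinNormalNonabelian.abelian_structure M hM hmin hab
    have := Fact.mk hr
    obtain ⟨a, ha⟩ := h1.exists_card_eq
    rw [ha] at hpM
    have h2 : p = r := (Nat.prime_dvd_prime_iff_eq hp hr).mp (hp.dvd_of_dvd_pow hpM)
    rwa [h2]
  · right
    obtain ⟨T, m, hTM, hTs, hm, ⟨e⟩⟩ := MinNormal.exists_mulEquiv_pi M hM hmin
    have hcard : Nat.card M = Nat.card T ^ m := by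
      rw [Nat.card_congr e.toEquiv, Nat.card_fun, Nat.card_eq_fintype_card (α := Fin m),
        Fintype.card_fin]
    refine ⟨T, hTM, hTs, ?_, ?_, m, hm, ⟨e⟩⟩
    · intro hc
      apply hab
      intro x hx y hy
      have h3 : (⟨x, hx⟩ : M) * ⟨y, hy⟩ = ⟨y, hy⟩ * ⟨x, hx⟩ := by
        apply e.injective
        rw [map_mul, map_mul]
        funext i
        exact hc _ _
      exact congrArg Subtype.val h3
    · rw [hcard] at hpM
      exact hp.dvd_of_dvd_pow hpM

/-- The order of the power. -/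
theorem card_pow {M T : Type*} [Group M] [Group T] {m : ℕ} (e : M ≃* (Fin m → T)) :
    Nat.card M = Nat.card T ^ m := by
  rw [Nat.card_congr e.toEquiv, Nat.card_fun, Nat.card_eq_fintype_card (α := Fin m),
        Fintype.card_fin]

universe u

variable {G : Type u} [Group G] {p : ℕ}

theorem sylow_card [Finite G] (hp : p.Prime) (h7 : 7 ≤ p) (hcard : Nat.card G = D p)
    [Fact p.Prime] (P : Sylow p G) : Nat.card P = p ^ 2 := by
  rw [P.card_eq_multiplicity, hcard, D]
  congr 1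
  rw [Nat.factorization_mul (pow_ne_zero _ hp.ne_zero), Nat.factorization_pow]
  · simp [hp.factorization, Nat.factorization_eq_zero_of_not_dvd (not_dvd_half hp h7)]
  · intro h0
    exact not_dvd_half hp h7 (h0 ▸ dvd_zero p)

/-- **`O_p(G) = 1` implies `O_p(G / O_{p'}(G)) = 1`** when `|G| = p ^ 2 (p ^ 4 - 1) / 2`. -/
theorem pCore_quotient_eq_bot [Finite G] (hp : p.Prime) (h7 : 7 ≤ p) (hcard : Nat.card G = D p)
    (hG : Cfsg.pCore p G = ⊥)
    (hs : ∀ (H : Type u) [Group H] [Finite H], IsSimpleGroup H → (¬ ∀ a b : H, a * b = b * a) →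
      Nat.card H ∣ D p → p ∣ Nat.card H → 4 ∣ Nat.card H) :
    Cfsg.pCore p (G ⧸ Cfsg.pPrimeCore p G) = ⊥ := by
  have := Fact.mk hp
  by_contra hne
  set N := Cfsg.pPrimeCore p G with hNdef
  have hNcop : ¬ p ∣ Nat.card N :=
    (hp.coprime_iff_not_dvd).mp (Cores.pPrimeCore_coprime p).symm
  have hQ : Cfsg.pPrimeCore p (G ⧸ N) = ⊥ := Cores.pPrimeCore_quotient_pPrimeCore p
  have hNd : Nat.card N ∣ D p := hcard ▸ card_subgroup_dvd_card N
  -- a `p`-group in the quotient gives the power condition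
  have hpow : ∀ Kb : Subgroup (G ⧸ N), IsPGroup p Kb →
      ∀ g ∈ Kb.comap (QuotientGroup.mk' N), ∃ k : ℕ, g ^ p ^ k ∈ N := by
    intro Kb hKb g hg
    obtain ⟨k, hk⟩ := hKb ⟨_, hg⟩
    refine ⟨k, ?_⟩
    have h1 := congrArg Subtype.val hk
    change (QuotientGroup.mk' N g) ^ p ^ k = 1 at h1
    rw [← map_pow] at h1
    exact (QuotientGroup.eq_one_iff _).mp h1
  have hdvdQ : ∀ Kb : Subgroup (G ⧸ N), Nat.card Kb ∣ Nat.card (Kb.comap (QuotientGroup.mk' N)) := by
    intro Kb
    have h1 := card_dvd_of_surjective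
      ((QuotientGroup.mk' N).subgroupComap Kb)
      ((QuotientGroup.mk' N).subgroupComap_surjective_of_surjective Kb
        (QuotientGroup.mk'_surjective N))
    exact h1
  -- step b
  have hfour : ¬ 4 ∣ Nat.card (G ⧸ N) := by
    set K := (Cfsg.pCore p (G ⧸ N)).comap (QuotientGroup.mk' N) with hK
    have hKn : K.Normal := by rw [hK]; infer_instance
    have hKp := hpow _ (Cores.pCore_isPGroup (G := G ⧸ N) p)
    have hnd := not_dvd_inf_centralizer hp hG (K := K) (N := N) hKp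
    have hpK : p ∣ Nat.card K := by
      refine dvd_trans ?_ (hdvdQ _)
      obtain ⟨a, ha⟩ := (Cores.pCore_isPGroup (G := G ⧸ N) p).exists_card_eq
      rw [ha]
      apply dvd_pow_self
      rintro rfl
      rw [pow_zero, card_eq_one] at ha
      exact hne ha
    obtain ⟨x, hx⟩ := exists_prime_orderOf_dvd_card' p hpK
    have hxo : orderOf (x : G) = p := by rw [orderOf_coe, hx]
    have hXp : IsPGroup p (zpowers (x : G)) :=
      IsPGroup.of_card (n := 1) (by rw [Nat.card_zpowers, hxo, pow_one])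
    have hXN : ∀ b ∈ zpowers (x : G), ∀ u ∈ N, b * u * b⁻¹ ∈ N := fun b _ u hu =>
      (inferInstance : N.Normal).conj_mem u hu b
    have hnot : ¬ N ≤ centralizer ((zpowers (x : G) : Subgroup G) : Set G) := by
      intro h1
      have h2 : zpowers (x : G) ≤ K ⊓ centralizer (N : Set G) :=
        le_inf (by rw [zpowers_le]; exact x.2) (le_centralizer_iff.mp h1)
      apply hnd
      have h3 := card_dvd_of_le h2
      rwa [Nat.card_zpowers, hxo] at h3
    obtain ⟨S, ⟨T, hT⟩, hS⟩ := PGroupCoprimeAction.exists_invariant_sylow hXp hNcop hXN 2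
    have hcardS : Nat.card S = Nat.card T := by
      rw [← hT]
      exact Nat.card_congr (Equiv.Set.image _ _ N.subtype_injective).symm
    have hSN : Nat.card S ∣ Nat.card N := by
      rw [hcardS]; exact card_subgroup_dvd_card _
    have hS2 : IsPGroup 2 S := by
      rw [← hT]
      exact T.isPGroup'.map _
    rcases idx hp h7 hXp hS Nat.prime_two (by omega) hS2 (hSN.trans hNd) with h1 | ⟨-, ⟨b, hb⟩, h1⟩
    · exact (hnot (le_centralizer_of_two hp h7 le_rfl hXp hNcop hNd ⟨T, by rw [hT]; exact h1⟩)).elim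
    · intro h4
      apply not_four_mul hp h7 hb
      rw [← hcard, card_eq_card_quotient_mul_card_subgroup N]
      exact mul_dvd_mul h4 ((Dvd.intro _ h1.symm).trans hSN)
  obtain ⟨P⟩ : Nonempty (Sylow p G) := inferInstance
  have hPc := sylow_card hp h7 hcard P
  by_cases hC : (P : Subgroup G) ⊓ centralizer (N : Set G) = ⊥
  · exact case_i hp h7 hPc hNcop hNd hC
  -- step d
  set C := centralizer (N : Set G) with hCdef
  have hCn : C.Normal := by rw [hCdef]; infer_instance
  set Cb := C.map (QuotientGroup.mk' N) with hCb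
  have hCbn : Cb.Normal := Cores.map_normal_of_surjective (QuotientGroup.mk'_surjective N) hCn
  have hCb1 : Cb ≠ ⊥ := by
    intro h1
    rw [hCb, Subgroup.map_eq_bot_iff, QuotientGroup.ker_mk'] at h1
    apply hC
    have h2 : (P : Subgroup G) ⊓ C ≤ (P : Subgroup G) ⊓ N := inf_le_inf_left _ h1
    rw [eq_bot_iff]
    refine h2.trans ?_
    have h3 : Nat.Coprime (Nat.card (P : Subgroup G)) (Nat.card N) := by
      have : Nat.card (P : Subgroup G) = p ^ 2 := hPc
      rw [this]
      exact Nat.Coprime.pow_left _ (hp.coprime_iff_not_dvd.mpr hNcop)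
    exact (disjoint_of_coprime_natCard h3).le_bot
  obtain ⟨M, hMC, hMn, hM1, hmin⟩ := exists_min Cb hCbn hCb1
  obtain ⟨hpM, hM | ⟨T, hTM, hTs, hTna, hpT, m, hm, ⟨e⟩⟩⟩ := minNormal_cases hp hQ M hM1 hmin
  · set K := M.comap (QuotientGroup.mk' N) with hK
    have hKn : K.Normal := by rw [hK]; infer_instance
    apply not_dvd_inf_centralizer hp hG (K := K) (N := N) (hpow M hM)
    refine hpM.trans ?_
    have h1 : M = (K ⊓ C).map (QuotientGroup.mk' N) := by
      apply le_antisymm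
      · intro x hx
        obtain ⟨c, hc, rfl⟩ := hMC hx
        exact ⟨c, ⟨hx, hc⟩, rfl⟩
      · rintro _ ⟨c, hc, rfl⟩
        exact hc.1
    have h2 : Nat.card M ∣ Nat.card (K ⊓ C : Subgroup G) := by
      conv_lhs => rw [h1]
      exact card_map_dvd _ _
    exact h2
  · apply hfour
    have hTd : Nat.card T ∣ Nat.card (G ⧸ N) := card_subgroup_dvd_card T
    have hQd : Nat.card (G ⧸ N) ∣ D p := by
      rw [← hcard]; exact card_quotient_dvd_card N
    exact (hs T hTs hTna (hTd.trans hQd) hpT).trans hTd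

end Cfsg.Agent.H405.PSq
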