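import Cfsg.Agent.H403.LinTwo

/-!
# Elements of order 9 in `PSL_n(2)`, `n ≤ 5`, of order 45 in `PSL_6(2)` and of order 8 in `PSL_4(4)` (helper405)
-/

set_option autoImplicit false
set_option linter.unusedSectionVars false

namespace Cfsg.Agent.H405.SmallElt

open Polynomial Function Cfsg.Agent.H403 Cfsg.Agent.H403.NumTop

variable {F : Type*} [Field F] [Fintype F] {E : Type*} [Field E] [IsAlgClosed E] [Algebra F E]
variable {n : ℕ} {L : Type*} [Group L]

theorem xv_two_pow (j : ℕ) : (xv true 2) ^ j = ((2 ^ j : ℕ) : ℤ) := by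
  simp [xv]

/-- the order of an eigenvalue divides `2 ^ per - 1` -/
theorem order_dvd {y : E} (h0 : y ≠ 0) : orderOf y ∣ 2 ^ per (xv true 2) y - 1 := by
  have h1 := pow_per (xv true 2) y
  rw [xv_two_pow, zpow_natCast] at h1
  rw [orderOf_dvd_iff_pow_eq_one]
  have h2 : 1 ≤ 2 ^ per (xv true 2) y := Nat.one_le_pow _ _ (by norm_num)
  have h3 : y ^ (2 ^ per (xv true 2) y - 1) * y = 1 * y := by
    rw [← pow_succ, Nat.sub_add_cancel h2, h1, one_mul]
  exact mul_right_cancel₀ h0 h3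

theorem one_of_ne_zero {q : ℕ} (hq : q = 2) {ζ : F} (h1 : ζ ^ AA true 1 q = 1) : ζ = 1 := by
  subst hq
  rwa [show AA true 1 2 = 1 from rfl, pow_one] at h1

theorem per_le (M : Matrix (Fin n) (Fin n) F) {x : ℤ} (hM : Cl x (evs E M)) {y : E} (hy : y ∈ evs E M) :
    per x y ≤ n := by
  have h1 := Multiset.card_le_card (hM.orb_le hy)
  rwa [card_orb, card_evs, Fintype.card_fin] at h1

/-- **no elements of order 9 in `PSL_n(2)`, `n ≤ 5`** -/
theorem no_nine (hL : Lin E L true n 2 F) (hF : Fintype.card F = 2) (hn1 : 1 ≤ n) (hn : n ≤ 5) :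
    ¬ ∃ g : L, orderOf g = 9 := by
  rintro ⟨g, hg⟩
  have hne : Nonempty (Fin n) := ⟨⟨0, by omega⟩⟩
  obtain ⟨M, hdet, hM, hMk⟩ := hL g
  obtain ⟨ζ, hζ⟩ := (hMk 9).1 (by rw [← hg]; exact pow_orderOf_eq_one g)
  obtain ⟨hζ0, hζ1⟩ := scal (by norm_num) hn1 hM hζ
  obtain rfl := one_of_ne_zero rfl hζ1
  have h1 : ∀ y ∈ evs E M, y ^ 9 = 1 := fun y hy => by rw [pow_of_mem_evs E hζ hy, map_one]
  have h2F : (2 : F) = 0 := by
    have := FiniteField.cast_card_eq_zero F
    rw [hF] at this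
    exact_mod_cast this
  have h3F : ((3 : ℕ) : F) ≠ 0 := by
    have : ((3 : ℕ) : F) = 1 := by
      push_cast
      linear_combination h2F
    rw [this]
    exact one_ne_zero
  by_cases hall : ∀ y ∈ evs E M, y ^ 3 = 1
  · have h2 := pow_eq_smul_of_coprime E (k := 3) (m := 3) (c := (1 : F)) one_ne_zero h3F hζ
      (fun y hy => by rw [map_one]; exact hall y hy)
    have h3 := (hMk 3).2 ⟨1, h2⟩
    have h4 := orderOf_dvd_of_pow_eq_one h3
    rw [hg] at h4
    exact absurd (Nat.le_of_dvd (by norm_num) h4) (by norm_num)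
  · push Not at hall
    obtain ⟨y, hy, hy3⟩ := hall
    have ho : orderOf y = 3 ^ (1 + 1) := orderOf_eq_prime_pow (by rwa [pow_one]) (by
      rw [show 3 ^ (1 + 1) = 9 by norm_num]
      exact h1 y hy)
    have h2 := order_dvd (hM.ne_zero hy)
    rw [ho] at h2
    have h3 := per_le M hM hy
    have h4 := hM.per_pos hy
    have h5 : per (xv true 2) y ≤ 5 := h3.trans hn
    revert h2
    generalize per (xv true 2) y = t at h4 h5
    interval_cases t <;> decide

/-- **no elements of order 45 in `PSL_6(2)`** -/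
theorem no_45 (hL : Lin E L true 6 2 F) (hF : Fintype.card F = 2) : ¬ ∃ g : L, orderOf g = 45 := by
  rintro ⟨g, hg⟩
  obtain ⟨M, hdet, hM, hMk⟩ := hL g
  obtain ⟨ζ, hζ⟩ := (hMk 45).1 (by rw [← hg]; exact pow_orderOf_eq_one g)
  obtain ⟨hζ0, hζ1⟩ := scal (by norm_num) (by norm_num) hM hζ
  obtain rfl := one_of_ne_zero rfl hζ1
  have h1 : ∀ y ∈ evs E M, y ^ 45 = 1 := fun y hy => by rw [pow_of_mem_evs E hζ hy, map_one]
  have h2F : (2 : F) = 0 := by
    have := FiniteField.cast_card_eq_zero F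
    rw [hF] at this
    exact_mod_cast this
  have h3F : ((3 : ℕ) : F) ≠ 0 := by
    have : ((3 : ℕ) : F) = 1 := by
      push_cast
      linear_combination h2F
    rw [this]
    exact one_ne_zero
  have h5F : ((5 : ℕ) : F) ≠ 0 := by
    have : ((5 : ℕ) : F) = 1 := by
      push_cast
      linear_combination 2 * h2F
    rw [this]
    exact one_ne_zero
  by_cases hall : ∀ y ∈ evs E M, y ^ 15 = 1
  · have h2 := pow_eq_smul_of_coprime E (k := 15) (m := 3) (c := (1 : F)) one_ne_zero h3F hζ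
      (fun y hy => by rw [map_one]; exact hall y hy)
    have h3 := (hMk 15).2 ⟨1, h2⟩
    have h4 := orderOf_dvd_of_pow_eq_one h3
    rw [hg] at h4
    exact absurd (Nat.le_of_dvd (by norm_num) h4) (by norm_num)
  · push Not at hall
    obtain ⟨y, hy, hy15⟩ := hall
    have h9 : 9 ∣ orderOf y := by
      have h2 : orderOf y ∈ Nat.divisors 45 := Nat.mem_divisors.2 ⟨orderOf_dvd_of_pow_eq_one (h1 y hy), by norm_num⟩
      have h3 : ¬ orderOf y ∣ 15 := fun h => hy15 (orderOf_dvd_iff_pow_eq_one.1 h)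
      have h4 : ∀ d ∈ Nat.divisors 45, ¬ d ∣ 15 → 9 ∣ d := by decide
      exact h4 _ h2 h3
    have h2 := h9.trans (order_dvd (hM.ne_zero hy))
    have h3 := per_le M hM hy
    have h4 := hM.per_pos hy
    have hper : per (xv true 2) y = 6 := by
      revert h2
      generalize per (xv true 2) y = t at h3 h4
      interval_cases t <;> decide
    have hy9 : y ^ 9 = 1 := by
      have h5 := order_dvd (hM.ne_zero hy)
      rw [hper] at h5
      have h6 : orderOf y ∣ Nat.gcd 45 (2 ^ 6 - 1) := Nat.dvd_gcd (orderOf_dvd_of_pow_eq_one (h1 y hy)) h5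
      exact orderOf_dvd_iff_pow_eq_one.1 h6
    have hR := eq_orb hM hy (by rw [card_evs, Fintype.card_fin, hper])
    have h7 := pow_eq_smul_of_coprime E (k := 9) (m := 5) (c := (1 : F)) one_ne_zero h5F hζ (fun z hz => by
      rw [map_one]
      rw [hR] at hz
      obtain ⟨j, rfl⟩ := mem_orb hz
      rw [xv_two_pow, zpow_natCast, ← pow_mul, mul_comm, pow_mul, hy9, one_pow])
    have h8 := (hMk 9).2 ⟨1, h7⟩
    have h10 := orderOf_dvd_of_pow_eq_one h8
    rw [hg] at h10
    exact absurd (Nat.le_of_dvd (by norm_num) h10) (by norm_num)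

/-- **no elements of order 8 in `PSL_4(4)`** -/
theorem no_eight (hL : Lin E L true 4 4 F) (hF : Fintype.card F = 4) : ¬ ∃ g : L, orderOf g = 8 := by
  rintro ⟨g, hg⟩
  obtain ⟨M, hdet, hM, hMk⟩ := hL g
  obtain ⟨ζ, hζ⟩ := (hMk 8).1 (by rw [← hg]; exact pow_orderOf_eq_one g)
  have hF4 : ∀ a : F, a ^ 4 = a := fun a => by
    have := FiniteField.pow_card a
    rwa [hF] at this
  have hc : CharP F 2 := by
    have h1 : ((4 : ℕ) : F) = 0 := by
      have := FiniteField.cast_card_eq_zero F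
      rwa [hF] at this
    have h2 : (2 : F) = 0 := by
      have h3 : (2 : F) * 2 = 0 := by
        have : ((4 : ℕ) : F) = 2 * 2 := by push_cast; norm_num
        rw [← this, h1]
      exact mul_self_eq_zero.1 h3
    exact CharTwo.of_one_ne_zero_of_two_eq_zero one_ne_zero h2
  have h2p : Fact (Nat.Prime 2) := ⟨Nat.prime_two⟩
  have hcE : CharP E 2 := charP_of_injective_algebraMap (algebraMap F E).injective 2
  have hζ8 : (ζ ^ 2) ^ 8 = ζ := by
    rw [← pow_mul, show 2 * 8 = 4 * 4 by norm_num, pow_mul, hF4, hF4]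
  set c : F := ζ ^ 2 with hcdef
  have h1 : ∀ y ∈ evs E M, y = algebraMap F E c := by
    intro y hy
    have h2 : y ^ 8 = (algebraMap F E c) ^ 8 := by
      rw [pow_of_mem_evs E hζ hy, ← map_pow, hζ8]
    have h3 : ∀ a b : E, a ^ 2 = b ^ 2 → a = b := fun a b hab => frobenius_inj E 2 hab
    apply h3
    apply h3
    apply h3
    rw [← pow_mul, ← pow_mul, ← pow_mul, ← pow_mul]
    exact h2
  have h2 : M.charpoly ∣ (X - C c) ^ Fintype.card (Fin 4) := charpoly_dvd_pow E (fun y hy => by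
    rw [h1 y hy]
    simp)
  have h3 := aeval_eq_of_dvd h2
  rw [Fintype.card_fin] at h3
  have h4 : (X - C c : F[X]) ^ 4 = X ^ 4 - C (c ^ 4) := by
    rw [show 4 = 2 ^ 2 by norm_num, sub_pow_char_pow, ← C_pow]
  rw [h4] at h3
  simp only [map_sub, map_pow, aeval_X, aeval_C] at h3
  have h5 : M ^ 4 = (c ^ 4) • (1 : Matrix (Fin 4) (Fin 4) F) := by
    rw [sub_eq_zero] at h3
    rw [h3, Algebra.algebraMap_eq_smul_one, _root_.smul_pow, one_pow]
  have h6 := (hMk 4).2 ⟨c ^ 4, h5⟩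
  have h7 := orderOf_dvd_of_pow_eq_one h6
  rw [hg] at h7
  exact absurd (Nat.le_of_dvd (by norm_num) h7) (by norm_num)

end Cfsg.Agent.H405.SmallElt
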