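import Cfsg.Agent.H405.Setup
import Cfsg.Agent.H405.RadGrp
import Cfsg.Agent.H405.OutGrp
import Cfsg.Agent.H405.OutLie
import Cfsg.Agent.H405.CycSyl
import Cfsg.Agent.H405.NumUniB
import Cfsg.Agent.H414.Vasiliev

/-!
# Groups isospectral to `PSL_n(q)`, `PSU_n(q)`: the primes `r_n`, `r_{n-1}` (helper405)
-/

set_option autoImplicit false

namespace Cfsg.Agent.H405.StrL

open Cfsg Cfsg.Agent.H403 Cfsg.Agent.H403.NumTop Cfsg.Agent.H414.LieShape Cfsg.Agent.H426.LieFam Cfsg.Agent.H436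
open Cfsg.Agent.H405.Setup Cfsg.Agent.H405.OutNode Cfsg.Agent.H414 Cfsg.Agent.H414.Adj Cfsg.Agent.H414.Comp
open Cfsg.Agent.H414.Rad Cfsg.Agent.H414.Vasiliev Subgroup

/-- the structure of `G` -/
structure Str (p : ℕ) {G : Type*} [Group G] (K : Subgroup G) [K.Normal] (S : Subgroup (G ⧸ K)) : Prop where
  hK : Group.IsSolvable ↥K
  comp : IsComp S
  norm : S.Normal
  cent : centralizer (S : Set (G ⧸ K)) = ⊥
  coc : ∀ ρ : Finset ℕ, Coc G ρ → 3 ≤ ρ.card → ∀ p ∈ ρ, ∀ q ∈ ρ, p ∣ Nat.card ↥K * S.index →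
        q ∣ Nat.card ↥K * S.index → p = q
  lst : AltL2 ↥S ∨ ∀ p : ℕ, p.Prime → p ≠ 2 → p ∣ Nat.card G → (¬ ∃ x : G, orderOf x = 2 * p) →
        ¬ p ∣ Nat.card ↥K ∧ ¬ p ∣ S.index
  lie : IsLieTypeChar p ↥S

variable {p : ℕ} {e : Bool} {n k : ℕ} {F : Type} [Field F] [Fintype F] {L : Type*} [Group L] [Finite L] {G : Type*}
  [Group G] [Finite G] {K : Subgroup G} [K.Normal] {S : Subgroup (G ⧸ K)}

theorem Str.na (T : Str p K S) : ¬ IsMulCommutative ↥S := by
  obtain ⟨a, b, h⟩ := T.comp.noncomm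
  intro hc
  exact h (hc.is_comm.comm a b)

theorem card_eq (K : Subgroup G) [K.Normal] (S : Subgroup (G ⧸ K)) :
    Nat.card G = Nat.card ↥S * (Nat.card ↥K * S.index) := by
  rw [Subgroup.card_eq_card_quotient_mul_card_subgroup K, ← Subgroup.card_mul_index S]
  ring

theorem dvd_S {r : ℕ} (hr : r.Prime) (h : r ∣ Nat.card G) (h1 : ¬ r ∣ Nat.card ↥K) (h2 : ¬ r ∣ S.index) :
    r ∣ Nat.card ↥S := by
  rw [card_eq K S] at h
  rcases hr.dvd_mul.1 h with h3 | h3
  · exact h3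
  · rcases hr.dvd_mul.1 h3 with h4 | h4
    · exact absurd h4 h1
    · exact absurd h4 h2

theorem dvd_of_dvd_S {r : ℕ} (h : r ∣ Nat.card ↥S) : r ∣ Nat.card G := by
  rw [card_eq K S]
  exact h.mul_right _

theorem coc3 {a b c : ℕ} (ha : a.Prime) (hb : b.Prime) (hc : c.Prime) (haG : a ∣ Nat.card G) (hbG : b ∣ Nat.card G)
    (hcG : c ∣ Nat.card G) (h1 : ¬ ∃ x : G, orderOf x = a * b) (h2 : ¬ ∃ x : G, orderOf x = a * c)
    (h3 : ¬ ∃ x : G, orderOf x = b * c) : Coc G {a, b, c} := by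
  have h1' : ¬ ∃ x : G, orderOf x = b * a := by rwa [mul_comm]
  have h2' : ¬ ∃ x : G, orderOf x = c * a := by rwa [mul_comm]
  have h3' : ¬ ∃ x : G, orderOf x = c * b := by rwa [mul_comm]
  constructor
  · intro r hr
    simp only [Finset.mem_insert, Finset.mem_singleton] at hr
    rcases hr with rfl | rfl | rfl
    · exact ⟨ha, haG⟩
    · exact ⟨hb, hbG⟩
    · exact ⟨hc, hcG⟩
  · intro r hr s hs hrs
    simp only [Finset.mem_insert, Finset.mem_singleton] at hr hs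
    rcases hr with rfl | rfl | rfl <;> rcases hs with rfl | rfl | rfl <;>
      first | exact absurd rfl hrs | assumption

theorem card3 {a b c : ℕ} (hab : a ≠ b) (hac : a ≠ c) (hbc : b ≠ c) : 3 ≤ ({a, b, c} : Finset ℕ).card := by
  rw [Finset.card_insert_of_notMem, Finset.card_insert_of_notMem, Finset.card_singleton]
  · simpa using hbc
  · simp only [Finset.mem_insert, Finset.mem_singleton, not_or]
    exact ⟨hab, hac⟩

variable (D : Dat p e n k F L G) (T : Str p K S)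

include D T

/-- **`r_n`, `r_{n-1}` do not divide the order of the radical.** -/
theorem not_dvd_rad {i j r s : ℕ} (hr : Ro p e k i r) (hs : Ro p e k j s)
    (hij : (i = n ∧ j = n - 1) ∨ (i = n - 1 ∧ j = n)) : ¬ r ∣ Nat.card ↥K := by
  have hn := D.hn
  have hSn := T.norm
  have hpf := Fact.mk D.hp
  intro hrK
  have hrp : r ≠ p := hr.ne_char D.hk (by omega)
  have hsp : s ≠ p := hs.ne_char D.hk (by omega)
  have hrs : r ≠ s := hr.ne hs (by omega)
  have hr2 : r ≠ 2 := hr.ne_two (by omega)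
  have hs2 : s ≠ 2 := hs.ne_two (by omega)
  have a1 := D.not_rp hr (by omega)
  have a2 := D.not_rp hs (by omega)
  have a3 : ¬ ∃ g : G, orderOf g = r * s := by
    rcases hij with ⟨rfl, rfl⟩ | ⟨rfl, rfl⟩
    · exact D.not_rr hr hs
    · rw [mul_comm]; exact D.not_rr hs hr
  have hrG := D.dvd_card hr (by omega) (by omega)
  have hsG := D.dvd_card hs (by omega) (by omega)
  have hcoc : Coc G {r, s, p} := coc3 hr.1 hs.1 D.hp hrG hsG D.p_dvd a3 a1 a2
  have hns : ¬ s ∣ Nat.card ↥K * S.index := fun h =>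
    hrs (T.coc _ hcoc (card3 hrs hrp hsp) r (by simp) s (by simp) (hrK.mul_right _) h)
  have hsS : s ∣ Nat.card ↥S := by
    have h1 := hsG
    rw [card_eq K S] at h1
    exact (hs.1.dvd_mul.1 h1).resolve_right hns
  have hpS : p ∣ Nat.card ↥S := (shape_of_lie D.hp T.lie).choose_spec.choose_spec.choose_spec.choose_spec.chr
  have hKi : Nat.card ↥S ∣ K.index := Subgroup.card_subgroup_dvd_card S
  by_cases hp2 : p = 2
  · refine RadGrp.two_rad K hr.1 hs.1 hr2 hs2 hrs hrK ?_ (hsS.trans hKi) ?_ a3 ?_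
    · rw [← hp2]
      exact hpS.trans hKi
    · rw [← hp2]; exact a1
    · rw [← hp2]; exact a2
  · obtain ⟨W⟩ : Nonempty (Sylow p ↥S) := inferInstance
    have hc := RadGrp.isCyclic_of_rad K hr.1 D.hp hp2 hrp hrK a1 ((W : Subgroup ↥S).map S.subtype)
      (W.isPGroup'.map _)
    have hc' : IsCyclic ↥(W : Subgroup ↥S) :=
      isCyclic_of_injective ((W : Subgroup ↥S).equivMapOfInjective _ S.subtype_injective).toMonoidHom
        ((W : Subgroup ↥S).equivMapOfInjective _ S.subtype_injective).injective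
    have hS := T.comp.simple
    have h1 := CycSyl.card_sylow hp2 T.na T.lie W hc'
    rcases FamSyl.dvd_of_card_sylow T.lie W h1 hs.1 hsS with h2 | h2
    · exact hsp h2
    · have h3 : s ∣ AA e 2 (p ^ k) := by
        have h4 : AA e 2 (p ^ k) = (p ^ k) ^ 2 - 1 := by
          unfold AA
          simp
        rw [h4, ← pow_mul, mul_comm, pow_mul]
        refine h2.trans ?_
        have h5 := Nat.sub_dvd_pow_sub_pow (p ^ 2) 1 k
        rwa [one_pow] at h5
      have h4 := (hs.dvd_iff D.hp.pos).1 h3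
      have h5 := Nat.le_of_dvd (by norm_num) h4
      omega

omit D T in
theorem not_two_quot {r : ℕ} (hr : r.Prime) (h : ¬ ∃ g : G, orderOf g = 2 * r) (K : Subgroup G) [K.Normal] :
    ¬ ∃ g : G ⧸ K, orderOf g = 2 * r := fun h' =>
  h (exists_order_quot K (Nat.mul_ne_zero two_ne_zero hr.ne_zero) h')

/-- `p = 2` -/
theorem two_index (hp2 : p = 2) {i r : ℕ} (hr : Ro p e k i r) (hi : i = n ∨ i = n - 1) (hrK : ¬ r ∣ Nat.card ↥K) :
    ¬ r ∣ S.index := by
  have hn := D.hn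
  have a1 := D.not_rp hr hi
  rw [hp2, mul_comm] at a1
  have hrG := D.dvd_card hr (by omega) (by omega)
  have hrX : r ∣ Nat.card (G ⧸ K) := by
    rw [Subgroup.card_eq_card_quotient_mul_card_subgroup K] at hrG
    exact (hr.1.dvd_mul.1 hrG).resolve_right hrK
  exact (Comp.comp_of_nonadj T.comp (good_comp S T.comp) hr.1 (hr.ne_two (by omega)) hrX
    (not_two_quot hr.1 a1 K)).2.2.1

/-- `p` odd -/
theorem out_fpf {c : ℕ} (hS : Fpf p c ↥S) {i r : ℕ} (hr : Ro p e k i r) (hi : i = n ∨ i = n - 1) (h : r ∣ S.index) :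
    ∃ m, 1 ≤ m ∧ r ∣ p ^ m - 1 ∧ p ^ m ≤ c ∧ ∀ v : ℕ, v.Prime → 5 ≤ v → v ∣ p ^ m + 1 → v ∣ Nat.card ↥S := by
  have hn := D.hn
  have hpf := Fact.mk D.hp
  have hSn := T.norm
  have a1 := D.not_rp hr hi
  refine OutGrp.out_fpf S hr.1 (hr.ne_two (by omega)) (hr.ne_char D.hk (by omega)) h ?_ hS
  exact fun h' => a1 (exists_order_quot K (Nat.mul_ne_zero hr.1.ne_zero D.hp.ne_zero) h')

theorem out_card {i r : ℕ} [Fact p.Prime] (hr : Ro p e k i r) (hi : i = n ∨ i = n - 1) (h : r ∣ S.index)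
    (W : Sylow p ↥S) : r ∣ Nat.card ↥(W : Subgroup ↥S) - 1 := by
  have hn := D.hn
  have hSn := T.norm
  have a1 := D.not_rp hr hi
  refine OutGrp.out_card S hr.1 (hr.ne_char D.hk (by omega)) h ?_ W
  exact fun h' => a1 (exists_order_quot K (Nat.mul_ne_zero hr.1.ne_zero D.hp.ne_zero) h')

/-- `p` odd, a primitive prime -/
theorem prim_index (hp2 : p ≠ 2) {i r E : ℕ} (hr : Ro p e k i r) (hi : i = n ∨ i = n - 1) (hE : Prim p E r)
    (hE3 : 3 ≤ E)
    (H : ∀ v j m : ℕ, Prim p (2 * m) v → E ∣ m → 1 ≤ m → 1 ≤ j → j ≤ n → v ∣ AA e j (p ^ k) → False) :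
    ¬ r ∣ S.index := by
  intro h
  have hS := T.comp.simple
  obtain ⟨c, hc⟩ := OutNode.fpf_of_lie D.hp hp2 T.lie
  obtain ⟨m, hm1, hm2, -, hm3⟩ := out_fpf D T hc hr hi h
  have hEm : E ∣ m := (hE.dvd_iff m).1 hm2
  have hEm' := Nat.le_of_dvd hm1 hEm
  obtain ⟨v, hv⟩ := exists_prim D.hp.two_le (e := 2 * m) (by omega) (fun h => hp2 h.1)
  have hvp : v ≠ p := by
    rintro rfl
    exact hv.not_dvd dvd_rfl
  have hvm : v ∣ p ^ m + 1 := hv.dvd_add dvd_rfl (by
    intro h1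
    have := Nat.le_of_dvd hm1 h1
    omega)
  have hvS := hm3 v hv.prime (Prim_five_le hv (by omega)) hvm
  obtain ⟨j, hj1, hj2, hj3⟩ := D.exists_AA hv.prime (dvd_of_dvd_S hvS) hvp
  exact H v j m hv hEm hm1 hj1 hj2 hj3

/-- linear groups -/
theorem lin_index (he : e = true) (hp2 : p ≠ 2) {i r : ℕ} (hr : Prim p (i * k) r) (hi : i = n ∨ i = n - 1) :
    ¬ r ∣ S.index := by
  have hn := D.hn
  have hk := D.hk
  subst he
  have h3k : 3 * k ≤ i * k := Nat.mul_le_mul_right _ (by omega)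
  refine prim_index D T hp2 (ro_of_prim D.hp hk (by omega) hr) hi hr (by omega) ?_
  intro v j m hv hm hm1 hj1 hj2 hd
  have h1 : v ∣ p ^ (k * j) - 1 := by
    rw [pow_mul]
    exact hd
  have h2 := Nat.le_of_dvd (Nat.mul_pos hk hj1) ((hv.dvd_iff _).1 h1)
  have h3 := Nat.le_of_dvd hm1 hm
  have h4 : k * j ≤ n * k := by
    rw [mul_comm]
    exact Nat.mul_le_mul_right _ hj2
  have h5 : n * k = (n - 1) * k + k := by
    obtain ⟨t, rfl⟩ : ∃ t, n = t + 1 := ⟨n - 1, by omega⟩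
    simp [Nat.succ_mul]
  have h6 : (n - 1) * k ≤ i * k := Nat.mul_le_mul_right _ (by omega)
  have h7 : 3 * k ≤ (n - 1) * k := Nat.mul_le_mul_right _ (by omega)
  omega

/-- unitary groups, the odd exponent -/
theorem uni_index (he : e = false) (hp2 : p ≠ 2) {i r : ℕ} (hio : i % 2 = 1) (hr : Prim p (2 * (i * k)) r)
    (hi : i = n ∨ i = n - 1) : ¬ r ∣ S.index := by
  have hn := D.hn
  have hk := D.hk
  subst he
  have h3k : 3 * k ≤ i * k := Nat.mul_le_mul_right _ (by omega)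
  refine prim_index D T hp2 (ro_of_prim_uni D.hp hk (by omega) hio hr) hi hr (by omega) ?_
  intro v j m hv hm hm1 hj1 hj2 hd
  have h1 : v ∣ p ^ (k * (2 * j)) - 1 := by
    rw [pow_mul]
    exact NumUni.AA_dvd hd
  have h2 := Nat.le_of_dvd (Nat.mul_pos hk (by omega)) ((hv.dvd_iff _).1 h1)
  have h3 := Nat.le_of_dvd hm1 hm
  have h4 : k * (2 * j) ≤ 2 * (n * k) := by
    have := Nat.mul_le_mul_right k hj2
    calc k * (2 * j) = 2 * (j * k) := by ring
      _ ≤ 2 * (n * k) := Nat.mul_le_mul_left 2 this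
  have h5 : n * k = (n - 1) * k + k := by
    obtain ⟨t, rfl⟩ : ∃ t, n = t + 1 := ⟨n - 1, by omega⟩
    simp [Nat.succ_mul]
  have h6 : (n - 1) * k ≤ i * k := Nat.mul_le_mul_right _ (by omega)
  have h7 : 3 * k ≤ (n - 1) * k := Nat.mul_le_mul_right _ (by omega)
  omega

omit [Finite L] D T in
/-- elements of order prime to `|K| |G/K : S|` -/
theorem exists_order_S [S.Normal] {m : ℕ} (h : ∃ g : G, orderOf g = m)
    (hm : ∀ r : ℕ, r.Prime → r ∣ m → ¬ r ∣ Nat.card ↥K ∧ ¬ r ∣ S.index) : ∃ x : ↥S, orderOf x = m := by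
  obtain ⟨g, hg⟩ := h
  have hcK : Nat.Coprime m (Nat.card ↥K) := by
    refine Nat.Coprime.symm (Nat.coprime_of_dvd fun r hr h1 h2 => (hm r hr h2).1 h1)
  have hcS : Nat.Coprime m S.index := by
    refine Nat.Coprime.symm (Nat.coprime_of_dvd fun r hr h1 h2 => (hm r hr h2).2 h1)
  set x : G ⧸ K := QuotientGroup.mk' K g with hx
  have hxo : orderOf x = m := by
    apply Nat.dvd_antisymm
    · rw [← hg]
      exact orderOf_map_dvd _ g
    · have h1 : g ^ orderOf x ∈ K := by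
        have h2 : x ^ orderOf x = 1 := pow_orderOf_eq_one x
        rw [hx, ← map_pow] at h2
        exact (QuotientGroup.eq_one_iff _).1 h2
      have h2 : orderOf (g ^ orderOf x) ∣ Nat.card ↥K := by
        have h3 := orderOf_dvd_natCard (⟨g ^ orderOf x, h1⟩ : ↥K)
        rwa [← Subgroup.orderOf_coe] at h3
      have h3 : orderOf (g ^ orderOf x) ∣ m := by
        rw [← hg]
        exact orderOf_pow_dvd _
      have h4 : orderOf (g ^ orderOf x) = 1 := Nat.eq_one_of_dvd_coprimes hcK h3 h2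
      rw [orderOf_eq_one_iff] at h4
      rw [← hg]
      exact orderOf_dvd_of_pow_eq_one h4
  have hxS : x ∈ S := by
    set y : (G ⧸ K) ⧸ S := QuotientGroup.mk' S x with hy
    have h1 : orderOf y ∣ m := by
      rw [← hxo]
      exact orderOf_map_dvd _ x
    have h2 : orderOf y ∣ S.index := orderOf_dvd_natCard y
    have h3 : orderOf y = 1 := Nat.eq_one_of_dvd_coprimes hcS h1 h2
    rw [orderOf_eq_one_iff] at h3
    exact (QuotientGroup.eq_one_iff x).1 h3
  exact ⟨⟨x, hxS⟩, by rw [← Subgroup.orderOf_coe]; exact hxo⟩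

end Cfsg.Agent.H405.StrL
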