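import Cfsg.Agent.H405.U4OutA

/-!
# Overgroups of `Inn(PSU_4(q))` in `Aut(PSU_4(q))` without new element orders (helper405), II

* `exists_T` : an element of order `q ^ 3 + 1` of `Inndiag`;
* `Bd.diag` : inner-diagonal automorphisms in `Y` are inner (`q > 2`).
-/

set_option autoImplicit false
set_option linter.unusedSectionVars false

namespace Cfsg.Agent.H405.U4Out

open Cfsg Matrix Cfsg.Agent.H169.UAut Cfsg.Agent.H202.Psu Cfsg.Agent.H202.PsuCount
open Cfsg.Agent.H403 Cfsg.Agent.H403.NumTop Cfsg.Agent.H363.L4 Cfsg.Agent.H402.Rec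
open Cfsg.Agent.ClassicalGeometry.GUBasic (detHom detHom_surjective card_rootsOfUnity_eq)
open Cfsg.Agent.LieClassical.HermBasic (conj conj_apply)
open Cfsg.Agent.ClassicalGeometry.PSUAutCount (gm toAut)
open Cfsg.Agent.Schreier.PSU (f₁ f₂ toAut_eq mapGU conj_field)
open Cfsg.Agent.H201.PsuGraph (f₁_eq_one_iff)
open Cfsg.Agent.H201.PsuProj (mk mk_eq_one_iff)

variable {F : Type*} [Field F] [Fintype F] {p f q n : ℕ}

/-- orders of inner-diagonal automorphisms -/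
theorem orderOf_f₁ (hF : Fintype.card F = q ^ 2) (hn : 3 ≤ n) (T : GU n F q) :
    orderOf (f₁ T : MulAut (PSU n F q)) = orderOf (QuotientGroup.mk' (Subgroup.center (GU n F q)) T) := by
  rw [orderOf_eq_orderOf_iff]
  intro k
  rw [← map_pow, ← map_pow, f₁_eq_one_iff hF hn, mk_eq_one_iff]
  constructor
  · rintro ⟨c, hc⟩
    rw [QuotientGroup.mk'_apply, QuotientGroup.eq_one_iff, Subgroup.mem_center_iff]
    intro g
    apply Subtype.ext
    apply Units.ext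
    change (g : GL (Fin n) F).1 * ((T ^ k : GU n F q) : GL (Fin n) F).1 =
      ((T ^ k : GU n F q) : GL (Fin n) F).1 * (g : GL (Fin n) F).1
    rw [hc, Matrix.mul_smul, Matrix.mul_one, Matrix.smul_mul, Matrix.one_mul]
  · intro h
    rw [QuotientGroup.mk'_apply, QuotientGroup.eq_one_iff] at h
    obtain ⟨r, hr⟩ := H103.PGUUpper.exists_scalar_of_center hF (by omega) h
    have hr0 : r ≠ 0 := by
      rintro rfl
      have h1 := ((T ^ k : GU n F q) : GL (Fin n) F).det.ne_zero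
      apply h1
      change (((T ^ k : GU n F q) : GL (Fin n) F) : Matrix (Fin n) (Fin n) F).det = 0
      rw [hr, map_zero]
      have : Nonempty (Fin n) := ⟨⟨0, by omega⟩⟩
      exact Matrix.det_zero
    refine ⟨Units.mk0 r hr0, ?_⟩
    rw [hr, Units.val_mk0, Matrix.scalar_apply, Matrix.smul_one_eq_diagonal]

/-- an element of order `q ^ 3 + 1` -/
theorem exists_T (hF : Fintype.card F = q ^ 2) : ∃ T : GU 4 F q, orderOf (f₁ T : MulAut (PSU 4 F q)) = q ^ 3 + 1 := by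
  obtain ⟨c, hc⟩ := CharP.exists F
  have : Fact c.Prime := ⟨CharP.char_is_prime F c⟩
  obtain ⟨j, hj, -⟩ := H127.UnitRoots.exists_eq_pow hF c
  obtain ⟨S, hS, ho⟩ := H103.UniBlock.exists_singer_unitary (p := c) hj hF (m := 3) (by decide)
  obtain ⟨g, hg⟩ := H103.UniBlock.exists_elt (p := c) (c := 1) (d := 4) hF (by norm_num)
    ((finSumFinEquiv (m := 3) (n := 1)).symm) S hS (1 : (Matrix (Fin 1) (Fin 1) F)ˣ)
    (H103.UniBlock.uni_one hF) (one_pow _) (by rw [orderOf_one]; exact Nat.coprime_one_right _)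
  obtain ⟨T, rfl⟩ := QuotientGroup.mk'_surjective _ g
  exact ⟨T, by rw [orderOf_f₁ hF (by norm_num), hg, ho, orderOf_one, mul_one]⟩

/-- a prime divisor of `q ^ 2 - q + 1` -/
theorem exists_s {q : ℕ} (hq : 3 ≤ q) : ∃ s : ℕ, s.Prime ∧ s ≠ 3 ∧ s ≠ 2 ∧ (s : ℤ) ∣ (q : ℤ) ^ 2 - q + 1 := by
  obtain ⟨c, rfl⟩ : ∃ c, q = c + 1 := ⟨q - 1, by omega⟩
  have h0 : (((c + 1 : ℕ) : ℤ) ^ 2 - ((c + 1 : ℕ) : ℤ) + 1) = ((c ^ 2 + c + 1 : ℕ) : ℤ) := by push_cast; ring
  rw [h0]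
  have hodd : (c ^ 2 + c + 1) % 2 = 1 := by
    have h1 : Even (c * (c + 1)) := Nat.even_mul_succ_self c
    obtain ⟨d, hd⟩ := h1
    have h2 : c ^ 2 + c = c * (c + 1) := by ring
    omega
  have h9 : ¬ 9 ∣ c ^ 2 + c + 1 := by
    intro h
    have h1 : (c ^ 2 + c + 1) % 9 = 0 := Nat.mod_eq_zero_of_dvd h
    have h2 : c % 9 = 0 ∨ c % 9 = 1 ∨ c % 9 = 2 ∨ c % 9 = 3 ∨ c % 9 = 4 ∨ c % 9 = 5 ∨ c % 9 = 6 ∨ c % 9 = 7 ∨
        c % 9 = 8 := by omega
    rcases h2 with h2 | h2 | h2 | h2 | h2 | h2 | h2 | h2 | h2 <;> simp [Nat.add_mod, Nat.pow_mod, h2] at h1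
  have hbig : 3 < c ^ 2 + c + 1 := by nlinarith
  by_contra hcon
  push Not at hcon
  have hall : ∀ s : ℕ, s.Prime → s ∣ c ^ 2 + c + 1 → s = 3 := by
    intro s hs hd
    by_contra h3
    have h2 : s ≠ 2 := by
      rintro rfl
      omega
    exact hcon s hs h3 h2 (by exact_mod_cast hd)
  have hpow : c ^ 2 + c + 1 = 3 ^ (c ^ 2 + c + 1).primeFactorsList.length :=
    Nat.eq_prime_pow_of_unique_prime_dvd (by omega) (fun {d} hd hdd => hall d hd hdd)
  have h3 : (c ^ 2 + c + 1).primeFactorsList.length < 2 := by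
    by_contra hlt
    push Not at hlt
    apply h9
    rw [hpow]
    exact (show (9 : ℕ) = 3 ^ 2 by norm_num) ▸ pow_dvd_pow 3 hlt
  interval_cases h4 : (c ^ 2 + c + 1).primeFactorsList.length
  · omega
  · omega

theorem mem_inn_of_det (hF : Fintype.card F = q ^ 2) {A : GU 4 F q} (h : detHom 4 hF A = 1) :
    (f₁ A : MulAut (PSU 4 F q)) ∈ Inn (PSU 4 F q) := (mem_inn_iff hF (by norm_num) A).2 (by rw [h]; exact one_mem _)

/-- **Diagonal automorphisms.** -/
theorem Bd.diag (hp : p.Prime) (hf : 1 ≤ f) (hq : q = p ^ f) (hF : Fintype.card F = q ^ 2) (hq2 : q ≠ 2)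
    {Y : Subgroup (MulAut (PSU 4 F q))} (hY : Bd F q Y) {y : MulAut (PSU 4 F q)} (hy : y ∈ Y)
    (hyD : y ∈ inndiagPSU 4 F q) : y ∈ Inn (PSU 4 F q) := by
  have hq2' : 2 ≤ q := two_le_of_card (card' hF)
  have hfin : Finite (rootsOfUnity (q + 1) F) := inferInstance
  set R : Subgroup (rootsOfUnity (q + 1) F) :=
    (powMonoidHom 4 : rootsOfUnity (q + 1) F →* rootsOfUnity (q + 1) F).range with hR
  set H : Subgroup (rootsOfUnity (q + 1) F) := (Y.comap f₁).map (detHom 4 hF) with hH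
  have hRi : R.index = Nat.gcd 4 (q + 1) := by
    rw [hR, IsCyclic.index_powMonoidHom_range, card_rootsOfUnity_eq hF, Nat.gcd_comm]
  have hRH : R ≤ H := by
    intro z hz
    obtain ⟨A, rfl⟩ := detHom_surjective (by norm_num : 1 ≤ 4) hF z
    exact ⟨A, hY.inn ((mem_inn_iff hF (by norm_num) A).2 hz), rfl⟩
  have hmem : ∀ A : GU 4 F q, detHom 4 hF A ∈ H → f₁ A ∈ Y := by
    rintro A ⟨B, hB, hAB⟩
    have h1 : f₁ (A * B⁻¹) ∈ Y := hY.inn (mem_inn_of_det hF (by rw [map_mul, map_inv, hAB, mul_inv_cancel]))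
    have h2 := Y.mul_mem h1 hB
    rwa [← map_mul, inv_mul_cancel_right] at h2
  have hdvd : H.index ∣ R.index := Subgroup.index_dvd_of_le hRH
  obtain ⟨T, hT⟩ := exists_T hF
  have hTY : f₁ T ^ H.index ∈ Y := by
    rw [← map_pow]
    apply hmem
    rw [map_pow]
    exact Subgroup.pow_index_mem H _
  obtain ⟨g, hg⟩ := hY.ord _ hTY
  have hq1 : q + 1 ∣ q ^ 3 + 1 := by
    have : Odd 3 := by decide
    simpa using this.nat_add_dvd_pow_add_pow q 1
  have hd1 : H.index ∣ q ^ 3 + 1 := hdvd.trans (by rw [hRi]; exact (Nat.gcd_dvd_right _ _).trans hq1)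
  have h0 : H.index ≠ 0 := by
    intro h
    rw [h] at hd1
    have := Nat.eq_zero_of_zero_dvd hd1
    omega
  rw [orderOf_pow' _ h0, hT, Nat.gcd_eq_right hd1] at hg
  obtain ⟨s, hs, hs3, hs2, hsd⟩ := exists_s (q := q) (by omega)
  have hsd3 : s ∣ q ^ 3 + 1 := by
    have : (s : ℤ) ∣ ((q ^ 3 + 1 : ℕ) : ℤ) := by
      have h1 : ((q ^ 3 + 1 : ℕ) : ℤ) = ((q : ℤ) ^ 2 - q + 1) * (q + 1) := by push_cast; ring
      rw [h1]
      exact hsd.mul_right _
    exact_mod_cast this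
  have hs4 : Nat.Coprime s H.index := by
    rw [Nat.Prime.coprime_iff_not_dvd hs]
    intro h
    have h1 : s ∣ 2 ^ 2 := h.trans (hdvd.trans (by rw [hRi]; exact Nat.gcd_dvd_left _ _))
    exact hs2 ((Nat.prime_dvd_prime_iff_eq hs Nat.prime_two).1 (hs.dvd_of_dvd_pow h1))
  have hsg : s ∣ orderOf g := by
    rw [hg]
    have h1 : s ∣ (q ^ 3 + 1) / H.index * H.index := by rwa [Nat.div_mul_cancel hd1]
    exact hs4.dvd_of_dvd_mul_right h1
  have h1 := up_s hp hf hq hF hs hs3 hsd g hsg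
  rw [hg, ← hRi] at h1
  obtain ⟨c, hc⟩ := hd1
  rw [hc, Nat.mul_div_cancel_left _ (Nat.pos_of_ne_zero h0)] at h1
  have hc0 : 0 < c := Nat.pos_of_ne_zero fun h => by rw [h, mul_zero] at hc; omega
  have h2 : R.index ∣ H.index := by
    rw [mul_comm H.index] at h1
    exact Nat.dvd_of_mul_dvd_mul_left hc0 h1
  have h3 : H.index = R.index := Nat.dvd_antisymm hdvd h2
  have h4 := Subgroup.relIndex_mul_index hRH
  rw [h3] at h4
  have h5 : R.index ≠ 0 := h3 ▸ h0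
  have h6 : R.relIndex H = 1 := by
    have : R.relIndex H * R.index = 1 * R.index := by rw [h4, one_mul]
    exact Nat.eq_of_mul_eq_mul_right (Nat.pos_of_ne_zero h5) this
  have h7 : H ≤ R := Subgroup.relIndex_eq_one.1 h6
  rw [inndiag_eq] at hyD
  obtain ⟨A, rfl⟩ := hyD
  exact (mem_inn_iff hF (by norm_num) A).2 (h7 ⟨A, hy, rfl⟩)

end Cfsg.Agent.H405.U4Out
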