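import Cfsg.Agent.H405.U4OutB

/-!
# Overgroups of `Inn(PSU_4(q))` in `Aut(PSU_4(q))` without new element orders (helper405), III

* `sig` : field automorphisms of odd order act trivially on `μ / μ ^ 4`;
* `Bd.field_mem` : `toAut A σ ∈ Y`, `σ` of odd prime order, gives `f₂ σ ∈ Y`;
* `exists_base`, `emb` : `PSU_4(q₀)` in the centralizer of `f₂ σ`;
* `Bd.mul_field` : orders `t m`, `m` an order of an element of `PSU_4(q₀)`, `q = q₀ ^ t`.
-/

set_option autoImplicit false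
set_option linter.unusedSectionVars false

namespace Cfsg.Agent.H405.U4Out

open Cfsg Cfsg.Agent.H169.UAut Cfsg.Agent.H202.Psu Cfsg.Agent.H202.PsuCount
open Cfsg.Agent.H403 Cfsg.Agent.H403.NumTop Cfsg.Agent.H363.L4 Cfsg.Agent.H402.Rec
open Cfsg.Agent.ClassicalGeometry.GUBasic (detHom detHom_surjective card_rootsOfUnity_eq)
open Cfsg.Agent.LieClassical.HermBasic (conj conj_apply)
open Cfsg.Agent.ClassicalGeometry.PSUAutCount (gm toAut eq_of_toAut_eq)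
open Cfsg.Agent.ClassicalGeometry.UnitAutBasic (pr pr_surjective)
open Cfsg.Agent.Schreier.PSU (f₁ f₂ toAut_eq mapGU conj_field f₁_eq_conj)
open Cfsg.Agent.H201.PsuGraph (f₁_eq_one_iff)
open Cfsg.Agent.H201.PsuProj (mk mk_eq_one_iff inc coe_inc mk_inc_eq_iff)

variable {F : Type*} [Field F] [Fintype F] {p f q n : ℕ}

theorem dvd_sub_one {d t : ℕ} (hd : d ∣ 4) (ht : Odd t) {m : ℤ} (h : (d : ℤ) ∣ m ^ t - 1) : (d : ℤ) ∣ m - 1 := by
  obtain ⟨k, rfl⟩ := ht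
  by_cases hm : m % 2 = 0
  · -- `d` is odd, so `d = 1`
    have h2 : ¬ 2 ∣ d := by
      intro h2
      have h3 : (2 : ℤ) ∣ m ^ (2 * k + 1) - 1 := (int_of h2).trans h
      have h4 : (2 : ℤ) ∣ m ^ (2 * k + 1) := Dvd.dvd.pow (Int.dvd_of_emod_eq_zero hm) (by omega)
      have h5 := dvd_sub h4 h3
      rw [sub_sub_cancel] at h5
      omega
    have h3 : d ≤ 4 := Nat.le_of_dvd (by norm_num) hd
    have h4 : d = 1 := by
      interval_cases d
      · omega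
      · rfl
      · omega
      · omega
      · omega
    rw [h4]
    simp
  · have h8 : (4 : ℤ) ∣ m ^ 2 - 1 := by
      obtain ⟨c, hc⟩ : ∃ c, m = 2 * c + 1 := ⟨m / 2, by omega⟩
      exact ⟨c ^ 2 + c, by rw [hc]; ring⟩
    have h9 : (4 : ℤ) ∣ (m ^ 2) ^ k - 1 := h8.trans (sub_one_dvd_pow_sub_one _ _)
    have h10 : (4 : ℤ) ∣ m ^ (2 * k + 1) - m := by
      have : m ^ (2 * k + 1) - m = ((m ^ 2) ^ k - 1) * m := by ring
      rw [this]
      exact h9.mul_right _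
    have h11 : (d : ℤ) ∣ m ^ (2 * k + 1) - m := (int_of hd).trans h10
    have h12 := dvd_sub h h11
    have : m ^ (2 * k + 1) - 1 - (m ^ (2 * k + 1) - m) = m - 1 := by ring
    rwa [this] at h12

/-- field automorphisms of odd order act trivially modulo fourth powers -/
theorem sig (hF : Fintype.card F = q ^ 2) {σ : F ≃+* F} {t : ℕ} (ht : Odd t) (hσ : σ ^ t = 1)
    (z : rootsOfUnity (q + 1) F) : ∃ w : rootsOfUnity (q + 1) F, restrictRootsOfUnity σ (q + 1) z = w ^ 4 * z := by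
  have hfin : Finite (rootsOfUnity (q + 1) F) := inferInstance
  obtain ⟨m, hm⟩ := MonoidHom.map_cyclic (restrictRootsOfUnity σ (q + 1) : rootsOfUnity (q + 1) F →* _)
  have hk : ∀ (k : ℕ) (z : rootsOfUnity (q + 1) F), (((z ^ (m ^ k) : rootsOfUnity (q + 1) F) : Fˣ) : F) =
      (σ ^ k) ((z : Fˣ) : F) := by
    intro k
    induction k with
    | zero => intro z; simp
    | succ k ih =>
      intro z
      rw [pow_succ m, zpow_mul, ← hm, restrictRootsOfUnity_coe_apply, pow_succ' σ, RingAut.mul_apply, ← ih]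
  obtain ⟨z₀, hz₀⟩ := IsCyclic.exists_ofOrder_eq_natCard (α := rootsOfUnity (q + 1) F)
  have h1 : z₀ ^ (m ^ t) = z₀ ^ (1 : ℤ) := by
    apply root_ext
    rw [hk, hσ, zpow_one]
    rfl
  have h2 : ((q + 1 : ℕ) : ℤ) ∣ m ^ t - 1 := by
    rw [← card_rootsOfUnity_eq hF, ← hz₀]
    exact orderOf_dvd_sub_iff_zpow_eq_zpow.2 h1
  have h3 : ((Nat.gcd 4 (q + 1) : ℕ) : ℤ) ∣ m - 1 :=
    dvd_sub_one (Nat.gcd_dvd_left _ _) ht ((int_of (Nat.gcd_dvd_right _ _)).trans h2)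
  obtain ⟨e, he⟩ := h3
  have h4 := Nat.gcd_eq_gcd_ab 4 (q + 1)
  refine ⟨z ^ (Nat.gcdA 4 (q + 1) * e), ?_⟩
  have h5 : z ^ ((q + 1 : ℕ) : ℤ) = 1 := by
    rw [zpow_natCast]
    have := pow_card_eq_one' (x := z)
    rwa [card_rootsOfUnity_eq hF] at this
  rw [hm]
  have h6 : m = (Nat.gcdA 4 (q + 1) * e) * 4 + ((q + 1 : ℕ) : ℤ) * (Nat.gcdB 4 (q + 1) * e) + 1 := by
    have : m = ((Nat.gcd 4 (q + 1) : ℕ) : ℤ) * e + 1 := by rw [← he]; ring
    rw [this, h4]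
    push_cast
    ring
  conv_lhs => rw [h6]
  rw [zpow_add, zpow_add, zpow_mul z ((q + 1 : ℕ) : ℤ), h5, one_zpow, mul_one, zpow_one, zpow_mul]
  rfl

theorem det_mapGU (hF : Fintype.card F = q ^ 2) (σ : F ≃+* F) (A : GU 4 F q) :
    detHom 4 hF (mapGU σ A) = restrictRootsOfUnity σ (q + 1) (detHom 4 hF A) := by
  apply root_ext
  rw [restrictRootsOfUnity_coe_apply, det_gm, CpAutU.Desc.gm_mapGU']
  exact (RingHom.map_det (σ : F →+* F) (gm A)).symm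

/-- `c = f₁ A` and `f₂ σ` commute modulo `Inn` -/
theorem comm_mod (hF : Fintype.card F = q ^ 2) {σ : F ≃+* F} {t : ℕ} (ht : Odd t) (hσ : σ ^ t = 1) (A : GU 4 F q) :
    f₂ σ * f₁ A * (f₂ σ)⁻¹ * (f₁ A)⁻¹ ∈ Inn (PSU 4 F q) := by
  rw [conj_field, ← map_inv, ← map_mul, mem_inn_iff hF (by norm_num), map_mul, map_inv, det_mapGU]
  obtain ⟨w, hw⟩ := sig hF ht hσ (detHom 4 hF A)
  rw [hw]
  exact ⟨w, by rw [powMonoidHom_apply]; group⟩

/-- **The standard field automorphism.** -/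
theorem Bd.field_mem (hp : p.Prime) (hf : 1 ≤ f) (hq : q = p ^ f) (hF : Fintype.card F = q ^ 2) (hq2 : q ≠ 2)
    {Y : Subgroup (MulAut (PSU 4 F q))} (hY : Bd F q Y) {σ : F ≃+* F} {A : GU 4 F q} (hA : toAut A σ ∈ Y) {t : ℕ}
    (ht : Odd t) (hσ : σ ^ t = 1) : f₂ σ ∈ Y := by
  have hN : (Inn (PSU 4 F q)).Normal := inn_normal
  have hcom : Commute (QuotientGroup.mk' (Inn (PSU 4 F q)) (f₁ A)) (QuotientGroup.mk' (Inn (PSU 4 F q)) (f₂ σ)) := by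
    have h1 := (QuotientGroup.eq_one_iff _).2 (comm_mod hF ht hσ A)
    change (QuotientGroup.mk' (Inn (PSU 4 F q))) _ = 1 at h1
    rw [map_mul, map_mul, map_mul, map_inv, map_inv, mul_inv_eq_one, mul_inv_eq_iff_eq_mul] at h1
    exact h1.symm
  have h2 : QuotientGroup.mk' (Inn (PSU 4 F q)) (toAut A σ ^ t) = QuotientGroup.mk' (Inn (PSU 4 F q)) (f₁ A ^ t) := by
    have e1 : (QuotientGroup.mk' (Inn (PSU 4 F q)) (f₂ σ)) ^ t = 1 := by
      rw [← map_pow, ← map_pow f₂, hσ, map_one, map_one]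
    rw [map_pow, toAut_eq, map_mul, hcom.mul_pow, e1, mul_one, ← map_pow]
  have h3 : (toAut A σ ^ t)⁻¹ * f₁ A ^ t ∈ Inn (PSU 4 F q) := by
    rw [← QuotientGroup.eq]
    exact h2
  have hcD : f₁ A ∈ inndiagPSU 4 F q := by rw [inndiag_eq]; exact ⟨A, rfl⟩
  have h4 : toAut A σ ^ t ∈ inndiagPSU 4 F q := by
    have h5 := (inndiagPSU 4 F q).mul_mem (Subgroup.pow_mem _ hcD t) ((inndiagPSU 4 F q).inv_mem (inn_le hF h3))
    rwa [_root_.mul_inv_rev, inv_inv, mul_inv_cancel_left] at h5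
  have h5 : toAut A σ ^ t ∈ Inn (PSU 4 F q) := hY.diag hp hf hq hF hq2 (Subgroup.pow_mem _ hA t) h4
  have h6 : f₁ A ^ t ∈ Inn (PSU 4 F q) := by
    have h7 := (Inn (PSU 4 F q)).mul_mem h5 h3
    rwa [mul_inv_cancel_left] at h7
  have h7 := pow_mem_inn hF (by norm_num) hcD
  have h8 : Nat.Coprime t (Nat.gcd 4 (q + 1)) := by
    have h9 : Nat.Coprime t 4 := by
      have : Nat.Coprime t (2 ^ 2) := Nat.Coprime.pow_right 2 (Nat.coprime_two_right.2 ht)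
      simpa using this
    exact Nat.Coprime.coprime_dvd_right (Nat.gcd_dvd_left _ _) h9
  have h9 : f₁ A ∈ Inn (PSU 4 F q) := by
    have h10 : f₁ A ^ (1 : ℤ) ∈ Inn (PSU 4 F q) := by
      have h11 := Nat.gcd_eq_gcd_ab t (Nat.gcd 4 (q + 1))
      rw [h8.gcd_eq_one] at h11
      rw [show (1 : ℤ) = ((1 : ℕ) : ℤ) from rfl, h11, zpow_add, zpow_mul, zpow_mul, zpow_natCast, zpow_natCast]
      exact mul_mem (zpow_mem h6 _) (zpow_mem h7 _)
    rwa [zpow_one] at h10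
  have h10 := Y.mul_mem (Y.inv_mem (hY.inn h9)) hA
  rwa [toAut_eq, inv_mul_cancel_left] at h10

/-- the fixed field -/
theorem exists_base (hp : p.Prime) (hf : 1 ≤ f) (hq : q = p ^ f) (hF : Fintype.card F = q ^ 2) {σ : F ≃+* F} {t : ℕ}
    (ht : t.Prime) (ht2 : Odd t) (hσ : orderOf σ = t) :
    ∃ f₀ : ℕ, f = f₀ * t ∧ 1 ≤ f₀ ∧ ∃ (F₀ : Type) (_ : Field F₀) (_ : Fintype F₀) (j : F₀ →+* F),
      Fintype.card F₀ = (p ^ f₀) ^ 2 ∧ (∀ a, σ a = a ↔ ∃ b, j b = a) ∧ ∀ a, j a ^ q = j (a ^ p ^ f₀) := by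
  have := Fact.mk hp
  have hrf : t ∣ f := by
    have h1 : Nat.card (F ≃+* F) = 2 * f := Lib.FieldAutCard.card_ringAut (p := p) (by omega)
      (by rw [hF, hq, ← pow_mul, mul_comm])
    have h3 : t ∣ 2 * f := by
      rw [← h1, ← hσ]
      exact orderOf_dvd_natCard σ
    rcases (ht.dvd_mul).1 h3 with h4 | h4
    · exfalso
      have h5 := (Nat.prime_dvd_prime_iff_eq ht Nat.prime_two).1 h4
      rw [h5] at ht2
      exact absurd ht2 (by decide)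
    · exact h4
  obtain ⟨f₀, hf₀⟩ := hrf
  have hf₀1 : 1 ≤ f₀ := Nat.pos_of_ne_zero fun h => by rw [h, mul_zero] at hf₀; omega
  obtain ⟨q₀, hq₀⟩ : ∃ q₀, q₀ = p ^ f₀ := ⟨_, rfl⟩
  have hqq₀ : q = q₀ ^ t := by rw [hq, hq₀, ← pow_mul, hf₀, mul_comm]
  have hfin : Fintype (GaloisField p (2 * f₀)) := Fintype.ofFinite _
  have hF₀' : Fintype.card (GaloisField p (2 * f₀)) = q₀ ^ 2 := by
    rw [← Nat.card_eq_fintype_card, GaloisField.card p _ (by omega), hq₀, ← pow_mul, mul_comm]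
  have hc : Fintype.card F = Fintype.card (GaloisField p (2 * f₀)) ^ t := by
    rw [hF, hF₀', hqq₀, ← pow_mul, ← pow_mul, mul_comm]
  obtain ⟨j, hj⟩ := H202.Descent.exists_hom (F := F) (F₀ := GaloisField p (2 * f₀)) hσ ht.pos (by
    rw [Nat.card_eq_fintype_card, Nat.card_eq_fintype_card, hc])
  refine ⟨f₀, by rw [hf₀, mul_comm], hf₀1, GaloisField p (2 * f₀), inferInstance, hfin, j, by rw [hF₀', hq₀], hj, ?_⟩
  intro a
  rw [← hq₀]
  have h1 : a ^ (q₀ ^ 2) = a := by rw [← hF₀']; exact FiniteField.pow_card a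
  have h2 : ∀ k : ℕ, a ^ ((q₀ ^ 2) ^ k) = a := by
    intro k
    induction k with
    | zero => rw [pow_zero, pow_one]
    | succ k ih => rw [pow_succ, pow_mul, ih, h1]
  rw [← map_pow, hqq₀]
  congr 1
  obtain ⟨k, hk⟩ := ht2
  rw [hk, pow_succ, pow_mul q₀ 2 k, pow_mul a, h2]

/-- `PSU_4(q₀)` in the centralizer of `f₂ σ` -/
theorem emb (hF : Fintype.card F = q ^ 2) {F₀ : Type*} [Field F₀] [Fintype F₀] {q₀ : ℕ}
    (hF₀ : Fintype.card F₀ = q₀ ^ 2) {σ : F ≃+* F} {j : F₀ →+* F} (hj : ∀ a, σ a = a ↔ ∃ b, j b = a)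
    (hjq : ∀ a, j a ^ q = j (a ^ q₀)) (g : PSU 4 F₀ q₀) :
    ∃ y ∈ Inn (PSU 4 F q), orderOf y = orderOf g ∧ f₂ σ * y = y * f₂ σ := by
  obtain ⟨g', rfl⟩ := pr_surjective g
  obtain ⟨B0, hB0, hBm⟩ := ClassicalGeometry.HermOrtho.exists_GU_of_isometry (M := LieClassical.HermSiegel.mat g') hF₀
    (fun u v => LieClassical.HermSiegel.herm_act g' u v)
  have h1 : (f₁ (⟨B0, hB0⟩ : GU 4 F₀ q₀) : MulAut (PSU 4 F₀ q₀)) = MulAut.conj (pr 4 F₀ q₀ g') :=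
    f₁_eq_conj (⟨B0, hB0⟩ : GU 4 F₀ q₀) g' hBm
  have hL : inc j B0 ∈ GU 4 F q := (H202.PsuCent.mem_GU_map_iff hF hF₀ hjq _).1 hB0
  refine ⟨f₁ ⟨inc j B0, hL⟩, ?_, ?_, ?_⟩
  · apply mem_inn_of_det hF
    apply root_ext
    rw [det_gm]
    change ((B0 : Matrix (Fin 4) (Fin 4) F₀).map j).det = 1
    have h2 : ((B0 : Matrix (Fin 4) (Fin 4) F₀).map j).det = j (B0 : Matrix (Fin 4) (Fin 4) F₀).det :=
      (RingHom.map_det j _).symm
    rw [h2, hBm]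
    have h3 : (LieClassical.HermSiegel.mat g').det = 1 := (g' : Matrix.SpecialLinearGroup (Fin 4) F₀).det_coe
    rw [h3, map_one]
  · have hZ := Cfsg.Agent.H292.PsuTwo.center_psu hF₀ (by norm_num : 3 ≤ 4) (by norm_num)
    rw [← orderOf_injective _ (H163.PG.conj_injective hZ) (pr 4 F₀ q₀ g'), ← h1, orderOf_eq_orderOf_iff]
    intro k
    rw [← map_pow, ← map_pow, f₁_eq_one_iff hF (by norm_num), f₁_eq_one_iff hF₀ (by norm_num)]
    have e1 : (((⟨inc j B0, hL⟩ : GU 4 F q) ^ k : GU 4 F q) : GL (Fin 4) F) = inc j (B0 ^ k) := by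
      rw [map_pow]; rfl
    have e2 : (((⟨B0, hB0⟩ : GU 4 F₀ q₀) ^ k : GU 4 F₀ q₀) : GL (Fin 4) F₀) = B0 ^ k := rfl
    rw [e1, e2, ← map_one mk, ← map_one (inc j), mk_inc_eq_iff (by norm_num), mk_eq_one_iff]
    rfl
  · have h2 := conj_field σ (⟨inc j B0, hL⟩ : GU 4 F q)
    have h3 : mapGU σ (⟨inc j B0, hL⟩ : GU 4 F q) = ⟨inc j B0, hL⟩ := by
      apply Subtype.ext
      apply Units.ext
      ext i k
      exact (hj _).2 ⟨_, rfl⟩
    rw [h3, mul_inv_eq_iff_eq_mul] at h2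
    exact h2

theorem orderOf_f₂ (hF : Fintype.card F = q ^ 2) (σ : F ≃+* F) : orderOf (f₂ σ : MulAut (PSU 4 F q)) = orderOf σ := by
  refine orderOf_injective f₂ (fun ρ τ h => ?_) σ
  have h1 : (toAut 1 ρ : MulAut (PSU 4 F q)) = toAut 1 τ := h
  exact (eq_of_toAut_eq hF (by norm_num) h1).1.symm

/-- **New orders from field automorphisms.** -/
theorem Bd.mul_field (hF : Fintype.card F = q ^ 2) {Y : Subgroup (MulAut (PSU 4 F q))} (hY : Bd F q Y)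
    {σ : F ≃+* F} (hσY : f₂ σ ∈ Y) {F₀ : Type*} [Field F₀] [Fintype F₀] {q₀ : ℕ}
    (hF₀ : Fintype.card F₀ = q₀ ^ 2) {j : F₀ →+* F} (hj : ∀ a, σ a = a ↔ ∃ b, j b = a)
    (hjq : ∀ a, j a ^ q = j (a ^ q₀)) (g : PSU 4 F₀ q₀) (hco : Nat.Coprime (orderOf σ) (orderOf g)) :
    ∃ x : PSU 4 F q, orderOf x = orderOf σ * orderOf g := by
  obtain ⟨y, hy, hyo, hc⟩ := emb hF hF₀ hj hjq g
  obtain ⟨x, hx⟩ := hY.ord _ (Y.mul_mem hσY (hY.inn hy))
  refine ⟨x, ?_⟩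
  have hcom : Commute (f₂ σ) y := hc
  rw [hx, hcom.orderOf_mul_eq_mul_orderOf_of_coprime (by rw [orderOf_f₂ hF, hyo]; exact hco), orderOf_f₂ hF, hyo]

end Cfsg.Agent.H405.U4Out
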