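import Cfsg.Agent.H405.U4OutC

/-!
# Elements of `PSU_4(q)`, `q = 3 mod 4`, of order `3 p 2 ^ a` (helper405)

`up_three_p` : there are none if `q = 1 mod 3`, `2 ^ a` is the `2`-part of `q + 1`.
-/

set_option autoImplicit false
set_option linter.unusedSectionVars false

namespace Cfsg.Agent.H405.U4Out

open Cfsg
open Cfsg.Agent.H403 Cfsg.Agent.H403.NumTop Cfsg.Agent.H363.L4 Cfsg.Agent.H402.Rec

variable {F : Type*} [Field F] [Fintype F] {p f q n : ℕ}

theorem shape {E : Type*} [Field E] [DecidableEq E] {R : Multiset E} {x : ℤ} (hR : Cl x R)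
    (hc : Multiset.card R = 4) {y : E} (hy : 2 ≤ R.count y) :
    ∃ z w, R = y ::ₘ y ::ₘ z ::ₘ {w} ∧ ((y ^ x = y ∧ z ^ x = z ∧ w ^ x = w) ∨ (y ^ x = y ∧ z ^ x = w ∧ w ^ x = z) ∨
      (z = y ^ x ∧ w = y ^ x)) := by
  have h1 : Multiset.replicate 2 y ≤ R := Multiset.le_count_iff_replicate_le.1 hy
  obtain ⟨T, hT⟩ := Multiset.le_iff_exists_add.1 h1
  have h2 : Multiset.card T = 2 := by
    have := congrArg Multiset.card hT
    rw [Multiset.card_add, Multiset.card_replicate, hc] at this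
    omega
  obtain ⟨z, w, rfl⟩ := Multiset.card_eq_two.1 h2
  have hR' : R = y ::ₘ y ::ₘ z ::ₘ {w} := by
    rw [hT]
    rfl
  have hmap := hR.map
  rw [hR'] at hmap
  simp only [Multiset.map_cons, Multiset.map_singleton] at hmap
  refine ⟨z, w, hR', ?_⟩
  by_cases hyx : y ^ x = y
  · rw [hyx] at hmap
    rw [Multiset.cons_inj_right, Multiset.cons_inj_right] at hmap
    have hz : z ^ x ∈ z ::ₘ {w} := by
      rw [← hmap]
      exact Multiset.mem_cons_self _ _
    rw [Multiset.mem_cons, Multiset.mem_singleton] at hz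
    rcases hz with hz | hz
    · left
      rw [hz, Multiset.cons_inj_right, Multiset.singleton_inj] at hmap
      exact ⟨hyx, hz, hmap⟩
    · right; left
      rw [hz] at hmap
      have h3 : (w ::ₘ {z} : Multiset E) = z ::ₘ {w} := Multiset.cons_swap w z 0
      rw [← h3, Multiset.cons_inj_right, Multiset.singleton_inj] at hmap
      exact ⟨hyx, hz, hmap⟩
  · right; right
    have h3 := congrArg (Multiset.count (y ^ x)) hmap
    simp only [Multiset.count_cons, Multiset.count_singleton, if_true] at h3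
    rw [if_neg hyx] at h3
    by_cases h4 : y ^ x = z
    · by_cases h5 : y ^ x = w
      · exact ⟨h4.symm, h5.symm⟩
      · rw [if_neg h5] at h3
        split_ifs at h3 <;> omega
    · rw [if_neg h4] at h3
      split_ifs at h3 <;> omega

/-- a common value of the `k`-th powers of the eigenvalues -/
theorem exists_exp {E : Type*} [Field E] [IsAlgClosed E] [Algebra F E] [DecidableEq E] {m : ℕ} (hq : q = 4 * m + 3)
    (hF : Fintype.card F = q ^ 2) {R : Multiset E} (hR : Cl (xv false q) R) (hc : Multiset.card R = 4)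
    (hprod : R.prod = 1) {y : E} (hy : 2 ≤ R.count y) :
    ∃ (k : ℕ) (c : F), (k = q + 1 ∨ k = (4 * m + 2) * (m + 1) ∨ k = 2 * m + 1) ∧ ∀ z ∈ R, z ^ k = algebraMap F E c := by
  obtain ⟨z, w, hR', h⟩ := shape hR hc hy
  have hx : xv false q = -(q : ℤ) := by simp [xv]
  rw [hx] at h
  have hmem : ∀ t ∈ R, t = y ∨ t = z ∨ t = w := by
    intro t ht
    rw [hR'] at ht
    simp only [Multiset.mem_cons, Multiset.mem_singleton] at ht
    tauto
  have hy0 : y ≠ 0 := hR.ne_zero (by rw [hR']; simp)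
  have hz0 : z ≠ 0 := hR.ne_zero (by rw [hR']; simp)
  have hw0 : w ≠ 0 := hR.ne_zero (by rw [hR']; simp)
  have hpr : y * (y * (z * w)) = 1 := by
    rw [hR'] at hprod
    simpa using hprod
  have hfix : ∀ t : E, t ≠ 0 → t ^ (-(q : ℤ)) = t → t ^ (q + 1) = 1 := by
    intro t ht0 ht
    rw [zpow_neg, zpow_natCast] at ht
    rw [pow_succ]
    conv_lhs => rw [← ht]
    rw [inv_pow]
    have : (t ^ q)⁻¹ ^ q * (t ^ q)⁻¹ = ((t ^ q)⁻¹) ^ (q + 1) := (pow_succ _ _).symm
    rw [ht, inv_mul_eq_one₀ (pow_ne_zero _ (pow_ne_zero _ ht0))]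
    have h1 : t ^ q * t = 1 := by
      nth_rewrite 2 [← ht]
      exact mul_inv_cancel₀ (pow_ne_zero _ ht0)
    have h2 : t ^ q = t⁻¹ := eq_inv_of_mul_eq_one_left h1
    rw [h2, inv_pow, h2, inv_inv]
  rcases h with ⟨h1, h2, h3⟩ | ⟨h1, h2, h3⟩ | ⟨h1, h2⟩
  · refine ⟨q + 1, 1, Or.inl rfl, ?_⟩
    intro t ht
    rw [map_one]
    rcases hmem t ht with rfl | rfl | rfl
    · exact hfix _ hy0 h1
    · exact hfix _ hz0 h2
    · exact hfix _ hw0 h3
  · have hy1 := hfix y hy0 h1
    rw [hq] at hy1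
    have hw : w = (z ^ q)⁻¹ := by rw [← h2, zpow_neg, zpow_natCast]
    have hz2 : z ^ (4 * m + 2) = y ^ 2 := by
      have h4 : z ^ q = z ^ (4 * m + 2) * z := by rw [hq, ← pow_succ]
      have h5 : z ^ (4 * m + 2) * z * (z ^ q)⁻¹ = 1 := by
        rw [← h4]
        exact mul_inv_cancel₀ (pow_ne_zero _ hz0)
      rw [hw] at hpr
      have h6 : (z ^ (4 * m + 2) - y ^ 2) * (z * (z ^ q)⁻¹) = 0 := by linear_combination h5 - hpr
      rcases mul_eq_zero.1 h6 with h7 | h7
      · exact sub_eq_zero.1 h7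
      · exact absurd h7 (mul_ne_zero hz0 (inv_ne_zero (pow_ne_zero _ hz0)))
    obtain ⟨ε, hε⟩ : ∃ ε, ε = y ^ (2 * (m + 1)) := ⟨_, rfl⟩
    have hε2 : ε ^ 2 = 1 := by
      rw [hε, ← pow_mul, show 2 * (m + 1) * 2 = 4 * m + 3 + 1 by ring, hy1]
    have hεo : ∀ i, ε ^ (2 * i + 1) = ε := by
      intro i
      rw [pow_succ, pow_mul, hε2, one_pow, one_mul]
    have hyk : y ^ ((4 * m + 2) * (m + 1)) = ε := by
      rw [show (4 * m + 2) * (m + 1) = 2 * (m + 1) * (2 * m + 1) by ring, pow_mul, ← hε, hεo]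
    have hzk : z ^ ((4 * m + 2) * (m + 1)) = ε := by
      rw [pow_mul, hz2, ← pow_mul, hε]
    have hwk : w ^ ((4 * m + 2) * (m + 1)) = ε := by
      rw [hw, inv_pow, ← pow_mul, mul_comm q, pow_mul, hzk, hq, show 4 * m + 3 = 2 * (2 * m + 1) + 1 by ring, hεo]
      apply inv_eq_of_mul_eq_one_right
      rw [← pow_two, hε2]
    have hc : ∃ c : F, algebraMap F E c = ε := by
      have h4 : (ε - 1) * (ε + 1) = 0 := by linear_combination hε2
      rcases mul_eq_zero.1 h4 with h5 | h5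
      · exact ⟨1, by rw [map_one]; linear_combination -h5⟩
      · exact ⟨-1, by rw [map_neg, map_one]; linear_combination -h5⟩
    obtain ⟨c, hc⟩ := hc
    refine ⟨_, c, Or.inr (Or.inl rfl), ?_⟩
    intro t ht
    rw [hc]
    rcases hmem t ht with rfl | rfl | rfl
    · exact hyk
    · exact hzk
    · exact hwk
  · have hz : z = (y ^ q)⁻¹ := by rw [h1, zpow_neg, zpow_natCast]
    have hw : w = (y ^ q)⁻¹ := by rw [h2, zpow_neg, zpow_natCast]
    have hy1 : y ^ (2 * (4 * m + 2)) = 1 := by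
      have h4 : y ^ q = y ^ (4 * m + 2) * y := by rw [hq, ← pow_succ]
      have h5 : (y ^ q)⁻¹ * y * y ^ (4 * m + 2) = 1 := by
        have : (y ^ q)⁻¹ * (y ^ (4 * m + 2) * y) = 1 := by
          rw [← h4]
          exact inv_mul_cancel₀ (pow_ne_zero _ hy0)
        linear_combination this
      rw [hz, hw] at hpr
      have h6 : ((y ^ q)⁻¹ * y) ^ 2 = 1 := by linear_combination hpr
      have h7 : ((y ^ q)⁻¹ * y * y ^ (4 * m + 2)) ^ 2 = 1 := by rw [h5, one_pow]
      rw [mul_pow, h6, one_mul, ← pow_mul, mul_comm (4 * m + 2)] at h7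
      exact h7
    have hk1 : (y ^ (2 * m + 1)) ^ (q + 1) = 1 := by
      rw [← pow_mul, hq, show (2 * m + 1) * (4 * m + 3 + 1) = 2 * (4 * m + 2) * (m + 1) by ring, pow_mul, hy1, one_pow]
    have hk0 : y ^ (2 * m + 1) ≠ 0 := pow_ne_zero _ hy0
    have hzk : ((y ^ q)⁻¹) ^ (2 * m + 1) = y ^ (2 * m + 1) := by
      rw [inv_pow, ← pow_mul, mul_comm q, pow_mul]
      apply inv_eq_of_mul_eq_one_right
      rw [← pow_succ, hk1]
    obtain ⟨c, hc⟩ := mem_range_of_fix (e := false) (F := F) (q := q) hF hk0 (by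
      rw [hx, zpow_neg, zpow_natCast]
      apply inv_eq_of_mul_eq_one_right
      rw [← pow_succ, hk1])
    refine ⟨_, c, Or.inr (Or.inr rfl), ?_⟩
    intro t ht
    rw [hc]
    rcases hmem t ht with rfl | rfl | rfl
    · rfl
    · rw [hz]; exact hzk
    · rw [hw]; exact hzk

/-- **No elements of order `3 p 2 ^ a`.** -/
theorem up_three_p (hp : p.Prime) (hp5 : 5 ≤ p) (hf : 1 ≤ f) (hq : q = p ^ f) (hF : Fintype.card F = q ^ 2)
    (hq4 : q % 4 = 3) (hq3 : q % 3 = 1) {a : ℕ} (ha : 2 ^ a ∣ q + 1) (ha' : ¬ 2 ^ (a + 1) ∣ q + 1) (g : PSU 4 F q)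
    (hg : orderOf g = 3 * (p * 2 ^ a)) : False := by
  classical
  have hL := isL.lin (F := F) (q := q) (E := AlgebraicClosure F) (card' hF) (by norm_num)
  have hch : CharP F p := H402.Uni.charP_of (t := 1) hF hp hq hf
  have hpq : p ∣ q := by rw [hq]; exact dvd_pow_self p (by omega)
  have hq0 : 1 ≤ q := by omega
  obtain ⟨m, hm⟩ : ∃ m, q = 4 * m + 3 := ⟨q / 4, by omega⟩
  have hpg : p ∣ orderOf g := by rw [hg]; exact ⟨3 * 2 ^ a, by ring⟩
  have hp1 : ¬ p ∣ 1 := fun h => hp.one_lt.ne' (Nat.dvd_one.1 h)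
  have hpq2 : ∀ i, ¬ i = 0 → ¬ p ∣ q ^ i + 1 := fun i hi h =>
    hp1 ((Nat.dvd_add_right (hpq.trans (dvd_pow_self q hi))).1 h)
  have hpm : ¬ p ∣ q - 1 := fun h => hp1 (by
    have := Nat.dvd_sub hpq h
    rwa [Nat.sub_sub_self hq0] at this)
  rcases spec_gen hL (card' hF) g with h | h | ⟨M, hdet, hM, hMk, hy⟩
  · have h1 : p ∣ q ^ 3 + 1 := hpg.trans ((dvd_mul_right _ _).trans h)
    exact hpq2 3 (by norm_num) h1
  · have h1 : p ∣ (q ^ 2 + 1) * (q - 1) := hpg.trans ((dvd_mul_right _ _).trans h)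
    rcases hp.dvd_mul.1 h1 with h2 | h2
    · exact hpq2 2 (by norm_num) h2
    · exact hpm h2
  · have hcard : Multiset.card (evs (AlgebraicClosure F) M) = 4 := by rw [card_evs, Fintype.card_fin]
    have hq2 : 0 < q ^ 2 - 1 := by
      have : 2 ^ 2 ≤ q ^ 2 := Nat.pow_le_pow_left (by omega) 2
      omega
    have h3 : ∀ z ∈ evs (AlgebraicClosure F) M, (evs (AlgebraicClosure F) M).count z ≤ p ^ 1 := by
      intro z _
      have := four_spec_card (E := AlgebraicClosure F) M z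
      rw [pow_one]
      omega
    by_cases hnd : ∀ y ∈ evs (AlgebraicClosure F) M, (evs (AlgebraicClosure F) M).count y ≤ p ^ 0
    · -- semisimple
      have h1 := pow_of_count (E := AlgebraicClosure F) (M := M) hp (k := q ^ 2 - 1) (a := 0) (c := 1) hq2
        (fun y h => by rw [hy y h, map_one]) hnd
      have h2 : orderOf g ∣ (q ^ 2 - 1) * p ^ 0 := orderOf_dvd_of_pow_eq_one ((hMk _).2 ⟨_, h1⟩)
      rw [pow_zero, mul_one] at h2
      have h4 := hpg.trans h2
      have h5 := Nat.dvd_sub (hpq.trans (dvd_pow_self q two_ne_zero)) h4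
      rw [Nat.sub_sub_self (by omega)] at h5
      exact hp1 h5
    · push Not at hnd
      obtain ⟨y, hyM, hy2⟩ := hnd
      rw [pow_zero] at hy2
      obtain ⟨k, c, hk, hkc⟩ := exists_exp (F := F) hm hF hM hcard (by rw [prod_evs, hdet, map_one]) (y := y) (by omega)
      have hk0 : 0 < k := by
        rcases hk with rfl | rfl | rfl
        · omega
        · exact Nat.mul_pos (by omega) (by omega)
        · omega
      have h1 := pow_of_count (E := AlgebraicClosure F) (M := M) hp (k := k) (a := 1) (c := c) hk0 hkc h3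
      have h2 : orderOf g ∣ k * p ^ 1 := orderOf_dvd_of_pow_eq_one ((hMk _).2 ⟨_, h1⟩)
      rw [hg, pow_one] at h2
      have h4 : 3 * 2 ^ a ∣ k := by
        have h5 : p * (3 * 2 ^ a) ∣ p * k := by
          rw [mul_comm p k, show p * (3 * 2 ^ a) = 3 * (p * 2 ^ a) by ring]
          exact h2
        exact Nat.dvd_of_mul_dvd_mul_left hp.pos h5
      have h5 : 3 ∣ k := (dvd_mul_right _ _).trans h4
      have h6 : 2 ^ a ∣ k := (dvd_mul_left _ _).trans h4
      rcases hk with rfl | rfl | rfl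
      · omega
      · have h7 : Nat.Coprime (2 ^ a) (2 * m + 1) := by
          apply Nat.Coprime.pow_left
          rw [Nat.coprime_two_left]
          exact ⟨m, rfl⟩
        have h8 : 2 ^ a ∣ 2 * (m + 1) := by
          rw [show (4 * m + 2) * (m + 1) = 2 * (m + 1) * (2 * m + 1) by ring] at h6
          exact h7.dvd_of_dvd_mul_right h6
        apply ha'
        rw [pow_succ, hm, show 4 * m + 3 + 1 = 2 * (m + 1) * 2 by ring]
        exact Nat.mul_dvd_mul_right h8 2
      · have h7 : a ≠ 0 := by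
          rintro rfl
          apply ha'
          rw [hm]
          norm_num
          omega
        have h8 : 2 ∣ 2 * m + 1 := (dvd_pow_self 2 h7).trans h6
        omega

end Cfsg.Agent.H405.U4Out
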