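import Cfsg.Agent.H405.U4OutD

/-!
# Overgroups of `Inn(PSU_4(q))` in `Aut(PSU_4(q))` without new element orders (helper405), IV

`Bd.no_field` : there are no elements of `Y` inducing a field automorphism of odd prime order.
-/

set_option autoImplicit false
set_option linter.unusedSectionVars false

namespace Cfsg.Agent.H405.U4Out

open Cfsg Cfsg.Agent.H169.UAut Cfsg.Agent.H202.Psu Cfsg.Agent.H202.PsuCount
open Cfsg.Agent.H403 Cfsg.Agent.H403.NumTop Cfsg.Agent.H363.L4 Cfsg.Agent.H402.Rec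
open Cfsg.Agent.ClassicalGeometry.PSUAutCount (gm toAut eq_of_toAut_eq)
open Cfsg.Agent.Schreier.PSU (f₁ f₂ toAut_eq mapGU conj_field f₁_eq_conj)

variable {F : Type*} [Field F] [Fintype F] {p f q n : ℕ}

/-- an odd prime divisor of `q ^ 2 + 1` -/
theorem exists_r {q : ℕ} (hq : 2 ≤ q) : ∃ r : ℕ, r.Prime ∧ r ≠ 2 ∧ r ∣ q ^ 2 + 1 := by
  by_contra hcon
  push Not at hcon
  have hall : ∀ s : ℕ, s.Prime → s ∣ q ^ 2 + 1 → s = 2 := by
    intro s hs hd
    by_contra h2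
    exact hcon s hs h2 hd
  have hpow : q ^ 2 + 1 = 2 ^ (q ^ 2 + 1).primeFactorsList.length :=
    Nat.eq_prime_pow_of_unique_prime_dvd (by omega) (fun {d} hd hdd => hall d hd hdd)
  have hbig : 2 ^ 2 ≤ q ^ 2 := Nat.pow_le_pow_left hq 2
  have h3 : (q ^ 2 + 1).primeFactorsList.length < 2 := by
    by_contra hlt
    push Not at hlt
    have h4 : 4 ∣ q ^ 2 + 1 := by
      rw [hpow]
      exact (show (4 : ℕ) = 2 ^ 2 by norm_num) ▸ pow_dvd_pow 2 hlt
    have h5 : q % 4 = 0 ∨ q % 4 = 1 ∨ q % 4 = 2 ∨ q % 4 = 3 := by omega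
    have h6 : (q ^ 2 + 1) % 4 = 0 := Nat.mod_eq_zero_of_dvd h4
    rcases h5 with h5 | h5 | h5 | h5 <;> simp [Nat.add_mod, Nat.pow_mod, h5] at h6
  interval_cases h4 : (q ^ 2 + 1).primeFactorsList.length
  · omega
  · omega

/-- odd powers -/
theorem dvd_pow_add {r t : ℕ} (ht : Odd t) {q : ℕ} (h : r ∣ q ^ 2 + 1) : r ∣ (q ^ t) ^ 2 + 1 := by
  have h1 := Odd.nat_add_dvd_pow_add_pow (q ^ 2) 1 ht
  rw [one_pow, ← pow_mul, mul_comm 2 t, pow_mul] at h1
  exact h.trans h1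

theorem dvd_six {s t : ℕ} (ht : t % 6 = 1 ∨ t % 6 = 5) {q : ℕ} (h : (s : ℤ) ∣ (q : ℤ) ^ 2 - q + 1) :
    (s : ℤ) ∣ ((q ^ t : ℕ) : ℤ) ^ 2 - ((q ^ t : ℕ) : ℤ) + 1 := by
  have h0 : ((((q : ℤ) ^ 2 - q + 1 : ℤ)) : ZMod s) = 0 := (ZMod.intCast_zmod_eq_zero_iff_dvd _ s).2 h
  rw [← ZMod.intCast_zmod_eq_zero_iff_dvd]
  push_cast at h0 ⊢
  generalize (q : ZMod s) = x at h0 ⊢
  have h3 : x ^ 3 = -1 := by linear_combination (x + 1) * h0
  have h6 : x ^ 6 = 1 := by
    have : x ^ 6 = (x ^ 3) ^ 2 := by ring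
    rw [this, h3]; ring
  have key : ∀ k : ℕ, x ^ (6 * k) = 1 := by
    intro k
    rw [pow_mul, h6, one_pow]
  rcases ht with ht | ht
  · obtain ⟨k, rfl⟩ : ∃ k, t = 6 * k + 1 := ⟨t / 6, by omega⟩
    rw [pow_succ x, key, one_mul]
    exact h0
  · obtain ⟨k, rfl⟩ : ∃ k, t = 6 * k + 5 := ⟨t / 6, by omega⟩
    rw [pow_add x, key, one_mul]
    have h5 : x ^ 5 = 1 - x := by
      have : x ^ 5 = x ^ 3 * x ^ 2 := by ring
      rw [this, h3]
      linear_combination (-1) * h0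
    rw [h5]
    linear_combination h0

theorem coprime_r {r q : ℕ} (hr : r.Prime) (hr2 : r ≠ 2) (h : r ∣ q ^ 2 + 1) : Nat.Coprime r (q + 1) := by
  rw [Nat.Prime.coprime_iff_not_dvd hr]
  intro h1
  apply hr2
  have h2 : (r : ℤ) ∣ 2 := by
    have e : (2 : ℤ) = ((q ^ 2 + 1 : ℕ) : ℤ) - ((q + 1 : ℕ) : ℤ) * (q - 1) := by push_cast; ring
    rw [e]
    exact dvd_sub (int_of h) ((int_of h1).mul_right _)
  exact (Nat.prime_dvd_prime_iff_eq hr Nat.prime_two).1 (by exact_mod_cast h2)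

theorem coprime_s {s q : ℕ} (hs : s.Prime) (hs3 : s ≠ 3) (h : (s : ℤ) ∣ (q : ℤ) ^ 2 - q + 1) : Nat.Coprime s (q + 1) := by
  rw [Nat.Prime.coprime_iff_not_dvd hs]
  intro h1
  apply hs3
  have h2 : (s : ℤ) ∣ 3 := by
    have e : (3 : ℤ) = ((q : ℤ) ^ 2 - q + 1) - ((q + 1 : ℕ) : ℤ) * (q - 2) := by push_cast; ring
    rw [e]
    exact dvd_sub h ((int_of h1).mul_right _)
  exact (Nat.prime_dvd_prime_iff_eq hs Nat.prime_three).1 (by exact_mod_cast h2)

theorem exists_elt_r (hF : Fintype.card F = q ^ 2) {r : ℕ} (hr : r.Prime) (hr2 : r ≠ 2) (h : r ∣ q ^ 2 + 1) :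
    ∃ g : PSU 4 F q, orderOf g = r := by
  have hq2 : 2 ≤ q := two_le_of_card (card' hF)
  refine isL.exists_tor_le (card' hF) (by norm_num) (i := 4) (by norm_num) le_rfl hr.pos ?_ ?_
  · have : AA false 1 q = q + 1 := by simp [AA]
    rw [this]
    exact coprime_r hr hr2 h
  · have e1 : AA false 4 q = (q ^ 2 + 1) * (q ^ 2 - 1) := by
      have := Nat.sq_sub_sq (q ^ 2) 1
      rw [one_pow, ← pow_mul] at this
      simpa [AA] using this
    rw [e1]
    exact h.mul_right _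

theorem exists_elt_s (hF : Fintype.card F = q ^ 2) {s : ℕ} (hs : s.Prime) (hs3 : s ≠ 3)
    (h : (s : ℤ) ∣ (q : ℤ) ^ 2 - q + 1) : ∃ g : PSU 4 F q, orderOf g = s := by
  refine isL.exists_tor_le (card' hF) (by norm_num) (i := 3) (by norm_num) (by norm_num) hs.pos ?_ ?_
  · have : AA false 1 q = q + 1 := by simp [AA]
    rw [this]
    exact coprime_s hs hs3 h
  · have e1 : AA false 3 q = q ^ 3 + 1 := by simp [AA]
    rw [e1]
    have : (s : ℤ) ∣ ((q ^ 3 + 1 : ℕ) : ℤ) := by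
      have h1 : ((q ^ 3 + 1 : ℕ) : ℤ) = ((q : ℤ) ^ 2 - q + 1) * (q + 1) := by push_cast; ring
      rw [h1]
      exact h.mul_right _
    exact_mod_cast this

theorem not_dvd_two {t : ℕ} (ht : t.Prime) (ht2 : t ≠ 2) [Fact t.Prime] : (2 : ZMod t) ≠ 0 := by
  intro h
  have h1 : ((2 : ℕ) : ZMod t) = 0 := by exact_mod_cast h
  rw [ZMod.natCast_eq_zero_iff] at h1
  exact ht2 ((Nat.prime_dvd_prime_iff_eq ht Nat.prime_two).1 h1)

/-- **No field automorphisms of odd prime order.** -/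
theorem Bd.no_field (hp : p.Prime) (hf : 1 ≤ f) (hq : q = p ^ f) (hF : Fintype.card F = q ^ 2) (hq2 : q ≠ 2)
    (hcase : p = 2 ∨ p = 3 ∨ q % 4 = 3) {Y : Subgroup (MulAut (PSU 4 F q))} (hY : Bd F q Y) {σ : F ≃+* F}
    {A : GU 4 F q} (hA : toAut A σ ∈ Y) {t : ℕ} (ht : t.Prime) (ht2 : t ≠ 2) (hσ : orderOf σ = t) : False := by
  have hto := ht.odd_of_ne_two ht2
  have hσt : σ ^ t = 1 := by rw [← hσ, pow_orderOf_eq_one]
  have hσY := hY.field_mem hp hf hq hF hq2 hA hto hσt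
  obtain ⟨f₀, hff, hf₀, F₀, _, _, j, hF₀, hj, hjq⟩ := exists_base hp hf hq hF ht hto hσ
  obtain ⟨q₀, hq₀⟩ : ∃ q₀, q₀ = p ^ f₀ := ⟨_, rfl⟩
  rw [← hq₀] at hF₀ hjq
  have hqq : q = q₀ ^ t := by rw [hq, hq₀, ← pow_mul, hff]
  have hq₀2 : 2 ≤ q₀ := two_le_of_card (card' hF₀)
  have hq1 : 1 ≤ q := by rw [hqq]; exact Nat.one_le_pow _ _ (by omega)
  have key : ∀ g : PSU 4 F₀ q₀, Nat.Coprime t (orderOf g) → ∃ x : PSU 4 F q, orderOf x = t * orderOf g := by
    intro g hg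
    have := hY.mul_field hF hσY hF₀ hj hjq g (by rwa [hσ])
    rwa [hσ] at this
  have htF : Fact t.Prime := ⟨ht⟩
  have h2t := not_dvd_two ht ht2
  have hz : (q : ZMod t) = (q₀ : ZMod t) := by rw [hqq, Nat.cast_pow, ZMod.pow_card]
  obtain ⟨r, hr, hr2, hrd⟩ := exists_r hq₀2
  have T1 : r ≠ t → ((q₀ : ZMod t) ^ 2 + 1) * ((q₀ : ZMod t) - 1) = 0 := by
    intro hrt
    obtain ⟨g, hg⟩ := exists_elt_r hF₀ hr hr2 hrd
    obtain ⟨x, hx⟩ := key g (by rw [hg]; exact (Nat.coprime_primes ht hr).2 hrt.symm)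
    have hrd' : r ∣ q ^ 2 + 1 := by rw [hqq]; exact dvd_pow_add hto hrd
    have h1 := up_r hp hf hq hF hr hr2 hrd' x (by rw [hx, hg]; exact dvd_mul_left _ _)
    have h2 : t ∣ (q ^ 2 + 1) * (q - 1) := ((dvd_mul_right t r).trans (by rw [hx, hg]; exact dvd_mul_right _ _)).trans h1
    rw [← ZMod.natCast_eq_zero_iff] at h2
    rw [← hz]
    push_cast [hq1] at h2
    exact h2
  by_cases hp2 : p = 2
  · subst hp2
    -- order `4 t`
    obtain ⟨g, hg⟩ := H402.Uni.exists_pow (isL (F := F₀) (q := q₀)) (card' hF₀) (by norm_num) (a := 2)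
      Nat.prime_two hq₀ hf₀ (by norm_num) (by norm_num)
    have hg4 : orderOf g = 4 := by rw [hg]; norm_num
    obtain ⟨x, hx⟩ := key g (by
      rw [hg]
      exact Nat.Coprime.pow_right 2 (Nat.coprime_two_right.2 hto))
    have h1 : t ∣ q + 1 := up_four hf hq hF ⟨x, by rw [hx, hg4, mul_comm]⟩
    rw [← ZMod.natCast_eq_zero_iff] at h1
    push_cast at h1
    rw [hz] at h1
    have hrt : r ≠ t := by
      rintro rfl
      rw [← ZMod.natCast_eq_zero_iff] at hrd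
      push_cast at hrd
      apply h2t
      linear_combination hrd - ((q₀ : ZMod r) - 1) * h1
    have h3 := T1 hrt
    have h4 : (2 : ZMod t) * 2 = 0 := by
      linear_combination (-1) * h3 + ((q₀ : ZMod t) ^ 2 - 2 * (q₀ : ZMod t) + 3) * h1
    rcases mul_eq_zero.1 h4 with h5 | h5
    · exact h2t h5
    · exact h2t h5
  -- odd characteristic
  have hpo := hp.odd_of_ne_two hp2
  have hq₀o : Odd q₀ := by rw [hq₀]; exact hpo.pow
  have hq₀3 : 3 ≤ q₀ := by
    obtain ⟨c, hc⟩ := hq₀o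
    omega
  by_cases ht3 : t = 3
  · subst ht3
    have hr3 : r ≠ 3 := by
      rintro rfl
      have h5 : q₀ % 3 = 0 ∨ q₀ % 3 = 1 ∨ q₀ % 3 = 2 := by omega
      have h6 : (q₀ ^ 2 + 1) % 3 = 0 := Nat.mod_eq_zero_of_dvd hrd
      rcases h5 with h5 | h5 | h5 <;> simp [Nat.add_mod, Nat.pow_mod, h5] at h6
    have h1 := T1 hr3
    rw [← hz] at h1
    have hq3 : q % 3 = 1 := by
      have h2 : (((q ^ 2 + 1) * (q - 1) : ℕ) : ZMod 3) = 0 := by
        push_cast [hq1]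
        exact h1
      rw [ZMod.natCast_eq_zero_iff] at h2
      have h3 := (Nat.prime_three.dvd_mul).1 h2
      rcases h3 with h3 | h3
      · exfalso
        have h5 : q % 3 = 0 ∨ q % 3 = 1 ∨ q % 3 = 2 := by omega
        have h6 : (q ^ 2 + 1) % 3 = 0 := Nat.mod_eq_zero_of_dvd h3
        rcases h5 with h5 | h5 | h5 <;> simp [Nat.add_mod, Nat.pow_mod, h5] at h6
      · omega
    have hp3 : p ≠ 3 := by
      rintro rfl
      have : 3 ∣ q := by rw [hq]; exact dvd_pow_self 3 (by omega)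
      omega
    have hp5 : 5 ≤ p := by
      have := hp.two_le
      have h4 : p ≠ 4 := by
        rintro rfl
        revert hp
        decide
      omega
    have hq4 : q % 4 = 3 := by
      rcases hcase with h | h | h
      · exact absurd h hp2
      · exact absurd h hp3
      · exact h
    obtain ⟨a, m, hm, ham⟩ := Nat.exists_eq_two_pow_mul_odd (n := q + 1) (by omega)
    have ha : 2 ^ a ∣ q + 1 := ⟨m, ham⟩
    have ha' : ¬ 2 ^ (a + 1) ∣ q + 1 := by
      rintro ⟨c, hc⟩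
      rw [ham, pow_succ, mul_assoc] at hc
      have h2 := Nat.eq_of_mul_eq_mul_left (by positivity) hc
      obtain ⟨d, hd⟩ := hm
      omega
    -- `2 ^ a` divides `q₀ + 1`
    have ha0 : 2 ^ a ∣ q₀ + 1 := by
      obtain ⟨c, hc⟩ : ∃ c, q₀ = c + 1 := ⟨q₀ - 1, by omega⟩
      have h2 : q + 1 = (q₀ + 1) * (c ^ 2 + c + 1) := by rw [hqq, hc]; ring
      rw [h2] at ha
      have hodd : Odd (c ^ 2 + c + 1) := by
        have h3 : Even (c * (c + 1)) := Nat.even_mul_succ_self c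
        have h4 : c ^ 2 + c = c * (c + 1) := by ring
        rw [h4]
        exact h3.add_one
      have h3 : Nat.Coprime (2 ^ a) (c ^ 2 + c + 1) := Nat.Coprime.pow_left a (Nat.coprime_two_left.2 hodd)
      exact h3.dvd_of_dvd_mul_right ha
    have hch : CharP F₀ p := H402.Uni.charP_of (t := 1) hF₀ hp hq₀ hf₀
    have hpF := Fact.mk hp
    obtain ⟨g, hg⟩ := H72.AdjPSU.exists_order_of_blocks (n := 4) hF₀ (by norm_num)
      (H72.AdjPSU.hasBlock_char hF₀ p) (H72.AdjPSU.hasBlock_two hF₀ ha0) (by norm_num) (by norm_num) (by norm_num)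
      (Nat.Coprime.pow_right a (Nat.coprime_two_right.2 hpo)) _ dvd_rfl
    obtain ⟨x, hx⟩ := key g (by
      rw [hg]
      exact Nat.Coprime.mul_right ((Nat.coprime_primes Nat.prime_three hp).2 hp3.symm)
        (Nat.Coprime.pow_right a (by decide)))
    rw [hg] at hx
    exact up_three_p hp hp5 hf hq hF hq4 hq3 ha ha' x hx
  · -- `t ≠ 3`
    have ht6 : t % 6 = 1 ∨ t % 6 = 5 := by
      have h1 : ¬ 2 ∣ t := fun h => ht2 ((Nat.prime_dvd_prime_iff_eq Nat.prime_two ht).1 h).symm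
      have h2 : ¬ 3 ∣ t := fun h => ht3 ((Nat.prime_dvd_prime_iff_eq Nat.prime_three ht).1 h).symm
      omega
    obtain ⟨s, hs, hs3, hs2, hsd⟩ := exists_s hq₀3
    have T2 : s ≠ t → (q₀ : ZMod t) ^ 3 + 1 = 0 := by
      intro hst
      obtain ⟨g, hg⟩ := exists_elt_s hF₀ hs hs3 hsd
      obtain ⟨x, hx⟩ := key g (by rw [hg]; exact (Nat.coprime_primes ht hs).2 hst.symm)
      have hsd' : (s : ℤ) ∣ (q : ℤ) ^ 2 - q + 1 := by rw [hqq]; exact dvd_six ht6 hsd
      have h1 := up_s hp hf hq hF hs hs3 hsd' x (by rw [hx, hg]; exact dvd_mul_left _ _)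
      have h2 : t ∣ q ^ 3 + 1 := ((dvd_mul_right t s).trans (by rw [hx, hg]; exact dvd_mul_right _ _)).trans h1
      rw [← ZMod.natCast_eq_zero_iff] at h2
      rw [← hz]
      push_cast at h2
      exact h2
    have hunit : ∀ x : ZMod t, x ^ 3 + 1 = 0 → (x ^ 2 + 1) * (x - 1) = 0 → False := by
      intro x h1 h2
      rcases mul_eq_zero.1 h2 with h3 | h3
      · -- `x ^ 2 = -1`, `x = 1`
        have h4 : x = 1 := by linear_combination x * h3 - h1
        rw [h4] at h3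
        apply h2t
        linear_combination h3
      · have h4 : x = 1 := by linear_combination h3
        rw [h4] at h1
        apply h2t
        linear_combination h1
    by_cases hrt : r = t
    · subst hrt
      have hrd' : (q₀ : ZMod r) ^ 2 + 1 = 0 := by
        rw [← ZMod.natCast_eq_zero_iff] at hrd
        push_cast at hrd
        exact hrd
      have hsr : s ≠ r := by
        rintro rfl
        have h1 : ((((q₀ : ℤ) ^ 2 - q₀ + 1 : ℤ)) : ZMod s) = 0 := (ZMod.intCast_zmod_eq_zero_iff_dvd _ s).2 hsd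
        push_cast at h1
        have h2 : (q₀ : ZMod s) = 0 := by linear_combination hrd' - h1
        rw [h2] at hrd'
        norm_num at hrd'
      refine hunit _ (T2 hsr) ?_
      rw [hrd', zero_mul]
    · by_cases hst : s = t
      · subst hst
        have h1 : ((((q₀ : ℤ) ^ 2 - q₀ + 1 : ℤ)) : ZMod s) = 0 := (ZMod.intCast_zmod_eq_zero_iff_dvd _ s).2 hsd
        push_cast at h1
        refine hunit _ ?_ (T1 hrt)
        linear_combination ((q₀ : ZMod s) + 1) * h1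
      · exact hunit _ (T2 hst) (T1 hrt)

end Cfsg.Agent.H405.U4Out
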