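import Cfsg.Agent.H405.U4OutF
import Cfsg.Agent.H999.PslGraphClasses
import Cfsg.Agent.S0288

/-!
# Overgroups of `Inn(PSU_4(q))` in `Aut(PSU_4(q))` without new element orders (helper405), VI

* `Bd.map`, `Bd.move`, `exists_ratio` : moving a graph automorphism in `Y`;
* `exists_symp`, `exists_minus` : isometries of order `r`, `r ∣ q ^ 2 + 1`;
* `Bd.no_graph_four`, `Bd.no_graph_two` : no graph automorphisms, `q = 3 mod 4` or `q` even.
-/

set_option autoImplicit false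
set_option linter.unusedSectionVars false

namespace Cfsg.Agent.H405.U4Out

open Cfsg Cfsg.Agent.H169.UAut Cfsg.Agent.H202.Psu Cfsg.Agent.H202.PsuCount
open Cfsg.Agent.ClassicalGeometry.GUBasic (detHom detHom_surjective card_rootsOfUnity_eq)
open Cfsg.Agent.LieClassical.HermBasic (conj conj_apply)
open Cfsg.Agent.ClassicalGeometry.PSUAutCount (gm toAut eq_of_toAut_eq)
open Cfsg.Agent.Schreier.PSU (f₁ f₂ toAut_eq mapGU conj_field f₁_eq_conj)
open Cfsg.Agent.H201.PsuGraph (orderOf_conj f₁_conj)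
open Cfsg.Agent.H201.PsuProj (ct coe_ct coe_ct_inv conj_conj)
open Cfsg.Agent.H999.PslGraph (bil bil_mulVec)
open Cfsg.Agent.H999.PslGraphOdd
open Cfsg.Agent.H403 (two_le_of_card)

variable {F : Type*} [Field F] [Fintype F] {p f q : ℕ}

/-! ### Moving -/

theorem Bd.map {Y : Subgroup (MulAut (PSU 4 F q))} (hY : Bd F q Y) (k : MulAut (PSU 4 F q)) :
    Bd F q (Y.map (MulAut.conj k).toMonoidHom) where
  inn := by
    have hN : (Inn (PSU 4 F q)).Normal := inn_normal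
    intro x hx
    have h1 : k⁻¹ * x * k⁻¹⁻¹ ∈ Inn (PSU 4 F q) := hN.conj_mem x hx k⁻¹
    refine ⟨k⁻¹ * x * k⁻¹⁻¹, hY.inn h1, ?_⟩
    change k * (k⁻¹ * x * k⁻¹⁻¹) * k⁻¹ = x
    group
  ord := by
    rintro _ ⟨y, hy, rfl⟩
    obtain ⟨g, hg⟩ := hY.ord y hy
    exact ⟨g, hg.trans (orderOf_injective (MulAut.conj k).toMonoidHom (MulAut.conj k).injective y).symm⟩

theorem det_mapGU_conj (hF : Fintype.card F = q ^ 2) (K : GU 4 F q) :
    detHom 4 hF (mapGU (conj hF) K) = (detHom 4 hF K)⁻¹ := by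
  rw [det_mapGU]
  apply root_ext
  have h1 := norm_of_root (detHom 4 hF K)
  rw [restrictRootsOfUnity_coe_apply, conj_apply]
  rw [show ((((detHom 4 hF K)⁻¹ : rootsOfUnity (q + 1) F) : Fˣ) : F) = ((((detHom 4 hF K) : Fˣ) : F))⁻¹ from
    Units.val_inv_eq_inv_val _]
  exact eq_inv_of_mul_eq_one_right h1

theorem Bd.move_eq (hF : Fintype.card F = q ^ 2) {Y : Subgroup (MulAut (PSU 4 F q))} (hY : Bd F q Y) {σ : F ≃+* F}
    {A A' : GU 4 F q} (hA : toAut A σ ∈ Y) (h : detHom 4 hF A' = detHom 4 hF A) : toAut A' σ ∈ Y := by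
  have h1 : f₁ (A' * A⁻¹) ∈ Y := hY.inn (mem_inn_of_det hF (by rw [map_mul, map_inv, h, mul_inv_cancel]))
  have h2 := Y.mul_mem h1 hA
  rwa [toAut_eq, ← mul_assoc, ← map_mul, inv_mul_cancel_right, ← toAut_eq] at h2

/-- **Moving.** -/
theorem Bd.move (hF : Fintype.card F = q ^ 2) {Y : Subgroup (MulAut (PSU 4 F q))} (hY : Bd F q Y)
    {A A' : GU 4 F q} (hA : toAut A (conj hF) ∈ Y) {u : rootsOfUnity (q + 1) F}
    (h : detHom 4 hF A' = u ^ 2 * detHom 4 hF A) :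
    ∃ Y' : Subgroup (MulAut (PSU 4 F q)), Bd F q Y' ∧ toAut A' (conj hF) ∈ Y' := by
  obtain ⟨K, hK⟩ := detHom_surjective (by norm_num : 1 ≤ 4) hF u
  refine ⟨_, hY.map (f₁ K), ?_⟩
  have h1 : toAut (K * A * (mapGU (conj hF) K)⁻¹) (conj hF) ∈ Y.map (MulAut.conj (f₁ K)).toMonoidHom := by
    rw [← f₁_conj]
    exact ⟨_, hA, rfl⟩
  refine (hY.map (f₁ K)).move_eq hF h1 ?_
  rw [h, map_mul, map_mul, map_inv, det_mapGU_conj, hK, inv_inv]
  rw [pow_two]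
  exact mul_right_comm _ _ _

/-- the quotient of two nonsquares -/
theorem exists_ratio (hF : Fintype.card F = q ^ 2) (hq : Odd q) {z₁ z₂ : rootsOfUnity (q + 1) F}
    (h1 : ¬ ∃ u, z₁ = u ^ 2) (h2 : ¬ ∃ u, z₂ = u ^ 2) : ∃ u : rootsOfUnity (q + 1) F, z₁ = u ^ 2 * z₂ := by
  have hfin : Finite (rootsOfUnity (q + 1) F) := inferInstance
  have hi : (powMonoidHom 2 : rootsOfUnity (q + 1) F →* rootsOfUnity (q + 1) F).range.index = 2 := by
    rw [IsCyclic.index_powMonoidHom_range, card_rootsOfUnity_eq hF]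
    obtain ⟨k, hk⟩ := hq
    exact Nat.gcd_eq_right ⟨k + 1, by rw [hk]; ring⟩
  have hmem : ∀ z : rootsOfUnity (q + 1) F,
      z ∈ (powMonoidHom 2 : rootsOfUnity (q + 1) F →* rootsOfUnity (q + 1) F).range ↔ ∃ u, z = u ^ 2 := by
    intro z
    constructor
    · rintro ⟨u, hu⟩
      exact ⟨u, hu.symm⟩
    · rintro ⟨u, hu⟩
      exact ⟨u, hu.symm⟩
  have h3 : z₁ * z₂⁻¹ ∈ (powMonoidHom 2 : rootsOfUnity (q + 1) F →* rootsOfUnity (q + 1) F).range := by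
    rw [Subgroup.mul_mem_iff_of_index_two hi, inv_mem_iff, hmem, hmem]
    exact ⟨fun h => absurd h h1, fun h => absurd h h2⟩
  obtain ⟨u, hu⟩ := (hmem _).1 h3
  exact ⟨u, by rw [← hu, inv_mul_cancel_right]⟩

/-! ### Isometries -/

section Iso

variable {F₀ : Type*} [Field F₀] {κ : Type} [Fintype κ] [DecidableEq κ]

/-- reindexing -/
def rh (e : Fin 4 ≃ κ) : GL κ F₀ →* GL (Fin 4) F₀ :=
  Units.map (Matrix.reindexAlgEquiv F₀ F₀ e.symm : Matrix κ κ F₀ ≃ₐ[F₀] Matrix (Fin 4) (Fin 4) F₀).toMulEquiv.toMonoidHom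

theorem coe_rh (e : Fin 4 ≃ κ) (G : GL κ F₀) :
    (rh e G : Matrix (Fin 4) (Fin 4) F₀) = (G : Matrix κ κ F₀).submatrix e e := rfl

theorem rh_inj (e : Fin 4 ≃ κ) : Function.Injective (rh (F₀ := F₀) e) := by
  apply Units.map_injective
  exact (Matrix.reindexAlgEquiv F₀ F₀ e.symm : Matrix κ κ F₀ ≃ₐ[F₀] Matrix (Fin 4) (Fin 4) F₀).injective

theorem ct_rh (e : Fin 4 ≃ κ) {C : Matrix κ κ F₀} (hC : C.det ≠ 0) {G : GL κ F₀}
    (hG : (G : Matrix κ κ F₀).transpose * C * G = C) : ct (rh e G) * rx e C hC = rx e C hC * rh e G := by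
  have h1 : (ct (rh e G))⁻¹ * rx e C hC * rh e G = rx e C hC := by
    apply Units.ext
    rw [Units.val_mul, Units.val_mul, coe_ct_inv, coe_rx, coe_rh, Matrix.transpose_submatrix,
      Matrix.submatrix_mul_equiv, Matrix.submatrix_mul_equiv, hG]
  calc ct (rh e G) * rx e C hC = ct (rh e G) * ((ct (rh e G))⁻¹ * rx e C hC * rh e G) := by rw [h1]
    _ = _ := by group

variable [Fintype F₀]

theorem exists_symp' (hF₀ : Fintype.card F₀ = q) {r : ℕ} (hr : r.Prime) (h : r ∣ q ^ 2 + 1) :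
    ∃ B P : GL (Fin 4) F₀, (B : Matrix (Fin 4) (Fin 4) F₀).transpose = (-1 : F₀) • (B : Matrix (Fin 4) (Fin 4) F₀) ∧
      (B : Matrix (Fin 4) (Fin 4) F₀).det = 1 ∧ ct P * B = B * P ∧ P ^ r = 1 ∧ P ≠ 1 := by
  have hJd : (Matrix.J (Fin 2) F₀).det = 1 := by
    rw [Matrix.J, Cfsg.Agent.ClassicalGeometry.Discriminant.det_fromBlocks_zero_left, Matrix.det_neg]
    simp
  have hJ : (Matrix.J (Fin 2) F₀).det ≠ 0 := by rw [hJd]; exact one_ne_zero
  have e : Fin 4 ≃ Fin 2 ⊕ Fin 2 := Fintype.equivOfCardEq (by simp)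
  have hcard : r ∣ Nat.card (Matrix.symplecticGroup (Fin 2) F₀) := by
    rw [S0245.result hF₀]
    refine Dvd.dvd.mul_left ?_ _
    rw [Finset.prod_range_succ, Finset.prod_range_one]
    refine Dvd.dvd.mul_left ?_ _
    have e1 : q ^ (2 * (1 + 1)) - 1 = (q ^ 2 + 1) * (q ^ 2 - 1) := by
      have := Nat.sq_sub_sq (q ^ 2) 1
      rw [one_pow, ← pow_mul] at this
      exact this
    rw [e1]
    exact h.mul_right _
  have hfin : Finite (Matrix.symplecticGroup (Fin 2) F₀) := inferInstance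
  have := Fact.mk hr
  obtain ⟨P', hP'⟩ := exists_prime_orderOf_dvd_card' r hcard
  obtain ⟨G, hG⟩ : ∃ G : GL (Fin 2 ⊕ Fin 2) F₀,
      G = (Matrix.symplecticGroup (Fin 2) F₀).subtype.toHomUnits P' := ⟨_, rfl⟩
  have hGm : (G : Matrix (Fin 2 ⊕ Fin 2) (Fin 2 ⊕ Fin 2) F₀) = P' := by rw [hG]; rfl
  refine ⟨rx e (Matrix.J (Fin 2) F₀) hJ, rh e G, ?_, ?_, ?_, ?_, ?_⟩
  · rw [rx_transpose, Matrix.J_transpose, coe_rx, neg_one_smul]
    rfl
  · rw [det_rx, hJd]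
  · apply ct_rh
    rw [hGm]
    exact SymplecticGroup.mem_iff'.1 P'.2
  · rw [← map_pow, hG, ← map_pow, ← hP', pow_orderOf_eq_one, map_one, map_one]
  · intro h1
    have h2 : G = 1 := rh_inj e (by rw [h1, map_one])
    have h3 : P' = 1 := by
      apply Subtype.ext
      rw [← hGm, h2]
      rfl
    rw [h3, orderOf_one] at hP'
    exact hr.one_lt.ne hP'

theorem exists_minus' (hF₀ : Fintype.card F₀ = q) (h2 : (2 : F₀) ≠ 0) {r : ℕ} (hr : r.Prime) (h : r ∣ q ^ 2 + 1) :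
    ∃ B P : GL (Fin 4) F₀, (B : Matrix (Fin 4) (Fin 4) F₀).transpose = (1 : F₀) • (B : Matrix (Fin 4) (Fin 4) F₀) ∧
      ¬ IsSquare (B : Matrix (Fin 4) (Fin 4) F₀).det ∧ ct P * B = B * P ∧ P ^ r = 1 ∧ P ≠ 1 := by
  obtain ⟨ν, hν⟩ := Cfsg.Agent.H999.PslGraphClasses.exists_not_isSquare h2
  have hab := aniso_of_not_isSquare hν
  have hν0 : ν ≠ 0 := by
    rintro rfl
    exact hν (IsSquare.zero)
  have hdet : (gramMinus 1 F₀ 0 (-ν)).det = 2 * 2 * ν := by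
    rw [det_gramMinus]
    ring
  have hd0 : (gramMinus 1 F₀ 0 (-ν)).det ≠ 0 := by
    rw [hdet]
    exact mul_ne_zero (mul_ne_zero h2 h2) hν0
  have e : Fin 4 ≃ (Fin 1 ⊕ Fin 1) ⊕ Fin 2 := Fintype.equivOfCardEq (by simp)
  have hcard : r ∣ Nat.card (isometryGroup F₀ (quadFormMinus 1 F₀ 0 (-ν))) := by
    have h3 := S0288.result hF₀ 2 (by norm_num) 0 (-ν) hab
    rw [show (2 : ℕ) - 1 = 1 from rfl] at h3
    rw [h3]
    exact (h.mul_left _).mul_right _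
  have hfin : Finite (isometryGroup F₀ (quadFormMinus 1 F₀ 0 (-ν))) := inferInstance
  have := Fact.mk hr
  obtain ⟨P', hP'⟩ := exists_prime_orderOf_dvd_card' r hcard
  obtain ⟨G, hG⟩ : ∃ G : GL ((Fin 1 ⊕ Fin 1) ⊕ Fin 2) F₀, G = P' := ⟨_, rfl⟩
  have hGt : (gramMinus 1 F₀ 0 (-ν)).transpose = gramMinus 1 F₀ 0 (-ν) := gramMinus_transpose 1 0 (-ν)
  refine ⟨rx e (gramMinus 1 F₀ 0 (-ν)) hd0, rh e G, ?_, ?_, ?_, ?_, ?_⟩
  · rw [rx_transpose, hGt, coe_rx, one_smul]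
  · rw [det_rx, hdet]
    rintro ⟨s, hs⟩
    exact hν ⟨s / 2, by field_simp; linear_combination hs⟩
  · apply ct_rh
    have h3 : ∀ v, bil (gramMinus 1 F₀ 0 (-ν)) ((G : Matrix _ _ F₀).mulVec v) ((G : Matrix _ _ F₀).mulVec v) =
        bil (gramMinus 1 F₀ 0 (-ν)) v v := by
      intro v
      rw [bil_gramMinus, bil_gramMinus, hG]
      congr 1
      exact P'.2 v 0
    have h4 : ∀ u v, bil (gramMinus 1 F₀ 0 (-ν)) ((G : Matrix _ _ F₀).mulVec u) ((G : Matrix _ _ F₀).mulVec v) =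
        bil (gramMinus 1 F₀ 0 (-ν)) u v := by
      intro u v
      have h5 := h3 (u + v)
      rw [Matrix.mulVec_add, bil_polar hGt, bil_polar hGt, h3, h3] at h5
      have h6 := add_left_cancel h5
      exact mul_left_cancel₀ h2 h6
    ext i k
    have h5 := h4 (Pi.single i 1) (Pi.single k 1)
    rw [bil_mulVec] at h5
    have h6 : ∀ C : Matrix ((Fin 1 ⊕ Fin 1) ⊕ Fin 2) ((Fin 1 ⊕ Fin 1) ⊕ Fin 2) F₀,
        bil C (Pi.single i 1) (Pi.single k 1) = C i k := by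
      intro C
      rw [bil, Matrix.mulVec_single_one, single_dotProduct, one_mul, Matrix.col_apply]
    rw [h6, h6] at h5
    exact h5
  · rw [← map_pow, hG, ← Subgroup.coe_pow, ← hP', pow_orderOf_eq_one, Subgroup.coe_one, map_one]
  · intro h1
    have h2 : G = 1 := rh_inj e (by rw [h1, map_one])
    have h3 : P' = 1 := by
      apply Subtype.ext
      rw [← hG, h2]
      rfl
    rw [h3, orderOf_one] at hP'
    exact hr.one_lt.ne hP'

end Iso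

/-! ### Graph automorphisms -/

theorem Bd.finish (hp : p.Prime) (hf : 1 ≤ f) (hq : q = p ^ f) (hF : Fintype.card F = q ^ 2)
    {Y : Subgroup (MulAut (PSU 4 F q))} (hY : Bd F q Y) {γ κ : MulAut (PSU 4 F q)} (hγY : γ ∈ Y)
    (hγ : orderOf γ = 2) (hκD : κ ∈ inndiagPSU 4 F q) {r : ℕ} (hr : r.Prime) (hr2 : r ≠ 2) (hrd : r ∣ q ^ 2 + 1)
    (hκ : orderOf κ = r) (hc : Commute γ κ) : 2 * Nat.gcd 4 (q + 1) ∣ (q ^ 2 + 1) * (q - 1) := by
  have h1 : Nat.Coprime r (Nat.gcd 4 (q + 1)) := by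
    rw [Nat.Prime.coprime_iff_not_dvd hr]
    intro h
    have h1 : r ∣ 2 ^ 2 := h.trans (Nat.gcd_dvd_left _ _)
    exact hr2 ((Nat.prime_dvd_prime_iff_eq hr Nat.prime_two).1 (hr.dvd_of_dvd_pow h1))
  have hκI : κ ∈ Inn (PSU 4 F q) := mem_inn_of_coprime hF (by norm_num) hκD (by rw [← hκ]; exact pow_orderOf_eq_one κ) h1
  obtain ⟨g, hg⟩ := hY.ord _ (Y.mul_mem hγY (hY.inn hκI))
  have h2 : Nat.Coprime (orderOf γ) (orderOf κ) := by
    rw [hγ, hκ, Nat.coprime_primes Nat.prime_two hr]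
    exact hr2.symm
  rw [hc.orderOf_mul_eq_mul_orderOf_of_coprime h2, hγ, hκ] at hg
  have h3 := up_r hp hf hq hF hr hr2 hrd g (by rw [hg]; exact dvd_mul_left _ _)
  rw [hg] at h3
  refine dvd_trans ?_ h3
  rw [mul_right_comm]
  exact dvd_mul_right _ _

/-- **`q = 3 mod 4`.** -/
theorem Bd.no_graph_four (hp : p.Prime) (hf : 1 ≤ f) (hq : q = p ^ f) (hF : Fintype.card F = q ^ 2) (hq4 : q % 4 = 3)
    {Y : Subgroup (MulAut (PSU 4 F q))} (hY : Bd F q Y) {A : GU 4 F q} (hA : toAut A (conj hF) ∈ Y) : False := by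
  have hpF := Fact.mk hp
  have hp2 : p ≠ 2 := by
    rintro rfl
    have : 2 ∣ q := by rw [hq]; exact dvd_pow_self 2 (by omega)
    omega
  have hfin : Fintype (GaloisField p f) := Fintype.ofFinite _
  have hF₀ : Fintype.card (GaloisField p f) = q := by
    rw [← Nat.card_eq_fintype_card, GaloisField.card p f (by omega), hq]
  obtain ⟨j, hj⟩ := H202.Descent.exists_hom (F := F) (F₀ := GaloisField p f) (orderOf_conj hF) two_pos (by
    rw [Nat.card_eq_fintype_card, Nat.card_eq_fintype_card, hF₀, hF])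
  obtain ⟨r, hr, hr2, hrd⟩ := exists_r (q := q) (by omega)
  have h2 : (2 : GaloisField p f) ≠ 0 := by
    intro h
    have h1 : ((2 : ℕ) : GaloisField p f) = 0 := by exact_mod_cast h
    rw [CharP.cast_eq_zero_iff (GaloisField p f) p] at h1
    exact hp2 ((Nat.prime_dvd_prime_iff_eq hp Nat.prime_two).1 h1)
  have key : ∃ (Y' : Subgroup (MulAut (PSU 4 F q))) (A' K : GU 4 F q), Bd F q Y' ∧ toAut A' (conj hF) ∈ Y' ∧
      orderOf (toAut A' (conj hF) : MulAut (PSU 4 F q)) = 2 ∧ orderOf (f₁ K : MulAut (PSU 4 F q)) = r ∧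
      Commute (toAut A' (conj hF) : MulAut (PSU 4 F q)) (f₁ K) := by
    by_cases hsq : ∃ u : rootsOfUnity (q + 1) F, detHom 4 hF A = u ^ 2
    · obtain ⟨B, P, hB, hBd, hBP, hPr, hP1⟩ := exists_symp' hF₀ hr hrd
      obtain ⟨A', K, h1, h3, h4, h5⟩ := exists_rep hF hj (Or.inr rfl) hB hBP hr hr2 hPr hP1
      obtain ⟨v, hv⟩ := h5.1 (by rw [hBd]; exact IsSquare.one)
      obtain ⟨u, hu⟩ := hsq
      obtain ⟨Y', hY', hA'⟩ := hY.move hF hA (A' := A') (u := v * u⁻¹) (by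
        rw [hv, hu, ← mul_pow, inv_mul_cancel_right])
      exact ⟨Y', A', K, hY', hA', h1, h3, h4⟩
    · obtain ⟨B, P, hB, hBd, hBP, hPr, hP1⟩ := exists_minus' hF₀ h2 hr hrd
      obtain ⟨A', K, h1, h3, h4, h5⟩ := exists_rep hF hj (Or.inl rfl) hB hBP hr hr2 hPr hP1
      have h6 : ¬ ∃ u : rootsOfUnity (q + 1) F, detHom 4 hF A' = u ^ 2 := fun h => hBd (h5.2 h)
      obtain ⟨u, hu⟩ := exists_ratio hF (Nat.odd_iff.2 (by omega)) h6 hsq
      obtain ⟨Y', hY', hA'⟩ := hY.move hF hA (A' := A') (u := u) hu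
      exact ⟨Y', A', K, hY', hA', h1, h3, h4⟩
  obtain ⟨Y', A', K, hY', hA', h1, h3, h4⟩ := key
  have h5 := hY'.finish hp hf hq hF hA' h1 (by rw [inndiag_eq]; exact ⟨K, rfl⟩) hr hr2 hrd h3 h4
  have h6 : Nat.gcd 4 (q + 1) = 4 := Nat.gcd_eq_left (by omega)
  rw [h6] at h5
  obtain ⟨m, hm⟩ : ∃ m, q = 4 * m + 3 := ⟨q / 4, by omega⟩
  rw [hm, show 4 * m + 3 - 1 = 4 * m + 2 by omega,
    show ((4 * m + 3) ^ 2 + 1) * (4 * m + 2) = 8 * (8 * m ^ 3 + 16 * m ^ 2 + 11 * m + 2) + 4 by ring] at h5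
  omega

/-- **`q` even.** -/
theorem Bd.no_graph_two (hf : 1 ≤ f) (hq : q = 2 ^ f) (hF : Fintype.card F = q ^ 2)
    {Y : Subgroup (MulAut (PSU 4 F q))} (hY : Bd F q Y) {A : GU 4 F q} (hA : toAut A (conj hF) ∈ Y) : False := by
  have hq2 : q % 2 = 0 := by
    rw [hq]
    obtain ⟨j, rfl⟩ := Nat.exists_eq_add_of_le hf
    rw [pow_add, pow_one]
    omega
  have hq0 : 2 ≤ q := two_le_of_card (card' hF)
  have hg : Nat.gcd 4 (q + 1) = 1 := by
    have h2 : Nat.Coprime 2 (q + 1) := (Nat.Prime.coprime_iff_not_dvd Nat.prime_two).2 (by omega)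
    exact Nat.Coprime.pow_left 2 h2
  have hDI := inndiag_eq_inn (n := 4) hF (by norm_num) hg
  have hDY : inndiagPSU 4 F q ≤ Y := by rw [hDI]; exact hY.inn
  obtain ⟨γ, hγ2, ⟨d, hdD, hd⟩, hγ⟩ := H169.U4.graph_four hf hq hF
  have hf₂ : f₂ (conj hF) ∈ Y := by
    have h1 : f₁ A ∈ Y := hDY (by rw [inndiag_eq]; exact ⟨A, rfl⟩)
    have h2 := Y.mul_mem (Y.inv_mem h1) hA
    rwa [toAut_eq, inv_mul_cancel_left] at h2
  have hγY : γ ∈ Y := by
    rw [hd]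
    exact Y.mul_mem (hDY hdD) hf₂
  obtain ⟨r, hr, hr2, hrd⟩ := exists_r (q := q) hq0
  have e1 : q ^ 4 - 1 = (q ^ 2 + 1) * (q ^ 2 - 1) := by
    have := Nat.sq_sub_sq (q ^ 2) 1
    rwa [one_pow, ← pow_mul] at this
  obtain ⟨κ, hκD, hκ, hc⟩ := hγ r hr (by rw [e1]; exact (hrd.mul_right _).mul_left _)
  have h5 := hY.finish Nat.prime_two hf hq hF hγY hγ2 hκD hr hr2 hrd hκ hc
  rw [hg, mul_one] at h5
  obtain ⟨m, hm⟩ : ∃ m, q = 2 * m + 2 := ⟨q / 2 - 1, by omega⟩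
  rw [hm, show 2 * m + 2 - 1 = 2 * m + 1 by omega,
    show ((2 * m + 2) ^ 2 + 1) * (2 * m + 1) = 2 * (4 * m ^ 3 + 10 * m ^ 2 + 9 * m + 2) + 1 by ring] at h5
  omega

end Cfsg.Agent.H405.U4Out
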